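import Mathlib.RingTheory.HopfAlgebra.Convolution
import Mathlib.RingTheory.Bialgebra.Convolution

/-!
Translations of a commutative Hopf algebra by rational points, through the convolution monoid.
-/

universe u v w

open TensorProduct WithConv

namespace GrothLib.Hopf

variable {R : Type u} [CommRing R]

section
variable {A : Type v} [CommRing A] [Bialgebra R A] {C D : Type*} [CommRing C] [Algebra R C]
  [CommRing D] [Algebra R D]

theorem comp_convOne (h : C →ₐ[R] D) :
    h.comp (1 : WithConv (A →ₐ[R] C)).ofConv = (1 : WithConv (A →ₐ[R] D)).ofConv :=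
  AlgHom.ext fun _ => h.commutes _

theorem comp_convMul (h : C →ₐ[R] D) (f g : WithConv (A →ₐ[R] C)) :
    toConv (h.comp (f * g).ofConv) = toConv (h.comp f.ofConv) * toConv (h.comp g.ofConv) := by
  rw [AlgHom.comp_convMul_distrib]

variable {B : Type v} [CommRing B] [Bialgebra R B]

theorem convOne_comp_bialgHom (φ : B →ₐc[R] A) :
    (1 : WithConv (A →ₐ[R] C)).ofConv.comp (φ : B →ₐ[R] A) = (1 : WithConv (B →ₐ[R] C)).ofConv := by
  ext b
  change algebraMap R C (Coalgebra.counit (φ b)) = algebraMap R C (Coalgebra.counit b)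
  rw [CoalgHomClass.counit_comp_apply]

theorem convMul_comp_bialgHom (φ : B →ₐc[R] A) (f g : WithConv (A →ₐ[R] C)) :
    toConv ((f * g).ofConv.comp (φ : B →ₐ[R] A)) =
      toConv (f.ofConv.comp (φ : B →ₐ[R] A)) * toConv (g.ofConv.comp (φ : B →ₐ[R] A)) := by
  rw [AlgHom.convMul_comp_bialgHom_distrib]

/-- Left translation by an `R`-point. -/
noncomputable def shift (g : WithConv (A →ₐ[R] R)) : A →ₐ[R] A :=
  (toConv ((Algebra.ofId R A).comp g.ofConv) * toConv (AlgHom.id R A)).ofConv

theorem comp_shift (g : WithConv (A →ₐ[R] R)) (u : A →ₐ[R] C) :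
    toConv (u.comp (shift g)) = toConv ((Algebra.ofId R C).comp g.ofConv) * toConv u := by
  rw [shift, comp_convMul, ofConv_toConv, ofConv_toConv, AlgHom.comp_id, ← AlgHom.comp_assoc]
  congr 3
  exact Subsingleton.elim _ _

theorem point_comp_shift (g h : WithConv (A →ₐ[R] R)) :
    toConv (h.ofConv.comp (shift g)) = g * h := by
  rw [comp_shift]
  congr 1

theorem shift_one : shift (1 : WithConv (A →ₐ[R] R)) = AlgHom.id R A := by
  rw [shift, comp_convOne, toConv_ofConv, one_mul]

theorem shift_comp_shift (g h : WithConv (A →ₐ[R] R)) :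
    (shift g).comp (shift h) = shift (h * g) := by
  apply toConv_injective
  rw [comp_shift]
  conv_rhs => rw [shift, comp_convMul, toConv_ofConv, mul_assoc]
  rw [shift, toConv_ofConv]

theorem shift_comp_bialgHom (φ : B →ₐc[R] A) (g : WithConv (A →ₐ[R] R)) :
    (shift g).comp (φ : B →ₐ[R] A) =
      (φ : B →ₐ[R] A).comp (shift (toConv (g.ofConv.comp (φ : B →ₐ[R] A)))) := by
  apply toConv_injective
  rw [comp_shift, shift, convMul_comp_bialgHom, ofConv_toConv, ofConv_toConv, ofConv_toConv,
    AlgHom.comp_assoc, AlgHom.id_comp]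

end

section
variable {A : Type v} [CommRing A] [HopfAlgebra R A] {C : Type w} [CommRing C] [Algebra R C]

theorem comp_antipode_mul (f : A →ₐ[R] C) :
    toConv (f.comp (HopfAlgebra.antipodeAlgHom R A)) * toConv f = 1 := by
  have h := comp_convMul f (toConv (HopfAlgebra.antipodeAlgHom R A)) (toConv (AlgHom.id R A))
  rw [AlgHom.antipode_id_cancel, comp_convOne, ofConv_toConv, ofConv_toConv, AlgHom.comp_id,
    toConv_ofConv] at h
  exact h.symm

/-- The inverse of a point. -/
noncomputable def pinv (f : WithConv (A →ₐ[R] C)) : WithConv (A →ₐ[R] C) :=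
  toConv (f.ofConv.comp (HopfAlgebra.antipodeAlgHom R A))

theorem pinv_mul (f : WithConv (A →ₐ[R] C)) : pinv f * f = 1 := comp_antipode_mul f.ofConv

theorem mul_pinv (f : WithConv (A →ₐ[R] C)) : f * pinv f = 1 := by
  calc f * pinv f = pinv (pinv f) * pinv f * (f * pinv f) := by rw [pinv_mul (pinv f), one_mul]
    _ = pinv (pinv f) * (pinv f * f) * pinv f := by simp only [mul_assoc]
    _ = 1 := by rw [pinv_mul f, mul_one, pinv_mul]

/-- Translation by an `R`-point, as an automorphism. -/
noncomputable def shiftEquiv (g : WithConv (A →ₐ[R] R)) : A ≃ₐ[R] A :=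
  AlgEquiv.ofAlgHom (shift g) (shift (pinv g)) (by rw [shift_comp_shift, pinv_mul, shift_one])
    (by rw [shift_comp_shift, mul_pinv, shift_one])

theorem shiftEquiv_apply (g : WithConv (A →ₐ[R] R)) (a : A) : shiftEquiv g a = shift g a := rfl

theorem bialgHom_antipode {B : Type v} [CommRing B] [HopfAlgebra R B] (φ : B →ₐc[R] A) (b : B) :
    HopfAlgebraStruct.antipode R (φ b) = φ (HopfAlgebraStruct.antipode R b) := by
  set f : B →ₐ[R] A := (φ : B →ₐ[R] A)
  have h1 : toConv ((HopfAlgebra.antipodeAlgHom R A).comp f) * toConv f = 1 := by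
    have h := convMul_comp_bialgHom (C := A) φ (toConv (HopfAlgebra.antipodeAlgHom R A)) (toConv (AlgHom.id R A))
    rw [AlgHom.antipode_id_cancel, convOne_comp_bialgHom, toConv_ofConv] at h
    exact h.symm
  have h2 : toConv f * toConv (f.comp (HopfAlgebra.antipodeAlgHom R B)) = 1 := mul_pinv (toConv f)
  exact DFunLike.congr_fun (toConv_injective (left_inv_eq_right_inv h1 h2)) b

end

end GrothLib.Hopf
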