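import Mathlib.RingTheory.HopfAlgebra.Convolution

/-!
The antipode of a commutative Hopf algebra: involutivity and behaviour on the comultiplication.
-/

universe u v

open TensorProduct WithConv

namespace GrothLib.Hopf

variable (R : Type u) [CommRing R] {A : Type v} [CommRing A] [HopfAlgebra R A]

theorem antipode_antipode (a : A) :
    HopfAlgebraStruct.antipode R (HopfAlgebraStruct.antipode R a) = a := by
  set S := HopfAlgebra.antipodeAlgHom R A
  have h2 : (toConv (AlgHom.id R A))⁻¹ = toConv S := WithConv.ext (AlgHom.id_comp S)
  have h3 : (toConv S)⁻¹ = toConv (S.comp S) := rfl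
  have h4 : S.comp S = AlgHom.id R A := by
    have := inv_inv (toConv (AlgHom.id R A))
    rw [h2, h3] at this
    exact congrArg WithConv.ofConv this
  exact DFunLike.congr_fun h4 a

theorem comul_antipode (a : A) :
    Coalgebra.comul (R := R) (HopfAlgebraStruct.antipode R a) =
      TensorProduct.map (HopfAlgebraStruct.antipode R) (HopfAlgebraStruct.antipode R)
        (TensorProduct.comm R A A (Coalgebra.comul (R := R) a)) := by
  set S := HopfAlgebra.antipodeAlgHom R A
  set i₁ : WithConv (A →ₐ[R] A ⊗[R] A) := toConv Algebra.TensorProduct.includeLeft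
  set i₂ : WithConv (A →ₐ[R] A ⊗[R] A) := toConv Algebra.TensorProduct.includeRight
  have hprod : i₁ * i₂ = toConv (Bialgebra.comulAlgHom R A) := by
    ext c
    rw [AlgHom.convMul_apply]
    change _ = Coalgebra.comul (R := R) c
    generalize Coalgebra.comul (R := R) c = x
    induction x using TensorProduct.induction_on with
    | zero => simp
    | tmul p q => simp [i₁, i₂]
    | add p q hp hq => simp only [map_add, hp, hq]
  have hinv : (toConv ((Bialgebra.comulAlgHom R A).comp S)) = i₂⁻¹ * i₁⁻¹ := by
    refine Eq.trans ?_ (mul_inv_rev i₁ i₂)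
    rw [hprod]
    rfl
  have := congrArg (fun f : WithConv (A →ₐ[R] A ⊗[R] A) => f.ofConv a) hinv
  simp only [AlgHom.convMul_apply] at this
  refine Eq.trans (by exact this) ?_
  induction Coalgebra.comul (R := R) a using TensorProduct.induction_on with
  | zero => simp
  | tmul p q =>
    change (1 : A) ⊗ₜ[R] S p * S q ⊗ₜ[R] (1 : A) = _
    rw [Algebra.TensorProduct.tmul_mul_tmul, one_mul, mul_one]
    rfl
  | add p q hp hq => simp only [map_add, hp, hq]

end GrothLib.Hopf
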