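import Groth.Prelude.Def_HopfRep
import Mathlib.LinearAlgebra.TensorProduct.Finiteness
import Mathlib.RingTheory.Flat.Basic
import Mathlib.Algebra.Module.Projective
import Mathlib.LinearAlgebra.DirectSum.Finsupp

/-!
Comodules: matrix coefficients, subcomodules generated by sets of vectors.
-/

universe u v w

open TensorProduct

namespace GrothLib.Hopf.Comod

variable {k : Type u} {C : Type v} [CommRing k] [AddCommGroup C] [Module k C] [Coalgebra k C]
  {V : Type w} [AddCommGroup V] [Module k V] [HopfRep.Comod k C V]

local notation "ρ" => (HopfRep.Comod.coact (k := k) (A := C) (V := V))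

/-- The endomorphism attached to a linear form on the coalgebra. -/
noncomputable def op (f : Module.Dual k C) : V →ₗ[k] V :=
  (TensorProduct.rid k V).toLinearMap ∘ₗ LinearMap.lTensor V f ∘ₗ ρ

theorem op_counit (v : V) : op (k := k) (C := C) Coalgebra.counit v = v := by
  have h := LinearMap.congr_fun (HopfRep.Comod.counit_comp (k := k) (A := C) (V := V)) v
  simp only [LinearMap.comp_apply] at h
  simp only [op, LinearMap.comp_apply, LinearEquiv.coe_coe, h]
  simp

/-- Contracting an element of `W ⊗ C` lands in `W`. -/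
theorem rid_lTensor_mem {W : Submodule k V} {x : V ⊗[k] C}
    (hx : x ∈ LinearMap.range (W.subtype.rTensor C)) (f : Module.Dual k C) :
    TensorProduct.rid k V (LinearMap.lTensor V f x) ∈ W := by
  obtain ⟨y, rfl⟩ := hx
  induction y using TensorProduct.induction_on with
  | zero => simp
  | tmul w c => simpa using W.smul_mem (f c) w.2
  | add a b ha hb => rw [map_add, map_add, map_add]; exact W.add_mem ha hb

theorem op_mem_of_isSubcomod {W : Submodule k V} (hW : HopfRep.IsSubcomod (k := k) (A := C) W)
    {v : V} (hv : v ∈ W) (f : Module.Dual k C) : op f v ∈ W :=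
  rid_lTensor_mem (hW v hv) f

/-- The span of all contractions of vectors of `M`. -/
noncomputable def gen (M : Submodule k V) : Submodule k V := ⨆ f : Module.Dual k C, M.map (op f)

theorem le_gen (M : Submodule k V) : M ≤ gen (C := C) M := fun v hv =>
  Submodule.mem_iSup_of_mem Coalgebra.counit ⟨v, hv, op_counit v⟩

theorem op_mem_gen {M : Submodule k V} {v : V} (hv : v ∈ M) (f : Module.Dual k C) : op f v ∈ gen (C := C) M :=
  Submodule.mem_iSup_of_mem f ⟨v, hv, rfl⟩

theorem gen_le {M W : Submodule k V} (hW : HopfRep.IsSubcomod (k := k) (A := C) W) (h : M ≤ W) :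
    gen (C := C) M ≤ W :=
  iSup_le fun f => by
    rintro _ ⟨v, hv, rfl⟩
    exact op_mem_of_isSubcomod hW (h hv) f

section Projective

variable [Module.Projective k C]

variable (k C) in
/-- A dual family of a projective coalgebra. -/
theorem exists_dualFamily :
    ∃ (f : C → Module.Dual k C),
      ∀ c : C, ∃ t : Finset C, (∀ e, e ∉ t → f e c = 0) ∧ ∑ e ∈ t, f e c • e = c := by
  obtain ⟨s, hs⟩ := Module.Projective.out (R := k) (P := C)
  refine ⟨fun e => Finsupp.lapply e ∘ₗ s, fun c => ⟨(s c).support, fun e he => ?_, ?_⟩⟩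
  · exact Finsupp.notMem_support_iff.mp he
  · exact ((Finsupp.linearCombination_apply k (s c)).symm.trans (hs c) :)

theorem coact_eq_sum {f : C → Module.Dual k C}
    (hf : ∀ c : C, ∃ t : Finset C, (∀ e, e ∉ t → f e c = 0) ∧ ∑ e ∈ t, f e c • e = c) (v : V) :
    ∃ t : Finset C, ρ v = ∑ e ∈ t, op (f e) v ⊗ₜ[k] e := by
  classical
  have : ∀ x : V ⊗[k] C, ∃ t : Finset C, ∀ t', t ⊆ t' →
      x = ∑ e ∈ t', TensorProduct.rid k V (LinearMap.lTensor V (f e) x) ⊗ₜ[k] e := by
    intro x
    induction x using TensorProduct.induction_on with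
    | zero => exact ⟨∅, fun t _ => by simp⟩
    | tmul w c =>
      obtain ⟨t, h0, ht⟩ := hf c
      refine ⟨t, fun t' htt' => ?_⟩
      rw [← Finset.sum_subset htt' (fun e _ he => by simp [h0 e he])]
      conv_lhs => rw [← ht]
      simp [TensorProduct.tmul_sum, TensorProduct.smul_tmul]
    | add a b ha hb =>
      obtain ⟨ta, ha⟩ := ha
      obtain ⟨tb, hb⟩ := hb
      refine ⟨ta ∪ tb, fun t' h => ?_⟩
      have h1 := ha t' (Finset.union_subset_left h)
      have h2 := hb t' (Finset.union_subset_right h)
      conv_lhs => rw [h1, h2]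
      rw [← Finset.sum_add_distrib]
      simp [map_add, TensorProduct.add_tmul]
  obtain ⟨t, ht⟩ := this (ρ v)
  exact ⟨t, ht t subset_rfl⟩

theorem gen_isSubcomod (M : Submodule k V) : HopfRep.IsSubcomod (k := k) (A := C) (gen (C := C) M) := by
  obtain ⟨f, hf⟩ := exists_dualFamily k C
  intro w hw
  induction hw using Submodule.iSup_induction' with
  | mem g w hw =>
    obtain ⟨v, hv, rfl⟩ := hw
    obtain ⟨t, ht⟩ := coact_eq_sum hf v
    have hcomm : ρ ∘ₗ ((TensorProduct.rid k V).toLinearMap ∘ₗ LinearMap.lTensor V g) =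
        (LinearMap.lTensor V ((TensorProduct.rid k C).toLinearMap ∘ₗ LinearMap.lTensor C g)) ∘ₗ
          (TensorProduct.assoc k V C C).toLinearMap ∘ₗ LinearMap.rTensor C ρ := by
      ext a c
      simp only [TensorProduct.AlgebraTensorModule.curry_apply, TensorProduct.curry_apply,
        LinearMap.coe_restrictScalars, LinearMap.comp_apply, LinearMap.lTensor_tmul, LinearEquiv.coe_coe,
        TensorProduct.rid_tmul, map_smul, LinearMap.rTensor_tmul]
      induction ρ a using TensorProduct.induction_on with
      | zero => simp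
      | tmul p q => simp [TensorProduct.smul_tmul']
      | add p q hp hq => rw [TensorProduct.add_tmul, map_add, map_add, ← hp, ← hq, smul_add]
    have h1 : ρ (op g v) =
        LinearMap.lTensor V ((TensorProduct.rid k C).toLinearMap ∘ₗ LinearMap.lTensor C g)
          (LinearMap.lTensor V (Coalgebra.comul (R := k) (A := C)) (ρ v)) := by
      have h2 := LinearMap.congr_fun hcomm (ρ v)
      simp only [LinearMap.comp_apply] at h2
      have h3 := LinearMap.congr_fun (HopfRep.Comod.coassoc (k := k) (A := C) (V := V)) v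
      simp only [LinearMap.comp_apply] at h3
      rw [op, LinearMap.comp_apply, LinearMap.comp_apply, h2, h3]
    rw [h1, ht]
    simp only [map_sum, LinearMap.lTensor_tmul]
    refine Submodule.sum_mem _ fun e _ => ?_
    exact ⟨⟨_, op_mem_gen hv (f e)⟩ ⊗ₜ[k] _, rfl⟩
  | zero => rw [map_zero]; exact zero_mem _
  | add x y _ _ hx hy => rw [map_add]; exact add_mem hx hy

theorem gen_fg {M : Submodule k V} (hM : M.FG) : (gen (C := C) M).FG := by
  classical
  obtain ⟨f, hf⟩ := exists_dualFamily k C
  obtain ⟨s, rfl⟩ := hM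
  choose t ht using fun v : V => coact_eq_sum hf v
  refine ⟨s.biUnion fun v => (t v).image fun e => op (f e) v, le_antisymm ?_ ?_⟩
  · rw [Submodule.span_le]
    intro x hx
    simp only [Finset.coe_biUnion, Set.mem_iUnion, Finset.coe_image, Set.mem_image] at hx
    obtain ⟨v, hv, e, -, rfl⟩ := hx
    exact op_mem_gen (Submodule.subset_span hv) _
  · refine iSup_le fun g => ?_
    rw [Submodule.map_span, Submodule.span_le]
    rintro _ ⟨v, hv, rfl⟩
    rw [SetLike.mem_coe]
    have : op g v = ∑ e ∈ t v, g e • op (f e) v := by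
      rw [op, LinearMap.comp_apply, LinearMap.comp_apply, ht v, map_sum, map_sum]
      exact Finset.sum_congr rfl fun e _ => by simp
    rw [this]
    refine Submodule.sum_mem _ fun e he => Submodule.smul_mem _ _ (Submodule.subset_span ?_)
    simp only [Finset.coe_biUnion, Set.mem_iUnion, Finset.coe_image, Set.mem_image]
    exact ⟨v, hv, e, he, rfl⟩

theorem exists_smallest (M : Submodule k V) :
    ∃ W : Submodule k V, HopfRep.IsSubcomod (k := k) (A := C) W ∧ M ≤ W ∧
      (∀ W' : Submodule k V, HopfRep.IsSubcomod (k := k) (A := C) W' → M ≤ W' → W ≤ W') ∧ (M.FG → W.FG) :=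
  ⟨gen (C := C) M, gen_isSubcomod M, le_gen M, fun _ hW h => gen_le hW h, gen_fg⟩

end Projective

theorem exists_fg_of_flat [IsNoetherianRing k] [Module.Flat k C] (M : Submodule k V) (hM : M.FG) :
    ∃ W : Submodule k V, HopfRep.IsSubcomod (k := k) (A := C) W ∧ M ≤ W ∧ W.FG := by
  classical
  obtain ⟨s, rfl⟩ := hM
  choose S hS using fun v : V => TensorProduct.exists_finset (R := k) (ρ v)
  set N : Submodule k V := Submodule.span k ↑(s.biUnion fun v => (S v).image Prod.fst) with hN
  set q : V →ₗ[k] (V ⧸ N) ⊗[k] C := LinearMap.rTensor C N.mkQ ∘ₗ ρ with hq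
  have hNfg : N.FG := ⟨_, rfl⟩
  have hWN : LinearMap.ker q ≤ N := by
    intro v hv
    have h1 : LinearMap.lTensor (V ⧸ N) (Coalgebra.counit (R := k) (A := C)) (q v) = 0 := by
      rw [hv, map_zero]
    rw [hq, LinearMap.comp_apply, ← LinearMap.comp_apply (LinearMap.lTensor _ _),
      LinearMap.lTensor_comp_rTensor, ← LinearMap.rTensor_comp_lTensor, LinearMap.comp_apply] at h1
    have h2 := LinearMap.congr_fun (HopfRep.Comod.counit_comp (k := k) (A := C) (V := V)) v
    simp only [LinearMap.comp_apply] at h2
    rw [h2] at h1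
    simp only [LinearMap.flip_apply, TensorProduct.mk_apply, LinearMap.rTensor_tmul] at h1
    have h3 := congrArg (TensorProduct.rid k (V ⧸ N)) h1
    rw [TensorProduct.rid_tmul, one_smul, map_zero] at h3
    exact (Submodule.Quotient.mk_eq_zero N).mp h3
  refine ⟨LinearMap.ker q, ?_, ?_, ?_⟩
  · have hexact : Function.Exact (LinearMap.rTensor C (LinearMap.ker q).subtype) (LinearMap.rTensor C q) :=
      Module.Flat.rTensor_exact C (LinearMap.exact_subtype_ker_map q)
    intro w hw
    refine (hexact _).mp ?_
    rw [hq, LinearMap.rTensor_comp, LinearMap.comp_apply]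
    have h3 := LinearMap.congr_fun (HopfRep.Comod.coassoc (k := k) (A := C) (V := V)) w
    simp only [LinearMap.comp_apply, LinearEquiv.coe_coe] at h3
    have h4 : LinearMap.rTensor C ρ (ρ w) =
        (TensorProduct.assoc k V C C).symm (LinearMap.lTensor V (Coalgebra.comul (R := k) (A := C)) (ρ w)) := by
      rw [← h3, LinearEquiv.symm_apply_apply]
    rw [h4]
    have h5 : ∀ x : V ⊗[k] C,
        LinearMap.rTensor C (LinearMap.rTensor C N.mkQ)
          ((TensorProduct.assoc k V C C).symm (LinearMap.lTensor V (Coalgebra.comul (R := k) (A := C)) x)) =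
        (TensorProduct.assoc k (V ⧸ N) C C).symm
          (LinearMap.lTensor (V ⧸ N) (Coalgebra.comul (R := k) (A := C)) (LinearMap.rTensor C N.mkQ x)) := by
      intro x
      induction x using TensorProduct.induction_on with
      | zero => simp
      | tmul a c =>
        simp only [LinearMap.lTensor_tmul, LinearMap.rTensor_tmul]
        induction Coalgebra.comul (R := k) c using TensorProduct.induction_on with
        | zero => simp
        | tmul p r => simp
        | add p r hp hr => simp only [TensorProduct.tmul_add, map_add, hp, hr]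
      | add a b ha hb => simp only [map_add, ha, hb]
    rw [h5, show LinearMap.rTensor C N.mkQ (ρ w) = 0 from hw, map_zero, map_zero]
  · rw [Submodule.span_le]
    intro v hv
    rw [SetLike.mem_coe, LinearMap.mem_ker, hq, LinearMap.comp_apply, hS v, map_sum]
    refine Finset.sum_eq_zero fun p hp => ?_
    rw [LinearMap.rTensor_tmul, Submodule.mkQ_apply, (Submodule.Quotient.mk_eq_zero N).mpr ?_,
      TensorProduct.zero_tmul]
    exact Submodule.subset_span (Finset.mem_biUnion.mpr ⟨v, hv, Finset.mem_image_of_mem _ hp⟩)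
  · haveI : Module.Finite k N := Module.Finite.iff_fg.mpr hNfg
    haveI : IsNoetherian k N := isNoetherian_of_isNoetherianRing_of_finite k N
    have h := (IsNoetherian.noetherian (Submodule.comap N.subtype (LinearMap.ker q))).map N.subtype
    rwa [Submodule.map_comap_subtype, inf_eq_right.mpr hWN] at h

end GrothLib.Hopf.Comod
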