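import Groth.Prelude.Def_SGA3
import Groth.Agent.Lib.Hopf.Antipode
import Groth.Agent.Lib.Hopf.Comod
import Mathlib.RingTheory.Adjoin.FG
import Mathlib.RingTheory.Flat.Basic
import Mathlib.LinearAlgebra.Basis.VectorSpace
import Mathlib.LinearAlgebra.Dimension.Free
import Mathlib.LinearAlgebra.FiniteDimensional.Basic

/-!
Sub-Hopf algebras over a field: the induced structure, and finitely generated ones.
-/

universe u

open TensorProduct

namespace GrothLib.Hopf.Sub

variable {k : Type u} [Field k] {A : Type u} [CommRing A] [HopfAlgebra k A] {B : Subalgebra k A}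

/-- `B ⊗ B → A ⊗ A`. -/
noncomputable def incl₂ (B : Subalgebra k A) : ↥B ⊗[k] ↥B →ₐ[k] A ⊗[k] A :=
  Algebra.TensorProduct.map B.val B.val

theorem incl₂_injective : Function.Injective (incl₂ B) := by
  have h : Function.Injective (TensorProduct.map B.val.toLinearMap B.val.toLinearMap) :=
    TensorProduct.map_injective_of_flat_flat _ _ Subtype.val_injective Subtype.val_injective
  exact h

theorem comul_mem (hB : SGA3.IsHopfSubalgebra k A B) (b : B) :
    Bialgebra.comulAlgHom k A b ∈ (incl₂ B).range := by
  obtain ⟨y, hy⟩ := hB.1 b b.2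
  exact ⟨y, hy⟩

/-- The comultiplication of a sub-Hopf algebra. -/
noncomputable def comul (hB : SGA3.IsHopfSubalgebra k A B) : ↥B →ₐ[k] ↥B ⊗[k] ↥B :=
  (AlgEquiv.ofInjective (incl₂ B) incl₂_injective).symm.toAlgHom.comp
    (((Bialgebra.comulAlgHom k A).comp B.val).codRestrict (incl₂ B).range (comul_mem hB))

theorem incl₂_comul (hB : SGA3.IsHopfSubalgebra k A B) (b : B) :
    incl₂ B (comul hB b) = CoalgebraStruct.comul (R := k) (b : A) := by
  have h := AlgEquiv.ofInjective_apply (incl₂ B) incl₂_injective (comul hB b)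
  rw [comul, AlgHom.comp_apply] at h
  erw [AlgEquiv.apply_symm_apply] at h
  exact h.symm

/-- The antipode of a sub-Hopf algebra. -/
noncomputable def antipode (hB : SGA3.IsHopfSubalgebra k A B) : ↥B →ₐ[k] ↥B :=
  ((HopfAlgebra.antipodeAlgHom k A).comp B.val).codRestrict B fun b => hB.2 b b.2

theorem coe_antipode (hB : SGA3.IsHopfSubalgebra k A B) (b : B) :
    (antipode hB b : A) = HopfAlgebraStruct.antipode k (b : A) := rfl

theorem counit_comul₁ (hB : SGA3.IsHopfSubalgebra k A B) :
    (Algebra.TensorProduct.map ((Bialgebra.counitAlgHom k A).comp B.val) (.id k ↥B)).comp (comul hB) =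
      (Algebra.TensorProduct.lid k ↥B).symm := by
  refine AlgHom.ext fun b => ?_
  change (Algebra.TensorProduct.map ((Bialgebra.counitAlgHom k A).comp B.val) (.id k ↥B)) (comul hB b) =
    (1 : k) ⊗ₜ[k] b
  apply (Algebra.TensorProduct.lid k ↥B).injective
  apply Subtype.ext
  rw [Algebra.TensorProduct.lid_tmul, one_smul]
  have key : ∀ t : ↥B ⊗[k] ↥B, ((Algebra.TensorProduct.lid k ↥B)
      (Algebra.TensorProduct.map ((Bialgebra.counitAlgHom k A).comp B.val) (.id k ↥B) t) : A) =
      TensorProduct.lid k A (LinearMap.rTensor A Coalgebra.counit (incl₂ B t)) := fun t => by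
    induction t using TensorProduct.induction_on with
    | zero => simp
    | tmul p q => simp [incl₂]
    | add p q hp hq => simp only [map_add, Subalgebra.coe_add, hp, hq]
  rw [key, incl₂_comul, Coalgebra.rTensor_counit_comul]
  simp

theorem counit_comul₂ (hB : SGA3.IsHopfSubalgebra k A B) :
    (Algebra.TensorProduct.map (.id k ↥B) ((Bialgebra.counitAlgHom k A).comp B.val)).comp (comul hB) =
      (Algebra.TensorProduct.rid k k ↥B).symm := by
  refine AlgHom.ext fun b => ?_
  change (Algebra.TensorProduct.map (.id k ↥B) ((Bialgebra.counitAlgHom k A).comp B.val)) (comul hB b) =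
    b ⊗ₜ[k] (1 : k)
  apply (Algebra.TensorProduct.rid k k ↥B).injective
  apply Subtype.ext
  rw [Algebra.TensorProduct.rid_tmul, one_smul]
  have key : ∀ t : ↥B ⊗[k] ↥B, ((Algebra.TensorProduct.rid k k ↥B)
      (Algebra.TensorProduct.map (.id k ↥B) ((Bialgebra.counitAlgHom k A).comp B.val) t) : A) =
      TensorProduct.rid k A (LinearMap.lTensor A Coalgebra.counit (incl₂ B t)) := fun t => by
    induction t using TensorProduct.induction_on with
    | zero => simp
    | tmul p q => simp [incl₂]
    | add p q hp hq => simp only [map_add, Subalgebra.coe_add, hp, hq]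
  rw [key, incl₂_comul, Coalgebra.lTensor_counit_comul]
  simp

theorem coassoc (hB : SGA3.IsHopfSubalgebra k A B) :
    (Algebra.TensorProduct.assoc k k k ↥B ↥B ↥B).toAlgHom.comp
      ((Algebra.TensorProduct.map (comul hB) (.id k ↥B)).comp (comul hB))
      = (Algebra.TensorProduct.map (.id k ↥B) (comul hB)).comp (comul hB) := by
  let v : ↥B →ₗ[k] A := B.val.toLinearMap
  have hv : Function.Injective (TensorProduct.map v (TensorProduct.map v v)) :=
    TensorProduct.map_injective_of_flat_flat _ _ Subtype.val_injective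
      (TensorProduct.map_injective_of_flat_flat _ _ Subtype.val_injective Subtype.val_injective)
  refine AlgHom.ext fun b => hv ?_
  have k1 : ∀ t : ↥B ⊗[k] ↥B, TensorProduct.map v (TensorProduct.map v v)
      ((Algebra.TensorProduct.assoc k k k ↥B ↥B ↥B)
        (Algebra.TensorProduct.map (comul hB) (.id k ↥B) t)) =
      TensorProduct.assoc k A A A (LinearMap.rTensor A Coalgebra.comul (incl₂ B t)) := fun t => by
    induction t using TensorProduct.induction_on with
    | zero => simp
    | tmul p q =>
      have h : incl₂ B (p ⊗ₜ q) = (p : A) ⊗ₜ[k] (q : A) := rfl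
      rw [h, LinearMap.rTensor_tmul, ← incl₂_comul hB p, Algebra.TensorProduct.map_tmul, AlgHom.id_apply]
      induction comul hB p using TensorProduct.induction_on with
      | zero => simp
      | tmul x y => rfl
      | add x y hx hy => simp only [map_add, add_tmul, hx, hy]
    | add p q hp hq => simp only [map_add, hp, hq]
  have k2 : ∀ t : ↥B ⊗[k] ↥B, TensorProduct.map v (TensorProduct.map v v)
      (Algebra.TensorProduct.map (.id k ↥B) (comul hB) t) =
      LinearMap.lTensor A Coalgebra.comul (incl₂ B t) := fun t => by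
    induction t using TensorProduct.induction_on with
    | zero => simp
    | tmul p q =>
      have h : incl₂ B (p ⊗ₜ q) = (p : A) ⊗ₜ[k] (q : A) := rfl
      rw [h, LinearMap.lTensor_tmul, ← incl₂_comul hB q, Algebra.TensorProduct.map_tmul, AlgHom.id_apply]
      rfl
    | add p q hp hq => simp only [map_add, hp, hq]
  refine (k1 (comul hB b)).trans (Eq.trans ?_ (k2 (comul hB b)).symm)
  rw [incl₂_comul]
  exact Coalgebra.coassoc_apply _

/-- The bialgebra structure of a sub-Hopf algebra. -/
@[reducible] noncomputable def bialgebra (hB : SGA3.IsHopfSubalgebra k A B) : Bialgebra k ↥B :=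
  Bialgebra.ofAlgHom (comul hB) ((Bialgebra.counitAlgHom k A).comp B.val) (coassoc hB)
    (counit_comul₁ hB) (counit_comul₂ hB)

/-- The Hopf algebra structure of a sub-Hopf algebra. -/
@[reducible] noncomputable def hopfAlgebra (hB : SGA3.IsHopfSubalgebra k A B) : HopfAlgebra k ↥B :=
  letI := bialgebra hB
  HopfAlgebra.ofAlgHom (antipode hB)
    (by
      refine AlgHom.ext fun b => Subtype.ext ?_
      change ((Algebra.TensorProduct.lift (antipode hB) (.id k ↥B) fun _ ↦ Commute.all _) (comul hB b) : A) =
        algebraMap k A (Coalgebra.counit (R := k) (b : A))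
      rw [← HopfAlgebra.mul_antipode_rTensor_comul_apply (R := k) (b : A), ← incl₂_comul hB b]
      induction comul hB b using TensorProduct.induction_on with
      | zero => simp
      | tmul p q => simp [incl₂, coe_antipode]
      | add p q hp hq => simp only [map_add, Subalgebra.coe_add, hp, hq])
    (by
      refine AlgHom.ext fun b => Subtype.ext ?_
      change ((Algebra.TensorProduct.lift (.id k ↥B) (antipode hB) fun _ _ ↦ Commute.all _ _) (comul hB b) : A) =
        algebraMap k A (Coalgebra.counit (R := k) (b : A))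
      rw [← HopfAlgebra.mul_antipode_lTensor_comul_apply (R := k) (b : A), ← incl₂_comul hB b]
      induction comul hB b using TensorProduct.induction_on with
      | zero => simp
      | tmul p q => simp [incl₂, coe_antipode]
      | add p q hp hq => simp only [map_add, Subalgebra.coe_add, hp, hq])

/-- The inclusion, as a map of bialgebras. -/
noncomputable def valHom (hB : SGA3.IsHopfSubalgebra k A B) :
    letI := hopfAlgebra hB
    ↥B →ₐc[k] A :=
  letI := hopfAlgebra hB
  BialgHom.ofAlgHom B.val rfl (AlgHom.ext fun b => incl₂_comul hB b)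

/-- Finitely many elements lie in a finitely generated sub-Hopf algebra. -/
theorem exists_fg (s : Finset A) :
    ∃ C : Subalgebra k A, C.FG ∧ SGA3.IsHopfSubalgebra k A C ∧ (s : Set A) ⊆ C := by
  classical
  obtain ⟨W, hW, hsW, -, hWfg⟩ :=
    GrothLib.Hopf.Comod.exists_smallest (k := k) (C := A) (V := A) (Submodule.span k (s : Set A))
  haveI : Module.Finite k W := Module.Finite.iff_fg.mpr (hWfg ⟨s, rfl⟩)
  let b := Module.finBasis k W
  choose f hf using fun i => (W.subtype.exists_leftInverse_of_injective W.ker_subtype).elim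
    fun π hπ => (⟨b.coord i ∘ₗ π, fun w => by
      have := LinearMap.congr_fun hπ w
      simp only [LinearMap.comp_apply, Submodule.subtype_apply, LinearMap.id_apply] at this
      simp [this]⟩ : ∃ f : A →ₗ[k] k, ∀ w : W, f w = b.repr w i)
  let a : Fin (Module.finrank k W) → Fin (Module.finrank k W) → A := fun i j =>
    TensorProduct.lid k A (LinearMap.rTensor A (f i) (Coalgebra.comul (R := k) (b j : A)))
  have hexp : ∀ j, Coalgebra.comul (R := k) (b j : A) = ∑ i, (b i : A) ⊗ₜ[k] a i j := by
    intro j
    obtain ⟨y, hy⟩ := hW (b j : A) (b j).2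
    have : ∀ y : W ⊗[k] A, W.subtype.rTensor A y =
        ∑ i, (b i : A) ⊗ₜ[k] TensorProduct.lid k A (LinearMap.rTensor A (f i) (W.subtype.rTensor A y)) := by
      intro y
      induction y using TensorProduct.induction_on with
      | zero => simp
      | tmul w c =>
        simp only [LinearMap.rTensor_tmul, Submodule.subtype_apply, TensorProduct.lid_tmul, hf, tmul_smul,
          smul_tmul', ← sum_tmul, ← Submodule.coe_smul, ← Submodule.coe_sum, b.sum_repr]
      | add p q hp hq => rw [map_add]; conv_lhs => rw [hp, hq]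
                         simp only [map_add, tmul_add, Finset.sum_add_distrib]
    exact hy.symm.trans ((this y).trans (Finset.sum_congr rfl fun i _ => by rw [hy]; rfl))
  have ha : ∀ i j, Coalgebra.comul (R := k) (a i j) = ∑ l, a i l ⊗ₜ[k] a l j := by
    intro i j
    have h1 : ∀ y : A ⊗[k] A, Coalgebra.comul (R := k) (TensorProduct.lid k A (LinearMap.rTensor A (f i) y)) =
        TensorProduct.lid k (A ⊗[k] A) (LinearMap.rTensor (A ⊗[k] A) (f i)
          (LinearMap.lTensor A (Coalgebra.comul (R := k)) y)) := by
      intro y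
      induction y using TensorProduct.induction_on with
      | zero => simp
      | tmul p q => simp
      | add p q hp hq => simp only [map_add, hp, hq]
    change Coalgebra.comul (R := k) (TensorProduct.lid k A _) = _
    rw [h1, ← Coalgebra.coassoc_apply, hexp j]
    simp only [map_sum, LinearMap.rTensor_tmul]
    refine Finset.sum_congr rfl fun l _ => ?_
    change TensorProduct.lid k (A ⊗[k] A) (LinearMap.rTensor (A ⊗[k] A) (f i) (TensorProduct.assoc k A A A
      (Coalgebra.comul (R := k) (b l : A) ⊗ₜ[k] a l j))) =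
        TensorProduct.lid k A (LinearMap.rTensor A (f i) (Coalgebra.comul (R := k) (b l : A))) ⊗ₜ[k] a l j
    induction Coalgebra.comul (R := k) (b l : A) using TensorProduct.induction_on with
    | zero => simp
    | tmul p q => simp [smul_tmul']
    | add p q hp hq => simp only [map_add, add_tmul, hp, hq]
  set G : Set A := Set.range (fun p : _ × _ => a p.1 p.2) ∪
    Set.range (fun p : _ × _ => HopfAlgebraStruct.antipode k (a p.1 p.2))
  let C := Algebra.adjoin k G
  have hGC : ∀ i j, a i j ∈ C := fun i j => Algebra.subset_adjoin (Or.inl ⟨(i, j), rfl⟩)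
  have hSC : ∀ i j, HopfAlgebraStruct.antipode k (a i j) ∈ C :=
    fun i j => Algebra.subset_adjoin (Or.inr ⟨(i, j), rfl⟩)
  refine ⟨C, Subalgebra.fg_def.mpr ⟨G, (Set.finite_range _).union (Set.finite_range _), rfl⟩, ⟨?_, ?_⟩, ?_⟩
  · suffices C ≤ (incl₂ C).range.comap (Bialgebra.comulAlgHom k A) by
      intro x hx
      obtain ⟨y, hy⟩ := this hx
      exact ⟨y, hy⟩
    refine Algebra.adjoin_le ?_
    rintro _ (⟨⟨i, j⟩, rfl⟩ | ⟨⟨i, j⟩, rfl⟩)
    · refine ⟨∑ l, (⟨a i l, hGC i l⟩ : C) ⊗ₜ ⟨a l j, hGC l j⟩, ?_⟩
      simp [incl₂, ha]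
    · refine ⟨∑ l, (⟨_, hSC l j⟩ : C) ⊗ₜ ⟨_, hSC i l⟩, ?_⟩
      simp [incl₂, GrothLib.Hopf.comul_antipode, ha]
  · suffices C ≤ C.comap (HopfAlgebra.antipodeAlgHom k A) from fun x hx => this hx
    refine Algebra.adjoin_le ?_
    rintro _ (⟨⟨i, j⟩, rfl⟩ | ⟨⟨i, j⟩, rfl⟩)
    · exact hSC i j
    · change HopfAlgebraStruct.antipode k (HopfAlgebraStruct.antipode k (a i j)) ∈ C
      rw [GrothLib.Hopf.antipode_antipode]
      exact hGC i j
  · intro x hx
    have hmem : ∀ j, (b j : A) ∈ C := fun j => by
      have h := Coalgebra.rTensor_counit_comul (R := k) (b j : A)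
      rw [hexp j, map_sum] at h
      have h2 := congrArg (TensorProduct.lid k A) h
      simp only [map_sum, LinearMap.rTensor_tmul, TensorProduct.lid_tmul, one_smul] at h2
      rw [← h2]
      exact Subalgebra.sum_mem _ fun i _ => Subalgebra.smul_mem _ (hGC i j) _
    have hxW : x ∈ W := hsW (Submodule.subset_span hx)
    have : (⟨x, hxW⟩ : W) ∈ Submodule.span k (Set.range b) := b.span_eq ▸ trivial
    have h2 : x ∈ Submodule.map W.subtype (Submodule.span k (Set.range b)) := ⟨_, this, rfl⟩
    rw [Submodule.map_span] at h2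
    refine (Submodule.span_le (p := Subalgebra.toSubmodule C)).mpr ?_ h2
    rintro _ ⟨_, ⟨j, rfl⟩, rfl⟩
    exact hmem j

end GrothLib.Hopf.Sub
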