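import Groth.Agent.Lib.Hopf.FaithfulFG
import Groth.Agent.Lib.Hopf.Sub
import Mathlib.RingTheory.Flat.EquationalCriterion

/-!
Takeuchi's theorem: a commutative Hopf algebra over a field is faithfully flat over its sub-Hopf
algebras.
-/

universe u

open TensorProduct

namespace GrothLib.Hopf

variable {k : Type u} [Field k] {A B : Type u} [CommRing A] [HopfAlgebra k A] [CommRing B] [HopfAlgebra k B]

/-- Finitely many elements of source and target of an injective homomorphism lie in a finitely
generated stage, which is faithfully flat. -/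
theorem exists_stage (φ : B →ₐc[k] A) (hinj : Function.Injective φ) (s : Finset B) (t : Finset A) :
    ∃ (C : Subalgebra k B) (D : Subalgebra k A) (ψ : ↥C →ₐ[k] ↥D),
      (∀ x, (ψ x : A) = φ (x : B)) ∧ (s : Set B) ⊆ C ∧ (t : Set A) ⊆ D ∧
        (letI := ψ.toRingHom.toAlgebra; Module.FaithfullyFlat ↥C ↥D) := by
  classical
  obtain ⟨C, ⟨g, hg⟩, hC, hsC⟩ := Sub.exists_fg (k := k) s
  obtain ⟨D, hDfg, hD, htD⟩ := Sub.exists_fg (k := k) (g.image φ ∪ t)
  rw [Finset.coe_union, Set.union_subset_iff, Finset.coe_image] at htD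
  have hCD : C ≤ D.comap (φ : B →ₐ[k] A) := by
    rw [← hg]
    exact Algebra.adjoin_le fun x hx => htD.1 ⟨x, hx, rfl⟩
  let ψ : ↥C →ₐ[k] ↥D := ((φ : B →ₐ[k] A).comp C.val).codRestrict D fun x => hCD x.2
  refine ⟨C, D, ψ, fun _ => rfl, hsC, htD.2, ?_⟩
  letI := Sub.hopfAlgebra hC
  letI := Sub.hopfAlgebra hD
  haveI : Algebra.FiniteType k ↥C := ⟨(Subalgebra.fg_top C).mpr ⟨g, hg⟩⟩
  haveI : Algebra.FiniteType k ↥D := ⟨(Subalgebra.fg_top D).mpr hDfg⟩
  letI := ψ.toRingHom.toAlgebra
  haveI : IsScalarTower k ↥C ↥D := IsScalarTower.of_algebraMap_eq fun x => (ψ.commutes x).symm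
  have hcomul : (Algebra.TensorProduct.map ψ ψ).comp (Bialgebra.comulAlgHom k ↥C) =
      (Bialgebra.comulAlgHom k ↥D).comp ψ := by
    refine AlgHom.ext fun x => Sub.incl₂_injective (B := D) ?_
    change Sub.incl₂ D (Algebra.TensorProduct.map ψ ψ (Sub.comul hC x)) = Sub.incl₂ D (Sub.comul hD (ψ x))
    rw [Sub.incl₂_comul hD]
    change _ = Coalgebra.comul (R := k) (φ (x : B))
    rw [← CoalgHomClass.map_comp_comul_apply φ (x : B), ← Sub.incl₂_comul hC x]
    induction Sub.comul hC x using TensorProduct.induction_on with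
    | zero => simp
    | tmul p q => rfl
    | add p q hp hq => simp only [map_add, hp, hq]
  exact faithfullyFlat_fg
    (BialgHom.ofAlgHom ψ (AlgHom.ext fun x => CoalgHomClass.counit_comp_apply φ (x : B)) hcomul)
    (fun _ => rfl) fun x y h => Subtype.ext (hinj (congrArg Subtype.val h))

/-- An injective homomorphism of commutative Hopf algebras over a field is faithfully flat. -/
theorem faithfullyFlat [Algebra B A] (φ : B →ₐc[k] A) (hφ : ∀ b, algebraMap B A b = φ b)
    (hinj : Function.Injective φ) : Module.FaithfullyFlat B A := by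
  classical
  haveI : Module.Flat B A := by
    refine Module.Flat.of_forall_isTrivialRelation fun {l f x} h => ?_
    obtain ⟨C, D, ψ, hψ, hs, ht, hff⟩ := exists_stage φ hinj (Finset.univ.image f) (Finset.univ.image x)
    letI := ψ.toRingHom.toAlgebra
    have hff' : Module.FaithfullyFlat ↥C ↥D := hff
    have hfm : ∀ i, f i ∈ C := fun i => hs (by simp)
    have hxm : ∀ i, x i ∈ D := fun i => ht (by simp)
    have hsm : ∀ (c : C) (d : D), ((c • d : D) : A) = (c : B) • (d : A) := fun c d => by
      rw [Algebra.smul_def, Algebra.smul_def, hφ]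
      change ((ψ c * d : D) : A) = _
      rw [Subalgebra.coe_mul, hψ]
    have h' : ∑ i, (⟨f i, hfm i⟩ : C) • (⟨x i, hxm i⟩ : D) = 0 := Subtype.ext (by
      simp only [AddSubmonoidClass.coe_finset_sum, hsm, Subalgebra.coe_zero]
      exact h)
    obtain ⟨m, a, y, hxy, hfa⟩ := Module.Flat.isTrivialRelation_of_sum_smul_eq_zero h'
    refine ⟨m, fun i j => (a i j : B), fun j => (y j : A), fun i => ?_, fun j => ?_⟩
    · have := congrArg Subtype.val (hxy i)
      simp only [AddSubmonoidClass.coe_finset_sum, hsm] at this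
      exact this
    · have := congrArg Subtype.val (hfa j)
      simp only [AddSubmonoidClass.coe_finset_sum, Subalgebra.coe_mul, Subalgebra.coe_zero] at this
      exact this
  refine ⟨fun q hq h => hq.ne_top ?_⟩
  have h1 : (1 : A) ∈ Ideal.map (algebraMap B A) q := by
    rw [← Submodule.restrictScalars_mem B, ← Ideal.smul_top_eq_map, h]
    trivial
  obtain ⟨n, f, g, hfg⟩ := Submodule.mem_span_set'.mp (show (1 : A) ∈ Submodule.span A (algebraMap B A '' q) from h1)
  choose b hb hbg using fun i => (g i).2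
  obtain ⟨C, D, ψ, hψ, hs, ht, hff⟩ := exists_stage φ hinj (Finset.univ.image b) (Finset.univ.image f)
  letI := ψ.toRingHom.toAlgebra
  have hff' : Module.FaithfullyFlat ↥C ↥D := hff
  have hbm : ∀ i, b i ∈ C := fun i => hs (by simp)
  have hfm : ∀ i, f i ∈ D := fun i => ht (by simp)
  have h2 : (1 : D) ∈ (q.comap C.val) • (⊤ : Submodule C D) := by
    have : (1 : D) = ∑ i, (⟨b i, hbm i⟩ : C) • (⟨f i, hfm i⟩ : D) := Subtype.ext (by
      rw [Subalgebra.coe_one, ← hfg, AddSubmonoidClass.coe_finset_sum]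
      refine Finset.sum_congr rfl fun i _ => ?_
      rw [smul_eq_mul, ← hbg i, hφ, Algebra.smul_def]
      change f i * φ (b i) = ((ψ ⟨b i, hbm i⟩ * ⟨f i, hfm i⟩ : D) : A)
      rw [Subalgebra.coe_mul, hψ, mul_comm])
    rw [this]
    exact Submodule.sum_mem _ fun i _ => Submodule.smul_mem_smul (hb i) trivial
  have h3 : (q.comap C.val) • (⊤ : Submodule C D) = ⊤ := by
    refine eq_top_iff.mpr fun z _ => ?_
    have h4 : ∀ y ∈ (q.comap C.val) • (⊤ : Submodule C D), z * y ∈ (q.comap C.val) • (⊤ : Submodule C D) := by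
      intro y hy
      induction hy using Submodule.smul_induction_on' with
      | smul c hc w _ => rw [mul_smul_comm]; exact Submodule.smul_mem_smul hc trivial
      | add x _ y _ hx hy => rw [mul_add]; exact add_mem hx hy
    simpa using h4 1 h2
  have h5 := ((Module.FaithfullyFlat.iff_flat_and_ideal_smul_eq_top _ _).mp hff').2 _ h3
  rw [Ideal.eq_top_iff_one] at h5 ⊢
  exact h5

end GrothLib.Hopf
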