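import Groth.Agent.Lib.Hopf.HeightOne
import Mathlib.RingTheory.Bialgebra.TensorProduct
import Mathlib.RingTheory.LocalRing.Module
import Mathlib.RingTheory.LocalRing.ResidueField.Basic
import Mathlib.RingTheory.FinitePresentation
import Mathlib.RingTheory.Nilpotent.Lemmas
import Mathlib.RingTheory.IntegralClosure.IsIntegralClosure.Basic
import Mathlib.Algebra.CharP.Algebra
import Mathlib.Algebra.CharP.Basic
import Mathlib.RingTheory.Noetherian.Nilpotent

/-!
The structure of Hopf algebras of height one.
-/

universe u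

set_option linter.style.haveILetI false

open TensorProduct MvPolynomial

namespace GrothLib.Hopf.HeightOne

/-- The monomials of exponents less than `p`. -/
def mon {A : Type*} [CommRing A] {n : ℕ} (p : ℕ) (x : Fin n → A) (e : Fin n → Fin p) : A :=
  ∏ i, x i ^ (e i : ℕ)

theorem span_mon_eq_top {k A : Type*} [CommRing k] [CommRing A] [Algebra k A] {n p : ℕ} (hp : 0 < p)
    {x : Fin n → A} (hxp : ∀ i, x i ^ p = 0) (htop : Algebra.adjoin k (Set.range x) = ⊤) :
    Submodule.span k (Set.range (mon p x)) = ⊤ := by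
  classical
  have hmem : ∀ f : Fin n → ℕ, ∏ i, x i ^ f i ∈ Submodule.span k (Set.range (mon p x)) := fun f => by
    by_cases h : ∀ i, f i < p
    · exact Submodule.subset_span ⟨fun i => ⟨f i, h i⟩, rfl⟩
    · push Not at h
      obtain ⟨i, hi⟩ := h
      rw [Finset.prod_eq_zero (Finset.mem_univ i) (by
        obtain ⟨c, hc⟩ := Nat.exists_eq_add_of_le hi
        rw [hc, pow_add, hxp, zero_mul])]
      exact zero_mem _
  refine eq_top_iff.mpr fun a _ => ?_
  obtain ⟨P, rfl⟩ : ∃ P : MvPolynomial (Fin n) k, aeval x P = a := by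
    rw [Algebra.adjoin_range_eq_range_aeval] at htop
    exact AlgHom.mem_range (aeval x) |>.mp (htop ▸ Algebra.mem_top)
  rw [P.as_sum, map_sum]
  refine Submodule.sum_mem _ fun e _ => ?_
  rw [aeval_monomial, ← Algebra.smul_def, Finsupp.prod_fintype _ _ (fun i => pow_zero _)]
  exact Submodule.smul_mem _ _ (hmem _)

theorem exists_monomial_basis {k : Type u} [Field k] {A : Type u} [CommRing A] [Bialgebra k A]
    [Module.Finite k A] {p : ℕ} (hp0 : 0 < p) (hp : ∀ m, 0 < m → m < p → (m : k) ≠ 0)
    (h1 : ∀ a ∈ aug k A, a ^ p = 0) :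
    ∃ (n : ℕ) (x : Fin n → A), (∀ i, x i ∈ aug k A) ∧ LinearIndependent k (mon p x) ∧
      Submodule.span k (Set.range (mon p x)) = ⊤ := by
  classical
  set U : Submodule k A := Submodule.span k {(1 : A)} ⊔ (aug k A ^ 2).restrictScalars k
  let b := Module.finBasis k (A ⧸ U)
  choose y hy using fun i => Submodule.mkQ_surjective U (b i)
  let x : Fin _ → A := fun i => y i - algebraMap k A (Bialgebra.counitAlgHom k A (y i))
  have hx : ∀ i, x i ∈ aug k A := fun i => by
    simp [x, aug, RingHom.mem_ker]
  have hU1 : ∀ c : k, algebraMap k A c ∈ U := fun c => by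
    rw [Algebra.algebraMap_eq_smul_one]
    exact Submodule.mem_sup_left (Submodule.smul_mem _ _ (Submodule.mem_span_singleton_self _))
  have hxb : ∀ i, U.mkQ (x i) = b i := fun i => by
    rw [map_sub, hy, sub_eq_self, Submodule.mkQ_apply, Submodule.Quotient.mk_eq_zero]
    exact hU1 _
  let δ : Fin _ → (A →ₗ[k] k) := fun i => b.coord i ∘ₗ U.mkQ
  have hδ : ∀ i, IsEpsDer (δ i) := fun i a c => by
    set ea := Bialgebra.counitAlgHom k A a
    set ec := Bialgebra.counitAlgHom k A c
    have hm : a * c - ea • c - ec • a ∈ U := by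
      have : a * c - ea • c - ec • a =
          (a - algebraMap k A ea) * (c - algebraMap k A ec) - algebraMap k A (ea * ec) := by
        simp only [Algebra.smul_def, map_mul]; ring
      rw [this]
      refine sub_mem (Submodule.mem_sup_right ?_) (hU1 _)
      change _ ∈ aug k A ^ 2
      rw [pow_two]
      exact Ideal.mul_mem_mul (by simp [aug, RingHom.mem_ker, ea]) (by simp [aug, RingHom.mem_ker, ec])
    have h2 : δ i (a * c - ea • c - ec • a) = 0 := by
      simp only [δ, LinearMap.comp_apply, Submodule.mkQ_apply, (Submodule.Quotient.mk_eq_zero U).mpr hm, map_zero]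
    rw [map_sub, map_sub, map_smul, map_smul, smul_eq_mul, smul_eq_mul, sub_sub, sub_eq_zero] at h2
    exact h2
  have hdual : ∀ i j, δ i (x j) = if i = j then 1 else 0 := fun i j => by
    simp only [δ, LinearMap.comp_apply, hxb, Module.Basis.coord_apply, Module.Basis.repr_self,
      Finsupp.single_apply]
    exact if_congr eq_comm rfl rfl
  have htop : Algebra.adjoin k (Set.range x) = ⊤ := by
    set S := Subalgebra.toSubmodule (Algebra.adjoin k (Set.range x))
    have hone : ∀ c : k, algebraMap k A c ∈ S := fun c => Subalgebra.algebraMap_mem _ c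
    have hxS : ∀ i, x i ∈ S := fun i => Algebra.subset_adjoin ⟨i, rfl⟩
    set I := aug k A
    have hI : ∀ a ∈ I, ∃ s ∈ S, s ∈ I ∧ a - s ∈ I ^ 2 := by
      intro a ha
      have h2 : U.mkQ (a - ∑ i, b.repr (U.mkQ a) i • x i) = 0 := by
        rw [map_sub, map_sum, sub_eq_zero]
        simp only [map_smul, hxb, b.sum_repr]
      rw [Submodule.mkQ_apply, Submodule.Quotient.mk_eq_zero, Submodule.mem_sup] at h2
      obtain ⟨c, hc, z, hz, hcz⟩ := h2
      obtain ⟨c, rfl⟩ := Submodule.mem_span_singleton.mp hc
      have hs : ∑ i, b.repr (U.mkQ a) i • x i ∈ I := Ideal.sum_mem _ fun i _ =>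
        (Submodule.smul_mem (I.restrictScalars k) _ (hx i) :)
      refine ⟨_, Submodule.sum_mem _ fun i _ => Submodule.smul_mem _ _ (hxS i), hs, ?_⟩
      have hc0 : c = 0 := by
        have h3 := congrArg (Bialgebra.counitAlgHom k A) hcz
        rw [map_add, map_smul, map_one, smul_eq_mul, mul_one, map_sub] at h3
        rw [show Bialgebra.counitAlgHom k A z = 0 from Ideal.pow_le_self two_ne_zero hz,
          show Bialgebra.counitAlgHom k A a = 0 from ha,
          show Bialgebra.counitAlgHom k A (∑ i, b.repr (U.mkQ a) i • x i) = 0 from hs] at h3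
        simpa using h3
      rw [← hcz, hc0, zero_smul, zero_add]
      exact hz
    have hpow : ∀ m : ℕ, ∀ a ∈ I ^ m, ∃ s ∈ S, a - s ∈ I ^ (m + 1) := by
      intro m
      induction m with
      | zero =>
        intro a _
        exact ⟨_, hone (Bialgebra.counitAlgHom k A a), by simp [I, aug, RingHom.mem_ker]⟩
      | succ m ih =>
        intro a ha
        rw [pow_succ] at ha
        induction ha using Submodule.mul_induction_on' with
        | mem_mul_mem u hu v hv =>
          obtain ⟨s, hs, hus⟩ := ih u hu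
          obtain ⟨t, ht, htI, hvt⟩ := hI v hv
          refine ⟨s * t, Subalgebra.mul_mem _ hs ht, ?_⟩
          rw [show u * v - s * t = (u - s) * t + u * (v - t) by ring]
          refine add_mem ?_ ?_
          · rw [pow_succ]; exact Ideal.mul_mem_mul hus htI
          · rw [show m + 1 + 1 = m + 2 from rfl, pow_add]; exact Ideal.mul_mem_mul hu hvt
        | add u _ v _ hu hv =>
          obtain ⟨s, hs, hus⟩ := hu
          obtain ⟨t, ht, hvt⟩ := hv
          exact ⟨s + t, add_mem hs ht, by rw [add_sub_add_comm]; exact add_mem hus hvt⟩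
    haveI : IsNoetherianRing A := isNoetherian_of_tower k inferInstance
    have hnil : IsNilpotent I := by
      rw [Ideal.FG.isNilpotent_iff_le_nilradical (IsNoetherian.noetherian I)]
      exact fun a ha => ⟨p, h1 a ha⟩
    obtain ⟨N, hN⟩ := hnil
    have key : ∀ m : ℕ, ∀ a : A, ∃ s ∈ S, a - s ∈ I ^ m := by
      intro m
      induction m with
      | zero => intro a; exact ⟨0, zero_mem _, by rw [pow_zero, Ideal.one_eq_top]; trivial⟩
      | succ m ih =>
        intro a
        obtain ⟨s, hs, has⟩ := ih a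
        obtain ⟨t, ht, hst⟩ := hpow m _ has
        exact ⟨s + t, add_mem hs ht, by rw [← sub_sub]; exact hst⟩
    refine eq_top_iff.mpr fun a _ => ?_
    obtain ⟨s, hs, has⟩ := key N a
    rw [hN, Ideal.zero_eq_bot, Ideal.mem_bot, sub_eq_zero] at has
    exact has ▸ hs
  refine ⟨_, x, hx, ?_, span_mon_eq_top hp0 (fun i => h1 _ (hx i)) htop⟩
  rw [Fintype.linearIndependent_iff]
  intro g hg e
  let toF : (Fin (Module.finrank k (A ⧸ U)) → Fin p) → (Fin (Module.finrank k (A ⧸ U)) →₀ ℕ) :=
    fun e => Finsupp.equivFunOnFinite.symm fun i => (e i : ℕ)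
  have hinj : Function.Injective toF := fun e e' h => funext fun i => Fin.ext (DFunLike.congr_fun h i)
  let P : MvPolynomial (Fin (Module.finrank k (A ⧸ U))) k := ∑ e, monomial (toF e) (g e)
  have hP0 : P = 0 := by
    refine eq_zero_of_aeval_eq_zero hp δ hδ hx hdual (fun f hf i => ?_) ?_
    · obtain ⟨e, -, he⟩ := Finset.mem_biUnion.mp (MvPolynomial.support_sum hf)
      obtain rfl := Finset.mem_singleton.mp (support_monomial_subset he)
      simp [toF]
    · rw [map_sum, ← hg]
      refine Finset.sum_congr rfl fun e _ => ?_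
      rw [aeval_monomial, Algebra.smul_def, Finsupp.prod_fintype _ _ (fun i => pow_zero _)]
      simp [toF, mon]
  have := congrArg (coeff (toF e)) hP0
  simp only [P, coeff_sum, coeff_monomial, coeff_zero, hinj.eq_iff] at this
  simpa using this

theorem exists_algEquiv_truncated (p : ℕ) [Fact p.Prime] {R : Type u} [CommRing R] [IsLocalRing R]
    [CharP R p] {A : Type u} [CommRing A] [Bialgebra R A] [Algebra.FiniteType R A] [Module.Flat R A]
    (h1 : ∀ a : A, Bialgebra.counitAlgHom R A a = 0 → a ^ p = 0) :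
    ∃ n : ℕ, Nonempty (A ≃ₐ[R] (MvPolynomial (Fin n) R ⧸
      Ideal.span (Set.range fun i : Fin n => (MvPolynomial.X i : MvPolynomial (Fin n) R) ^ p))) := by
  classical
  have hp := (Fact.out : p.Prime)
  haveI : Algebra.IsIntegral R A := ⟨fun a => by
    have h := h1 (a - algebraMap R A (Bialgebra.counitAlgHom R A a)) (by simp)
    have h2 : IsIntegral R (a - algebraMap R A (Bialgebra.counitAlgHom R A a)) :=
      IsIntegral.of_pow hp.pos (h ▸ isIntegral_zero)
    simpa using h2.add (isIntegral_algebraMap (R := R) (A := A) (x := Bialgebra.counitAlgHom R A a))⟩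
  haveI : Module.Finite R A := Algebra.IsIntegral.finite
  set k := IsLocalRing.ResidueField R
  haveI : CharP k p := (CharP.charP_iff_prime_eq_zero hp).mpr (by
    rw [← map_natCast (algebraMap R k), CharP.cast_eq_zero, map_zero])
  haveI : Nontrivial (k ⊗[R] A) := (Bialgebra.counitAlgHom k (k ⊗[R] A)).toRingHom.domain_nontrivial
  haveI : CharP (k ⊗[R] A) p :=
    charP_of_injective_algebraMap (algebraMap k (k ⊗[R] A)).injective p
  haveI : ExpChar (k ⊗[R] A) p := ExpChar.prime hp
  have hk : ∀ z : k ⊗[R] A, (z - algebraMap k _ (Bialgebra.counitAlgHom k _ z)) ^ p = 0 := by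
    intro z
    induction z using TensorProduct.induction_on with
    | zero => simp [hp.ne_zero]
    | tmul c a =>
      have : c ⊗ₜ[R] a - algebraMap k _ (Bialgebra.counitAlgHom k _ (c ⊗ₜ[R] a)) =
          c ⊗ₜ[R] (a - algebraMap R A (Bialgebra.counitAlgHom R A a)) := by
        rw [TensorProduct.tmul_sub]
        congr 1
        rw [Algebra.algebraMap_eq_smul_one (A := A), TensorProduct.tmul_smul, Algebra.TensorProduct.algebraMap_apply]
        simp [TensorProduct.smul_tmul']
      rw [this, Algebra.TensorProduct.tmul_pow, h1 _ (by simp), TensorProduct.tmul_zero]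
    | add z w hz hw =>
      rw [map_add, map_add, add_sub_add_comm, add_pow_expChar, hz, hw, add_zero]
  obtain ⟨n, x, hx, hli, hsp⟩ := exists_monomial_basis (k := k) (A := k ⊗[R] A) hp.pos
    (fun m hm hmp h => by
      rw [CharP.cast_eq_zero_iff k p] at h
      exact absurd (Nat.le_of_dvd hm h) hmp.not_ge)
    (fun a ha => by simpa [show Bialgebra.counitAlgHom k (k ⊗[R] A) a = 0 from ha] using hk a)
  choose a ha using fun i => TensorProduct.mk_surjective R A k IsLocalRing.residue_surjective (x i)
  let y : Fin n → A := fun i => a i - algebraMap R A (Bialgebra.counitAlgHom R A (a i))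
  have hy : ∀ i, (1 : k) ⊗ₜ[R] y i = x i := fun i => by
    have h0 : Bialgebra.counitAlgHom k (k ⊗[R] A) ((1 : k) ⊗ₜ[R] a i) = 0 := by
      rw [show (1 : k) ⊗ₜ[R] a i = x i from ha i]; exact hx i
    rw [TensorProduct.tmul_sub, show (1 : k) ⊗ₜ[R] a i = x i from ha i, sub_eq_self,
      Algebra.algebraMap_eq_smul_one, TensorProduct.tmul_smul]
    rw [show Bialgebra.counitAlgHom k (k ⊗[R] A) ((1 : k) ⊗ₜ[R] a i) =
      Bialgebra.counitAlgHom R A (a i) • (1 : k) by simp] at h0
    rw [TensorProduct.smul_tmul', h0, TensorProduct.zero_tmul]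
  have hmon : ∀ e, (1 : k) ⊗ₜ[R] mon p y e = mon p x e := fun e => by
    simp only [mon, ← hy]
    exact (map_prod (Algebra.TensorProduct.includeRight : A →ₐ[R] k ⊗[R] A) _ _).trans
      (Finset.prod_congr rfl fun i _ => map_pow _ _ _)
  let bk := Module.Basis.mk hli hsp.ge
  have hspR : Submodule.span R (Set.range (mon p y)) = ⊤ :=
    IsLocalRing.span_eq_top_of_tmul_eq_basis _ bk fun e => by rw [Module.Basis.mk_apply, hmon]
  have hliR : LinearIndependent R (mon p y) := Module.IsLocalRing.linearIndependent_of_flat _ (by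
    rw [show (TensorProduct.mk R k A 1 ∘ mon p y) = mon p x from funext hmon]
    exact hli)
  let Φ : (MvPolynomial (Fin n) R ⧸
      Ideal.span (Set.range fun i : Fin n => (MvPolynomial.X i : MvPolynomial (Fin n) R) ^ p)) →ₐ[R] A :=
    Ideal.Quotient.liftₐ _ (aeval y) fun q hq => by
      refine (Ideal.span_le.mpr ?_ : _ ≤ RingHom.ker (aeval y)) hq
      rintro _ ⟨i, rfl⟩
      simp [h1 (y i) (by simp [y])]
  refine ⟨n, ⟨(AlgEquiv.ofBijective Φ ⟨?_, ?_⟩).symm⟩⟩
  · rw [injective_iff_map_eq_zero]
    intro z hz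
    have hw : Submodule.span R (Set.range (mon p fun i : Fin n => Ideal.Quotient.mk
        (Ideal.span (Set.range fun i : Fin n => (MvPolynomial.X i : MvPolynomial (Fin n) R) ^ p))
        (MvPolynomial.X i))) = ⊤ := by
      refine span_mon_eq_top hp.pos (fun i => ?_) ?_
      · rw [← map_pow, Ideal.Quotient.eq_zero_iff_mem]
        exact Ideal.subset_span ⟨i, rfl⟩
      · have := congrArg (Subalgebra.map (Ideal.Quotient.mkₐ R (Ideal.span (Set.range fun i : Fin n =>
          (MvPolynomial.X i : MvPolynomial (Fin n) R) ^ p)))) (MvPolynomial.adjoin_range_X (R := R) (σ := Fin n))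
        rw [AlgHom.map_adjoin, ← Set.range_comp, Algebra.map_top,
          (AlgHom.range_eq_top _).mpr (Ideal.Quotient.mkₐ_surjective R _)] at this
        exact this
    obtain ⟨c, rfl⟩ := (Submodule.mem_span_range_iff_exists_fun R).mp (hw ▸ Submodule.mem_top : z ∈ _)
    have h2 : ∑ e, c e • mon p y e = 0 := by
      rw [← hz, map_sum]
      exact Finset.sum_congr rfl fun e _ => by simp [mon, Φ]
    have h3 := Fintype.linearIndependent_iff.mp hliR c h2
    simp [h3]
  · intro z
    obtain ⟨c, rfl⟩ := (Submodule.mem_span_range_iff_exists_fun R).mp (hspR ▸ Submodule.mem_top : z ∈ _)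
    refine ⟨∑ e, c e • mon p (fun i => Ideal.Quotient.mk _ (MvPolynomial.X i)) e, ?_⟩
    rw [map_sum]
    exact Finset.sum_congr rfl fun e _ => by simp [mon, Φ]

end GrothLib.Hopf.HeightOne
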