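import Groth.Agent.Lib.Hopf.Faithful
import Groth.Agent.Lib.Hopf.HeightOneStruct
import Mathlib.RingTheory.HopfAlgebra.Quotient
import Mathlib.RingTheory.LocalRing.Module
import Mathlib.RingTheory.Artinian.Ring
import Mathlib.Algebra.CharP.Lemmas
import Mathlib.FieldTheory.Perfect
import Mathlib.LinearAlgebra.Dimension.Constructions
import Mathlib.RingTheory.Ideal.Quotient.Operations

/-!
Finite group schemes over an algebraically closed field: the power by the rank is trivial.
-/

universe u

set_option linter.style.haveILetI false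

open TensorProduct WithConv

namespace GrothLib.Hopf.FiniteRank

open GrothLib.Hopf.HeightOne (aug)

section Ideals

variable {R : Type u} [CommRing R] {A : Type u} [CommRing A] [HopfAlgebra R A]

theorem isHopfIdeal_of (I : Ideal A) (h1 : I ≤ aug R A)
    (h2 : ∀ x ∈ I, Algebra.TensorProduct.map (Ideal.Quotient.mkₐ R I) (Ideal.Quotient.mkₐ R I)
      (Bialgebra.comulAlgHom R A x) = 0)
    (h3 : ∀ x ∈ I, HopfAlgebraStruct.antipode R x ∈ I) : I.IsHopfIdeal R :=
  { counit_eq_zero := fun x hx => h1 hx
    map_mkQ_comul_eq_zero := fun x hx => h2 x hx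
    antipode_mem := fun _ hx => h3 _ hx }

theorem isHopfIdeal_kerIdeal {B : Type u} [CommRing B] [HopfAlgebra R B] (φ : B →ₐc[R] A) :
    (kerIdeal R φ).IsHopfIdeal R := by
  refine isHopfIdeal_of _ ?_ ?_ ?_
  · refine Ideal.map_le_iff_le_comap.mpr ?_
    intro b hb
    change Bialgebra.counitAlgHom R A (φ b) = 0
    exact (CoalgHomClass.counit_comp_apply φ b).trans hb
  · set q := Ideal.Quotient.mkₐ R (kerIdeal R φ)
    change kerIdeal R φ ≤ RingHom.ker ((Algebra.TensorProduct.map q q).comp (Bialgebra.comulAlgHom R A))
    refine Ideal.map_le_iff_le_comap.mpr ?_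
    intro b hb
    rw [Ideal.mem_comap, RingHom.mem_ker]
    change Algebra.TensorProduct.map q q (Coalgebra.comul (R := R) (φ b)) = 0
    rw [← CoalgHomClass.map_comp_comul_apply φ b]
    have hq : ∀ y : B, q (φ y) = algebraMap R _ (Coalgebra.counit y) := fun y => by
      rw [← q.commutes]
      refine Ideal.Quotient.eq.mpr ?_
      have : φ y - algebraMap R A (Coalgebra.counit y) = φ (y - algebraMap R B (Coalgebra.counit y)) := by
        rw [map_sub]
        exact congrArg (φ y - ·) ((φ : B →ₐ[R] A).commutes _).symm
      rw [this]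
      exact Ideal.mem_map_of_mem _ (by simp [RingHom.mem_ker])
    have key : ∀ t : B ⊗[R] B, Algebra.TensorProduct.map q q (TensorProduct.map (φ : B →ₗ[R] A) (φ : B →ₗ[R] A) t) =
        algebraMap R _ (Coalgebra.counit (TensorProduct.lid R B (LinearMap.rTensor B Coalgebra.counit t))) := fun t => by
      induction t using TensorProduct.induction_on with
      | zero => simp
      | tmul x y =>
        rw [TensorProduct.map_tmul, Algebra.TensorProduct.map_tmul]
        change q (φ x) ⊗ₜ[R] q (φ y) = _
        rw [hq, hq, LinearMap.rTensor_tmul, TensorProduct.lid_tmul, map_smul, smul_eq_mul, map_mul,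
          Algebra.TensorProduct.algebraMap_apply, Algebra.TensorProduct.algebraMap_apply,
          Algebra.TensorProduct.tmul_mul_tmul, mul_one]
        simp only [Algebra.algebraMap_eq_smul_one, smul_mul_assoc, one_mul, TensorProduct.smul_tmul',
          TensorProduct.tmul_smul, smul_smul]
        rw [mul_comm]
      | add x y hx hy => simp only [map_add, hx, hy]
    refine (key _).trans ?_
    rw [Coalgebra.rTensor_counit_comul, TensorProduct.lid_tmul, one_smul,
      show Coalgebra.counit (R := R) b = 0 from hb, map_zero]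
  · intro x hx
    revert x
    change kerIdeal R φ ≤ (kerIdeal R φ).comap (HopfAlgebra.antipodeAlgHom R A)
    refine Ideal.map_le_iff_le_comap.mpr ?_
    intro b hb
    rw [Ideal.mem_comap, Ideal.mem_comap]
    change HopfAlgebraStruct.antipode R (φ b) ∈ _
    rw [bialgHom_antipode]
    refine Ideal.mem_map_of_mem _ ?_
    rw [RingHom.mem_ker]
    exact (HopfAlgebra.counit_antipode b).trans hb

theorem isHopfIdeal_aug_pow (N : ℕ) (hN : 0 < N) (hst : aug R A ^ N = aug R A ^ (2 * N)) :
    (aug R A ^ N).IsHopfIdeal R := by
  refine isHopfIdeal_of _ (Ideal.pow_le_self hN.ne') ?_ ?_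
  · set q := Ideal.Quotient.mkₐ R (aug R A ^ N)
    set L : Ideal ((A ⧸ aug R A ^ N) ⊗[R] (A ⧸ aug R A ^ N)) :=
      (aug R A).map ((Algebra.TensorProduct.includeLeft : _ →ₐ[R] _).comp q)
    set L' : Ideal ((A ⧸ aug R A ^ N) ⊗[R] (A ⧸ aug R A ^ N)) :=
      (aug R A).map ((Algebra.TensorProduct.includeRight : _ →ₐ[R] _).comp q)
    have hq : (aug R A ^ N).map q = ⊥ := by
      rw [Ideal.map_eq_bot_iff_le_ker]
      exact fun x hx => Ideal.Quotient.eq_zero_iff_mem.mpr hx
    have hL : L ^ N = ⊥ := by
      rw [← Ideal.map_pow, ← Ideal.map_mapₐ, hq, Ideal.map_bot]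
    have hL' : L' ^ N = ⊥ := by
      rw [← Ideal.map_pow, ← Ideal.map_mapₐ, hq, Ideal.map_bot]
    set Δ := (Algebra.TensorProduct.map q q).comp (Bialgebra.comulAlgHom R A)
    have hΔ : (aug R A).map Δ ≤ L ⊔ L' := by
      rw [Ideal.map_le_iff_le_comap]
      intro x hx
      rw [Ideal.mem_comap]
      have key : ∀ t : A ⊗[R] A, Algebra.TensorProduct.map q q t -
          algebraMap R _ (Coalgebra.counit (TensorProduct.lid R A (LinearMap.rTensor A Coalgebra.counit t))) ∈ L ⊔ L' := fun t => by
        induction t using TensorProduct.induction_on with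
        | zero => simp
        | tmul a b =>
          have ha : q a ⊗ₜ[R] (1 : A ⧸ aug R A ^ N) - algebraMap R _ (Coalgebra.counit a) ∈ L := by
            have h : a - algebraMap R A (Coalgebra.counit a) ∈ aug R A := by
              simp [HeightOne.aug, RingHom.mem_ker]
            have h2 := Ideal.mem_map_of_mem ((Algebra.TensorProduct.includeLeft : _ →ₐ[R] (A ⧸ aug R A ^ N) ⊗[R] (A ⧸ aug R A ^ N)).comp q) h
            rw [map_sub, AlgHom.commutes] at h2
            exact h2
          have hb : (1 : A ⧸ aug R A ^ N) ⊗ₜ[R] q b - algebraMap R _ (Coalgebra.counit b) ∈ L' := by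
            have h : b - algebraMap R A (Coalgebra.counit b) ∈ aug R A := by
              simp [HeightOne.aug, RingHom.mem_ker]
            have h2 := Ideal.mem_map_of_mem ((Algebra.TensorProduct.includeRight : _ →ₐ[R] (A ⧸ aug R A ^ N) ⊗[R] (A ⧸ aug R A ^ N)).comp q) h
            rw [map_sub, AlgHom.commutes] at h2
            exact h2
          rw [Algebra.TensorProduct.map_tmul, LinearMap.rTensor_tmul, TensorProduct.lid_tmul, map_smul,
            smul_eq_mul, map_mul,
            show q a ⊗ₜ[R] q b = (q a ⊗ₜ[R] (1 : A ⧸ aug R A ^ N)) * ((1 : A ⧸ aug R A ^ N) ⊗ₜ[R] q b) by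
              rw [Algebra.TensorProduct.tmul_mul_tmul, mul_one, one_mul]]
          set u := q a ⊗ₜ[R] (1 : A ⧸ aug R A ^ N)
          set v := (1 : A ⧸ aug R A ^ N) ⊗ₜ[R] q b
          set ea : (A ⧸ aug R A ^ N) ⊗[R] (A ⧸ aug R A ^ N) := algebraMap R _ (Coalgebra.counit a)
          set eb : (A ⧸ aug R A ^ N) ⊗[R] (A ⧸ aug R A ^ N) := algebraMap R _ (Coalgebra.counit b)
          rw [show u * v - ea * eb = (u - ea) * v + ea * (v - eb) by ring]
          exact add_mem (Submodule.mem_sup_left (Ideal.mul_mem_right _ _ ha))
            (Submodule.mem_sup_right (Ideal.mul_mem_left _ _ hb))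
        | add a b ha hb =>
          simp only [map_add]
          rw [add_sub_add_comm]
          exact add_mem ha hb
      have h := key (Coalgebra.comul x)
      rwa [Coalgebra.rTensor_counit_comul, TensorProduct.lid_tmul, one_smul,
        show Coalgebra.counit (R := R) x = 0 from hx, map_zero, sub_zero] at h
    intro x hx
    rw [hst] at hx
    have h2 : Δ x ∈ (L ⊔ L') ^ (N + N) := by
      rw [← two_mul]
      refine Ideal.pow_right_mono hΔ _ ?_
      rw [← Ideal.map_pow]
      exact Ideal.mem_map_of_mem _ hx
    have h3 := Ideal.sup_pow_add_le_pow_sup_pow h2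
    rw [hL, hL', sup_idem, Ideal.mem_bot] at h3
    exact h3
  · intro x hx
    have h : (aug R A).map (HopfAlgebra.antipodeAlgHom R A) ≤ aug R A := by
      rw [Ideal.map_le_iff_le_comap]
      intro y hy
      change Coalgebra.counit (HopfAlgebraStruct.antipode R y) = 0
      rw [HopfAlgebra.counit_antipode]
      exact hy
    refine Ideal.pow_right_mono h N ?_
    rw [← Ideal.map_pow]
    exact Ideal.mem_map_of_mem (HopfAlgebra.antipodeAlgHom R A) hx

end Ideals

variable {K : Type u} [Field K] [IsAlgClosed K]

theorem exists_nilpotency {A : Type u} [CommRing A] [HopfAlgebra K A] [Module.Finite K A]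
    (hnil : ∀ a ∈ aug K A, IsNilpotent a) : ∃ N : ℕ, 0 < N ∧ aug K A ^ N = ⊥ := by
  haveI : IsNoetherianRing A := isNoetherian_of_tower K inferInstance
  obtain ⟨N, hN⟩ := (Ideal.FG.isNilpotent_iff_le_nilradical (IsNoetherian.noetherian (aug K A))).mpr hnil
  exact ⟨N + 1, Nat.succ_pos _, le_bot_iff.mp ((Ideal.pow_le_pow_right (Nat.le_succ N)).trans hN.le)⟩

/-- The sub-Hopf algebra of `p`-th powers over a perfect field. -/
noncomputable def frobRange (p : ℕ) [Fact p.Prime] (A : Type u) [CommRing A] [Algebra K A] [CharP K p]
    [CharP A p] : Subalgebra K A where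
  toSubsemiring := (frobenius A p).rangeS
  algebraMap_mem' c := by
    obtain ⟨d, hd⟩ := surjective_frobenius K p c
    exact ⟨algebraMap K A d, by rw [← hd]; simp [frobenius_def]⟩

theorem isHopfSubalgebra_frobRange (p : ℕ) [Fact p.Prime] [CharP K p] (A : Type u) [CommRing A]
    [HopfAlgebra K A] [CharP A p] : SGA3.IsHopfSubalgebra K A (frobRange p A) := by
  haveI : Nontrivial (A ⊗[K] A) := (Bialgebra.counitAlgHom K (A ⊗[K] A)).toRingHom.domain_nontrivial
  haveI : CharP (A ⊗[K] A) p := charP_of_injective_algebraMap (algebraMap K _).injective p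
  refine ⟨?_, ?_⟩
  · rintro _ ⟨a, rfl⟩
    rw [frobenius_def, show Coalgebra.comul (R := K) (a ^ p) = (Coalgebra.comul (R := K) a) ^ p from
      map_pow (Bialgebra.comulAlgHom K A) a p]
    induction Coalgebra.comul (R := K) a using TensorProduct.induction_on with
    | zero => rw [zero_pow (Fact.out : p.Prime).ne_zero]; exact zero_mem _
    | tmul x y =>
      rw [Algebra.TensorProduct.tmul_pow]
      exact ⟨(⟨x ^ p, x, rfl⟩ : frobRange p A) ⊗ₜ (⟨y ^ p, y, rfl⟩ : frobRange p A), rfl⟩
    | add x y hx hy => rw [add_pow_char]; exact add_mem hx hy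
  · rintro _ ⟨a, rfl⟩
    refine ⟨HopfAlgebraStruct.antipode K a, ?_⟩
    change _ ^ p = HopfAlgebra.antipodeAlgHom K A (a ^ p)
    rw [map_pow]
    rfl

theorem eq_algebraMap_of_finrank_eq_one {A : Type u} [CommRing A] [HopfAlgebra K A]
    (h : Module.finrank K A = 1) (a : A) : a = algebraMap K A (Bialgebra.counitAlgHom K A a) := by
  haveI : Nontrivial A := (Bialgebra.counitAlgHom K A).toRingHom.domain_nontrivial
  obtain ⟨c, rfl⟩ := (finrank_eq_one_iff_of_nonzero' (1 : A) one_ne_zero).mp h a
  simp [Algebra.algebraMap_eq_smul_one]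

theorem finrank_eq_one_charZero [CharZero K] {A : Type u} [CommRing A] [HopfAlgebra K A]
    [Module.Finite K A] (hnil : ∀ a ∈ aug K A, IsNilpotent a) : Module.finrank K A = 1 := by
  haveI : Nontrivial A := (Bialgebra.counitAlgHom K A).toRingHom.domain_nontrivial
  obtain ⟨N, -, hN⟩ := exists_nilpotency hnil
  set p := max N (Module.finrank K A + 1) with hp
  obtain ⟨n, x, -, hli, hsp⟩ := HeightOne.exists_monomial_basis (k := K) (A := A) (p := p)
    (lt_max_of_lt_right (Nat.succ_pos _)) (fun m hm _ => Nat.cast_ne_zero.mpr hm.ne')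
    (fun a ha => by
      have h : a ^ p ∈ aug K A ^ N := Ideal.pow_le_pow_right (le_max_left _ _) (Ideal.pow_mem_pow ha p)
      rwa [hN, Ideal.mem_bot] at h)
  have hd : Module.finrank K A = p ^ n := by
    rw [Module.finrank_eq_card_basis (Module.Basis.mk hli hsp.ge)]
    simp
  rcases Nat.eq_zero_or_pos n with rfl | hn
  · simpa using hd
  · have h1 : p ≤ p ^ n := Nat.le_self_pow hn.ne' p
    have h2 : Module.finrank K A + 1 ≤ p := le_max_right _ _
    omega

theorem exists_finrank_eq_pow (p : ℕ) [Fact p.Prime] [CharP K p] : ∀ (d : ℕ) {A : Type u} [CommRing A]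
    [HopfAlgebra K A] [Module.Finite K A], (∀ a ∈ aug K A, IsNilpotent a) → Module.finrank K A = d →
      ∃ s : ℕ, d = p ^ s := by
  intro d
  induction d using Nat.strong_induction_on with
  | _ d ih =>
    intro A _ _ _ hnil hd
    haveI : Nontrivial A := (Bialgebra.counitAlgHom K A).toRingHom.domain_nontrivial
    haveI : CharP A p := charP_of_injective_algebraMap (algebraMap K A).injective p
    have hB := isHopfSubalgebra_frobRange (K := K) p A
    set B := frobRange (K := K) p A
    letI := Sub.hopfAlgebra hB
    have hinj : Function.Injective (Sub.valHom hB) := Subtype.val_injective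
    haveI := faithfullyFlat (Sub.valHom hB) (fun _ => rfl) hinj
    have hnilB : ∀ b ∈ aug K ↥B, IsNilpotent b := fun b hb => by
      have hval : IsNilpotent (b : A) := hnil (b : A) hb
      obtain ⟨m, hm⟩ := hval
      exact ⟨m, Subtype.ext hm⟩
    haveI : IsLocalRing ↥B := by
      haveI : Nontrivial ↥B := (Bialgebra.counitAlgHom K ↥B).toRingHom.domain_nontrivial
      refine IsLocalRing.of_isUnit_or_isUnit_of_isUnit_add ?_
      intro b c hbc
      have hunit : ∀ z : ↥B, Bialgebra.counitAlgHom K ↥B z ≠ 0 → IsUnit z := fun z hz => by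
        have hn : IsNilpotent (z - algebraMap K ↥B (Bialgebra.counitAlgHom K ↥B z)) :=
          hnilB _ (by simp [HeightOne.aug, RingHom.mem_ker])
        simpa using hn.isUnit_add_right_of_commute (RingHom.isUnit_map (algebraMap K ↥B) (Ne.isUnit hz))
          (Commute.all _ _)
      by_contra! hcon
      have hb0 : Bialgebra.counitAlgHom K ↥B b = 0 := not_not.mp (mt (hunit b) hcon.1)
      have hc0 : Bialgebra.counitAlgHom K ↥B c = 0 := not_not.mp (mt (hunit c) hcon.2)
      have h := hbc.map (Bialgebra.counitAlgHom K ↥B)
      rw [map_add, hb0, hc0, add_zero] at h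
      exact not_isUnit_zero h
    haveI : Module.Finite ↥B A := Module.Finite.of_restrictScalars_finite K ↥B A
    haveI : Module.Free ↥B A := Module.free_of_flat_of_isLocalRing
    haveI : Module.Finite K ↥B := FiniteDimensional.of_injective B.val.toLinearMap Subtype.val_injective
    haveI := isHopfIdeal_kerIdeal (Sub.valHom hB)
    haveI : Nontrivial ↥B := (Bialgebra.counitAlgHom K ↥B).toRingHom.domain_nontrivial
    have hrk : Module.finrank ↥B A = Module.finrank K (A ⧸ kerIdeal K (Sub.valHom hB)) := by
      rw [← Module.finrank_baseChange (R := A) (S := ↥B) (M' := A),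
        ← Module.finrank_baseChange (R := A) (S := K) (M' := A ⧸ kerIdeal K (Sub.valHom hB))]
      exact LinearEquiv.finrank_eq (galoisEquiv (Sub.valHom hB) fun _ => rfl).toLinearEquiv
    have hprod : Module.finrank K ↥B * Module.finrank ↥B A = d := by
      rw [Module.finrank_mul_finrank, hd]
    obtain ⟨n, x, -, hli, hsp⟩ := HeightOne.exists_monomial_basis (k := K)
      (A := A ⧸ kerIdeal K (Sub.valHom hB)) (p := p) (Fact.out : p.Prime).pos
      (fun m hm hmp h => by
        rw [CharP.cast_eq_zero_iff K p] at h
        exact absurd (Nat.le_of_dvd hm h) hmp.not_ge)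
      (fun a ha => by
        obtain ⟨a, rfl⟩ := Ideal.Quotient.mk_surjective a
        rw [← map_pow, Ideal.Quotient.eq_zero_iff_mem]
        refine Ideal.mem_map_of_mem (Sub.valHom hB : ↥B →+* A) (x := (⟨a ^ p, a, rfl⟩ : ↥B)) ?_
        rw [RingHom.mem_ker]
        change Bialgebra.counitAlgHom K A (a ^ p) = 0
        rw [map_pow, show Bialgebra.counitAlgHom K A a = 0 from ha, zero_pow (Fact.out : p.Prime).ne_zero])
    have hn : Module.finrank K (A ⧸ kerIdeal K (Sub.valHom hB)) = p ^ n := by
      rw [Module.finrank_eq_card_basis (Module.Basis.mk hli hsp.ge)]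
      simp
    rw [hrk, hn] at hprod
    rcases lt_or_ge (Module.finrank K ↥B) d with hlt | hge
    · obtain ⟨s, hs⟩ := ih _ hlt hnilB rfl
      exact ⟨s + n, by rw [← hprod, hs, pow_add]⟩
    · have hBA : B = ⊤ := by
        apply Subalgebra.toSubmodule_injective
        rw [Algebra.top_toSubmodule]
        refine Submodule.eq_top_of_finrank_eq (le_antisymm (Submodule.finrank_le _) ?_)
        rw [hd]; exact hge
      haveI : IsNoetherianRing A := isNoetherian_of_tower K inferInstance
      obtain ⟨N, hN0, hN⟩ := exists_nilpotency hnil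
      have haug : aug K A = ⊥ := by
        have hle : ∀ m, aug K A ≤ aug K A ^ (p ^ m) := by
          intro m
          induction m with
          | zero => simp
          | succ m ihm =>
            intro a ha
            obtain ⟨c, hc⟩ := (hBA ▸ Algebra.mem_top : a ∈ B)
            have hc' : c ^ p = a := hc
            have hcI : c ∈ aug K A := by
              have h : (Bialgebra.counitAlgHom K A c) ^ p = 0 := by rw [← map_pow, hc']; exact ha
              exact eq_zero_of_pow_eq_zero h
            rw [← hc', pow_succ, pow_mul]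
            exact Ideal.pow_mem_pow (ihm hcI) p
        refine le_bot_iff.mp ((hle N).trans ?_)
        rw [← hN]
        exact Ideal.pow_le_pow_right (Nat.lt_pow_self (Fact.out : p.Prime).one_lt).le
      refine ⟨0, ?_⟩
      rw [pow_zero, ← hd]
      refine finrank_eq_one (1 : A) one_ne_zero fun w => ⟨Bialgebra.counitAlgHom K A w, ?_⟩
      have hw : w - algebraMap K A (Bialgebra.counitAlgHom K A w) ∈ aug K A := by
        simp [HeightOne.aug, RingHom.mem_ker]
      rw [haug, Ideal.mem_bot, sub_eq_zero] at hw
      rw [← Algebra.algebraMap_eq_smul_one]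
      exact hw.symm

/-- For a connected finite group scheme, the power by the rank is trivial. -/
theorem convPow_finrank_of_local {A : Type u} [CommRing A] [HopfAlgebra K A] [Module.Finite K A]
    (hnil : ∀ a ∈ aug K A, IsNilpotent a) :
    (toConv (AlgHom.id K A)) ^ (Module.finrank K A) = 1 := by
  haveI : Nontrivial A := (Bialgebra.counitAlgHom K A).toRingHom.domain_nontrivial
  obtain ⟨q, hq⟩ := CharP.exists K
  rcases CharP.char_is_prime_or_zero K q with hqp | rfl
  · haveI := Fact.mk hqp
    obtain ⟨s, hs⟩ := exists_finrank_eq_pow q _ hnil rfl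
    set J : WithConv (A →ₗ[K] A) := toConv LinearMap.id - 1 with hJ
    have hJmem : ∀ a, J a ∈ aug K A := fun a => by
      have h : J a = a - algebraMap K A (Coalgebra.counit a) := rfl
      rw [h]; simp [HeightOne.aug, RingHom.mem_ker]
    have hJpow : ∀ n : ℕ, ∀ a, (J ^ n) a ∈ aug K A ^ n := by
      intro n
      induction n with
      | zero => intro a; rw [pow_zero (aug K A), Ideal.one_eq_top]; trivial
      | succ n ih =>
        intro a
        rw [pow_succ J, LinearMap.convMul_apply, pow_succ (aug K A)]
        induction Coalgebra.comul (R := K) a using TensorProduct.induction_on with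
        | zero => simp
        | tmul x y => exact Ideal.mul_mem_mul (ih x) (hJmem y)
        | add x y hx hy => rw [map_add, map_add]; exact add_mem hx hy
    have hdim : aug K A ^ (Module.finrank K A) = ⊥ := by
      haveI : IsNoetherianRing A := isNoetherian_of_tower K inferInstance
      obtain ⟨N, -, hN⟩ := exists_nilpotency hnil
      have key : ∀ n, aug K A ^ n = ⊥ ∨ Module.finrank K ((aug K A ^ n).restrictScalars K) + n ≤ Module.finrank K A := by
        intro n
        induction n with
        | zero => right; simpa using Submodule.finrank_le _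
        | succ n ih =>
          rcases ih with h | h
          · left; rw [pow_succ, h, Ideal.bot_mul]
          · by_cases h0 : aug K A ^ (n + 1) = ⊥
            · exact Or.inl h0
            · right
              have hlt : (aug K A ^ (n + 1)).restrictScalars K < (aug K A ^ n).restrictScalars K := by
                refine lt_of_le_of_ne (fun x hx => Ideal.pow_le_pow_right (Nat.le_succ n) hx) fun heq => h0 ?_
                have heq' : aug K A ^ (n + 1) = aug K A ^ n := Submodule.restrictScalars_injective K A A heq
                have hstab : ∀ m, aug K A ^ (n + 1) = aug K A ^ (n + 1 + m) := by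
                  intro m
                  induction m with
                  | zero => rfl
                  | succ m ihm => rw [← Nat.add_assoc (n+1), pow_succ (aug K A) (n + 1 + m), ← ihm, heq', ← pow_succ, heq']
                rw [hstab N, pow_add, hN, Ideal.mul_bot]
              have := Submodule.finrank_lt_finrank_of_lt hlt
              omega
      rcases key (Module.finrank K A) with h | h
      · exact h
      · have h0 : Module.finrank K ((aug K A ^ Module.finrank K A).restrictScalars K) = 0 := by omega
        rw [Submodule.finrank_eq_zero] at h0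
        exact Submodule.restrictScalars_injective K A A (h0.trans (by simp))
    haveI : Nontrivial (WithConv (A →ₗ[K] A)) := by
      refine nontrivial_of_ne 1 0 fun h => one_ne_zero (α := A) ?_
      have h1 := congrArg (fun f : WithConv (A →ₗ[K] A) => f 1) h
      simpa using h1
    haveI : CharP (WithConv (A →ₗ[K] A)) q := by
      refine (CharP.charP_iff_prime_eq_zero hqp).mpr ?_
      rw [← nsmul_one]
      ext a
      change q • ((1 : WithConv (A →ₗ[K] A)) a) = 0
      rw [← Nat.cast_smul_eq_nsmul K, CharP.cast_eq_zero, zero_smul]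
    have hlin : (toConv (LinearMap.id : A →ₗ[K] A)) ^ (Module.finrank K A) = 1 := by
      have h1 : (toConv (LinearMap.id : A →ₗ[K] A)) = 1 + J := by rw [hJ]; abel
      rw [hs, h1, add_pow_char_pow_of_commute (p := q) (h := Commute.one_left J), one_pow, ← hs]
      have h0 : J ^ Module.finrank K A = 0 := by
        ext a
        have := hJpow (Module.finrank K A) a
        rw [hdim, Ideal.mem_bot] at this
        exact this
      rw [h0, add_zero]
    refine ofConv_injective (AlgHom.toLinearMap_injective (toConv_injective ?_))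
    rw [AlgHom.toLinearMap_convPow, AlgHom.toLinearMap_convOne]
    exact hlin
  · haveI : CharZero K := CharP.charP_to_charZero K
    rw [finrank_eq_one_charZero hnil, pow_one]
    refine WithConv.ext (AlgHom.ext fun a => ?_)
    exact eq_algebraMap_of_finrank_eq_one (finrank_eq_one_charZero hnil) a

end GrothLib.Hopf.FiniteRank
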