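import Groth.Agent.Lib.Hopf.FreeDescent
import Groth.Agent.Lib.GenFree.Presentation
import Mathlib.RingTheory.Localization.Ideal
import Mathlib.RingTheory.Nilpotent.Lemmas
import Mathlib.RingTheory.Noetherian.Nilpotent
import Mathlib.RingTheory.Flat.FaithfullyFlat.Algebra
import Mathlib.RingTheory.Flat.Localization
import Mathlib.RingTheory.Etale.Basic

/-!
Generic freeness along an injective map with nilpotent base radical and free self-tensor.
-/

universe u

set_option linter.style.haveILetI false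

open TensorProduct

namespace GrothLib.Hopf

variable (B : Type u) [CommRing B] (A : Type u) [CommRing A] [Algebra B A]

/-- If `A ⊗_B A` is free over `A`, an injective finite type extension `B → A` with nilpotent
radical of `B` is free above a nonnilpotent element. -/
theorem exists_free_away [Nontrivial B] [Algebra.FiniteType B A] [Module.Free A (A ⊗[B] A)]
    (hinj : Function.Injective (algebraMap B A)) (hnil : IsNilpotent (nilradical B)) :
    ∃ b : B, ¬ IsNilpotent b ∧ Module.Free (Localization.Away b) (Localization.Away b ⊗[B] A) := by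
  haveI : Nontrivial (B ⧸ nilradical B) := Ideal.Quotient.nontrivial_iff.mpr fun h => by
    have h1 : (1 : B) ∈ nilradical B := h ▸ Submodule.mem_top
    obtain ⟨n, hn⟩ := h1
    rw [one_pow] at hn
    exact one_ne_zero hn
  haveI : IsReduced (B ⧸ nilradical B) := (Ideal.isRadical_iff_quotient_reduced _).mp (Ideal.radical_isRadical _)
  obtain ⟨f, -, hf0, hfree⟩ := GenFree.gf_of_finiteType ((B ⧸ nilradical B) ⊗[B] A)
    ((B ⧸ nilradical B) ⊗[B] A) (1 : B ⧸ nilradical B) one_ne_zero
  obtain ⟨b, rfl⟩ := Ideal.Quotient.mk_surjective f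
  refine ⟨b, fun hb => hf0 (Ideal.Quotient.eq_zero_iff_mem.mpr hb), ?_⟩
  set Rf := Localization.Away b
  set N : Ideal Rf := (nilradical B).map (algebraMap B Rf)
  have hN : IsNilpotent N := by
    obtain ⟨n, hn⟩ := hnil
    exact ⟨n, by rw [← Ideal.map_pow, hn]; exact Ideal.map_bot⟩
  haveI : IsLocalization.Away (Ideal.Quotient.mk (nilradical B) b) (Rf ⧸ N) := by
    have h : IsLocalization (Algebra.algebraMapSubmonoid (B ⧸ nilradical B) (Submonoid.powers b))
        (Rf ⧸ N) := inferInstance
    rw [Algebra.algebraMapSubmonoid_powers] at h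
    exact h
  haveI h1 := GenFree.FreeOn.free_tensor hfree (Rf ⧸ N)
  haveI : IsScalarTower B (B ⧸ nilradical B) (Rf ⧸ N) := IsScalarTower.of_algebraMap_eq fun _ => rfl
  haveI h2 : Module.Free (Rf ⧸ N) ((Rf ⧸ N) ⊗[B] A) :=
    Module.Free.of_equiv (AlgebraTensorModule.cancelBaseChange B (B ⧸ nilradical B) (Rf ⧸ N) (Rf ⧸ N) A)
  haveI h3 : Module.Free (Rf ⧸ N) ((Rf ⧸ N) ⊗[Rf] (Rf ⊗[B] A)) :=
    Module.Free.of_equiv (AlgebraTensorModule.cancelBaseChange B Rf (Rf ⧸ N) (Rf ⧸ N) A).symm
  letI : Algebra Rf (A ⊗[B] Rf) := Algebra.TensorProduct.rightAlgebra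
  haveI : IsScalarTower B Rf (A ⊗[B] Rf) := IsScalarTower.of_algebraMap_eq fun x => by
    rw [Algebra.TensorProduct.algebraMap_apply]
    change (algebraMap B A x) ⊗ₜ[B] (1 : Rf) = (1 : A) ⊗ₜ[B] algebraMap B Rf x
    rw [Algebra.algebraMap_eq_smul_one, Algebra.algebraMap_eq_smul_one, smul_tmul]
  have hi : Function.Injective (algebraMap Rf (A ⊗[B] Rf)) := by
    have h4 : Function.Injective (LinearMap.rTensor Rf (Algebra.linearMap B A)) :=
      Module.Flat.rTensor_preserves_injective_linearMap _ hinj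
    intro x y hxy
    apply (TensorProduct.lid B Rf).symm.injective
    apply h4
    simp only [TensorProduct.lid_symm_apply, LinearMap.rTensor_tmul, Algebra.linearMap_apply, map_one]
    exact hxy
  haveI : Module.Free (A ⊗[B] Rf) ((A ⊗[B] Rf) ⊗[A] (A ⊗[B] A)) := Module.Free.tensor
  haveI : Module.Free (A ⊗[B] Rf) ((A ⊗[B] Rf) ⊗[B] A) :=
    Module.Free.of_equiv (AlgebraTensorModule.cancelBaseChange B A (A ⊗[B] Rf) (A ⊗[B] Rf) A)
  haveI : Module.Free (A ⊗[B] Rf) ((A ⊗[B] Rf) ⊗[Rf] (Rf ⊗[B] A)) :=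
    Module.Free.of_equiv (AlgebraTensorModule.cancelBaseChange B Rf (A ⊗[B] Rf) (A ⊗[B] Rf) A).symm
  exact free_of_baseChange_flat N hN hi

/-- Above such an element the extension is flat and surjective on primes. -/
theorem exists_flat_away [Nontrivial B] [Algebra.FiniteType B A] [Module.Free A (A ⊗[B] A)]
    (hinj : Function.Injective (algebraMap B A)) (hnil : IsNilpotent (nilradical B)) :
    ∃ b : B, ¬ IsNilpotent b ∧ Module.Flat B (Localization.Away (algebraMap B A b)) ∧
      ∀ q : Ideal B, q.IsPrime → b ∉ q → ∃ P : Ideal A, P.IsPrime ∧ P.comap (algebraMap B A) = q := by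
  obtain ⟨b, hb, hfree⟩ := exists_free_away B A hinj hnil
  refine ⟨b, hb, ?_, ?_⟩
  · set Rf := Localization.Away b
    haveI : Module.Flat B (Rf ⊗[B] A) := Module.Flat.trans B Rf (Rf ⊗[B] A)
    haveI : Module.Flat B (A ⊗[B] Rf) := Module.Flat.of_linearEquiv (TensorProduct.comm B A Rf)
    exact Module.Flat.of_linearEquiv
      (((IsLocalization.Away.tensorEquiv A b (A := Rf)).restrictScalars B).symm.toLinearEquiv)
  · intro q hq hbq
    set Rf := Localization.Away b
    have hne : Nontrivial (Rf ⊗[B] A) := by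
      have h4 : Function.Injective (LinearMap.lTensor Rf (Algebra.linearMap B A)) :=
        Module.Flat.lTensor_preserves_injective_linearMap _ hinj
      haveI : Nontrivial Rf := by
        refine nontrivial_of_ne (algebraMap B Rf b) 0 fun h => hb ?_
        obtain ⟨⟨_, n, rfl⟩, hn⟩ := (IsLocalization.map_eq_zero_iff (Submonoid.powers b) Rf b).mp h
        exact ⟨n + 1, by rw [pow_succ]; exact hn⟩
      exact (h4.comp (TensorProduct.rid B Rf).symm.injective).nontrivial
    haveI : Module.FaithfullyFlat Rf (Rf ⊗[B] A) := inferInstance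
    have hdisj : Disjoint (Submonoid.powers b : Set B) q := by
      rw [Set.disjoint_left]
      rintro _ ⟨n, rfl⟩ h
      exact hbq (hq.mem_of_pow_mem n h)
    haveI : (q.map (algebraMap B Rf)).IsPrime :=
      IsLocalization.isPrime_of_isPrime_disjoint (Submonoid.powers b) Rf q hq hdisj
    obtain ⟨Q, hQ, hQq⟩ :=
      Ideal.exists_isPrime_liesOver_of_faithfullyFlat (B := Rf ⊗[B] A) (q.map (algebraMap B Rf))
    refine ⟨Q.comap (Algebra.TensorProduct.includeRight (R := B) (A := Rf) (B := A)), hQ.comap _, ?_⟩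
    rw [← IsLocalization.under_map_of_isPrime_disjoint (Submonoid.powers b) Rf hq hdisj, hQq.over,
      Ideal.under_def, Ideal.comap_comap]
    ext x
    simp only [Ideal.mem_comap, RingHom.comp_apply]
    refine iff_of_eq (congrArg (· ∈ Q) ?_)
    change (1 : Rf) ⊗ₜ[B] algebraMap B A x = algebraMap B Rf x ⊗ₜ[B] (1 : A)
    rw [Algebra.algebraMap_eq_smul_one, Algebra.algebraMap_eq_smul_one, smul_tmul]

end GrothLib.Hopf
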