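import Groth.Agent.Lib.Hopf.Galois
import Groth.Agent.Lib.Hopf.Generic
import Mathlib.RingTheory.Jacobson.Ring
import Mathlib.RingTheory.Jacobson.Artinian
import Mathlib.FieldTheory.IsAlgClosed.Basic
import Mathlib.RingTheory.RingHom.Flat
import Mathlib.RingTheory.LocalProperties.Basic

/-!
Over an algebraically closed field, an injective homomorphism of finitely generated commutative Hopf
algebras is faithfully flat.
-/

universe u

set_option linter.style.haveILetI false

open TensorProduct WithConv

namespace GrothLib.Hopf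

variable {K : Type u} [Field K] [IsAlgClosed K]

/-- The rational point of a maximal ideal. -/
theorem exists_point_ker {A : Type u} [CommRing A] [Algebra K A] [Algebra.FiniteType K A]
    (m : Ideal A) [m.IsMaximal] : ∃ g : A →ₐ[K] K, RingHom.ker g = m := by
  letI := Ideal.Quotient.field m
  haveI : Module.Finite K (A ⧸ m) := finite_of_finite_type_of_isJacobsonRing K (A ⧸ m)
  let e : K ≃ₐ[K] A ⧸ m := AlgEquiv.ofBijective (Algebra.ofId K _)
    IsAlgClosed.algebraMap_bijective_of_isIntegral
  refine ⟨e.symm.toAlgHom.comp (Ideal.Quotient.mkₐ K m), Ideal.ext fun a => ?_⟩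
  rw [RingHom.mem_ker]
  change e.symm (Ideal.Quotient.mk m a) = 0 ↔ _
  rw [EmbeddingLike.map_eq_zero_iff, Ideal.Quotient.eq_zero_iff_mem]

/-- An element killed by all rational points is nilpotent. -/
theorem isNilpotent_of_forall_point {A : Type u} [CommRing A] [Algebra K A] [Algebra.FiniteType K A]
    {x : A} (h : ∀ g : A →ₐ[K] K, g x = 0) : IsNilpotent x := by
  haveI : IsJacobsonRing A := isJacobsonRing_of_finiteType (A := K)
  have h1 : x ∈ (⊥ : Ideal A).jacobson := by
    rw [Ideal.jacobson, Submodule.mem_sInf]
    rintro m ⟨-, hm⟩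
    haveI := hm
    obtain ⟨g, rfl⟩ := exists_point_ker (K := K) m
    exact h g
  rw [← Ideal.radical_eq_jacobson] at h1
  exact h1

theorem faithfullyFlat_algClosed {A B : Type u} [CommRing A] [HopfAlgebra K A] [CommRing B]
    [HopfAlgebra K B] [Algebra.FiniteType K A] [Algebra.FiniteType K B] [Algebra B A]
    [IsScalarTower K B A] (φ : B →ₐc[K] A) (hφ : ∀ b, algebraMap B A b = φ b)
    (hinj : Function.Injective φ) : Module.FaithfullyFlat B A := by
  have hi : Function.Injective (algebraMap B A) := fun x y h => hinj (by rw [← hφ, ← hφ, h])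
  haveI : Nontrivial B := (Bialgebra.counitAlgHom K B).toRingHom.domain_nontrivial
  haveI : IsNoetherianRing B := Algebra.FiniteType.isNoetherianRing K B
  haveI : Algebra.FiniteType B A := .of_restrictScalars_finiteType K B A
  haveI : Module.Free A (A ⊗[B] A) := free_tensor_self φ hφ
  obtain ⟨b, hb, hflat, hsurj⟩ := exists_flat_away B A hi (IsNoetherianRing.isNilpotent_nilradical B)
  obtain ⟨u, hu⟩ : ∃ u : A →ₐ[K] K, u (φ b) ≠ 0 := by
    by_contra! h
    obtain ⟨n, hn⟩ := isNilpotent_of_forall_point h
    exact hb ⟨n, hinj (by rw [map_pow, map_zero]; exact hn)⟩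
  haveI : Module.Flat B A := by
    set T : Set A := {s | Module.Flat B (Localization.Away s)}
    refine Module.flat_of_isLocalized_span (R := B) (S := A) (M := A) T ?_
      (fun r : T => Localization.Away r.1) (fun r => Algebra.linearMap A _) fun r => r.2
    by_contra hne
    obtain ⟨m, hm, hle⟩ := Ideal.exists_le_maximal _ hne
    obtain ⟨g, rfl⟩ := exists_point_ker (K := K) m
    set σ := toConv u * pinv (toConv g) with hσ
    set τ : B ≃ₐ[K] B := shiftEquiv (toConv (σ.ofConv.comp (φ : B →ₐ[K] A)))
    set s : A := shift σ (φ b)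
    have hflat' : Module.Flat B (Localization.Away s) := by
      have hmap : (Submonoid.powers (algebraMap B A b)).map (shiftEquiv σ).toRingEquiv.toMonoidHom =
          Submonoid.powers s := by
        rw [Submonoid.map_powers, hφ]
        rfl
      let L := IsLocalization.ringEquivOfRingEquiv (Localization.Away (algebraMap B A b))
        (Localization.Away s) (shiftEquiv σ).toRingEquiv hmap
      have h1 : (algebraMap B (Localization.Away (algebraMap B A b))).Flat :=
        RingHom.flat_algebraMap_iff.mpr hflat
      have h2 : algebraMap B (Localization.Away s) = (L.toRingHom.comp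
          (algebraMap B (Localization.Away (algebraMap B A b)))).comp τ.symm.toRingEquiv.toRingHom := by
        ext x
        obtain ⟨y, rfl⟩ := τ.surjective x
        change algebraMap B (Localization.Away s) (τ y) =
          L (algebraMap B (Localization.Away (algebraMap B A b)) (τ.symm (τ y)))
        rw [AlgEquiv.symm_apply_apply, IsScalarTower.algebraMap_apply B A (Localization.Away (algebraMap B A b)),
          IsLocalization.ringEquivOfRingEquiv_eq, IsScalarTower.algebraMap_apply B A (Localization.Away s)]
        congr 1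
        rw [hφ, hφ]
        exact (DFunLike.congr_fun (shift_comp_bialgHom φ σ) y).symm
      refine RingHom.flat_algebraMap_iff.mp ?_
      rw [h2]
      exact (RingHom.Flat.of_bijective τ.symm.toRingEquiv.bijective).comp
        (h1.comp (RingHom.Flat.of_bijective L.bijective))
    refine hu ?_
    have h3 : g s = 0 := hle (Ideal.subset_span hflat')
    have h4 := DFunLike.congr_fun (congrArg ofConv (point_comp_shift σ (toConv g))) (φ b)
    rw [hσ, mul_assoc, pinv_mul, mul_one] at h4
    exact h4.symm.trans h3
  refine ⟨fun q hq h => ?_⟩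
  obtain ⟨h₀, rfl⟩ := exists_point_ker (K := K) q
  obtain ⟨g₀, hg₀⟩ : ∃ g : A →ₐ[K] K, g.comp (φ : B →ₐ[K] A) = h₀ := by
    by_contra! hno
    have him : ∀ v : B →ₐ[K] K, v b ≠ 0 → ∃ g : A →ₐ[K] K, g.comp (φ : B →ₐ[K] A) = v := by
      intro v hv
      obtain ⟨P, hP, hPq⟩ := hsurj (RingHom.ker v) (RingHom.ker_isPrime _) hv
      obtain ⟨m, hm, hPm⟩ := Ideal.exists_le_maximal P hP.ne_top
      obtain ⟨g, rfl⟩ := exists_point_ker (K := K) m
      refine ⟨g, AlgHom.ext fun x => ?_⟩
      have hx : x - algebraMap K B (v x) ∈ RingHom.ker v := by simp [RingHom.mem_ker]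
      rw [← hPq] at hx
      have h5 := hPm hx
      rw [RingHom.mem_ker, map_sub, map_sub, sub_eq_zero,
        ← IsScalarTower.algebraMap_apply K B A, AlgHom.commutes, hφ] at h5
      exact h5
    refine hb ?_
    set x := toConv h₀
    have hc : IsNilpotent (φ (shift x b)) := by
      refine isNilpotent_of_forall_point (K := K) fun g => ?_
      by_contra hg
      obtain ⟨g', hg'⟩ := him ((g.comp (φ : B →ₐ[K] A)).comp (shift x)) hg
      refine hno ((toConv g' * pinv (toConv g)).ofConv) (toConv_injective ?_)
      rw [convMul_comp_bialgHom, ofConv_toConv, hg', point_comp_shift, mul_assoc]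
      rw [← convMul_comp_bialgHom, mul_pinv, convOne_comp_bialgHom, toConv_ofConv, mul_one]
    obtain ⟨n, hn⟩ := hc
    refine ⟨n, (shiftEquiv x).injective ?_⟩
    rw [map_pow, map_zero]
    exact hinj (by rw [map_pow, map_zero]; exact hn)
  have h6 : (1 : A) ∈ RingHom.ker h₀ • (⊤ : Submodule B A) := by rw [h]; trivial
  have h7 : ∀ y ∈ RingHom.ker h₀ • (⊤ : Submodule B A), g₀ y = 0 := by
    intro y hy
    induction hy using Submodule.smul_induction_on' with
    | smul r hr z _ =>
      have : g₀ (φ r) = 0 := (DFunLike.congr_fun hg₀ r).trans hr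
      rw [Algebra.smul_def, map_mul, hφ, this, zero_mul]
    | add y _ z _ hy hz => rw [map_add, hy, hz, add_zero]
  exact one_ne_zero ((map_one g₀).symm.trans (h7 1 h6))

end GrothLib.Hopf
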