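import Groth.Agent.Lib.Hopf.Faithful
import Groth.Agent.Lib.Hopf.FaithfulAC
import Groth.Agent.Lib.HopfAG.FF

/-!
# Lifting points of commutative Hopf algebras over an algebraically closed field
-/

universe u

open TensorProduct

namespace GrothLib.Hopf.PointLift

variable {k : Type u} [Field k] {A : Type u} [CommRing A] [HopfAlgebra k A]

/-- The sup of two sub-Hopf algebras is a sub-Hopf algebra. -/
theorem isHopfSubalgebra_sup {C D : Subalgebra k A} (hC : SGA3.IsHopfSubalgebra k A C)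
    (hD : SGA3.IsHopfSubalgebra k A D) : SGA3.IsHopfSubalgebra k A (C ⊔ D) := by
  have hmono : ∀ {C E : Subalgebra k A}, C ≤ E → SGA3.IsHopfSubalgebra k A C →
      C ≤ (Algebra.TensorProduct.map E.val E.val).range.comap (Bialgebra.comulAlgHom k A) ∧
      C ≤ E.comap (HopfAlgebra.antipodeAlgHom k A) := by
    refine fun {C E} h hC => ⟨fun b hb => ?_, fun b hb => h (hC.2 b hb)⟩
    obtain ⟨y, hy⟩ := hC.1 b hb
    refine ⟨Algebra.TensorProduct.map (Subalgebra.inclusion h) (Subalgebra.inclusion h) y, ?_⟩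
    refine Eq.trans ?_ hy
    clear hy
    induction y using TensorProduct.induction_on with
    | zero => simp
    | tmul p q => rfl
    | add p q hp hq => simp only [map_add, hp, hq]
  obtain ⟨h1, h2⟩ := hmono (E := C ⊔ D) le_sup_left hC
  obtain ⟨h3, h4⟩ := hmono (E := C ⊔ D) le_sup_right hD
  exact ⟨fun b hb => (sup_le h1 h3) hb, fun b hb => (sup_le h2 h4) hb⟩

variable [IsAlgClosed k]

/-- A point of a sub-Hopf algebra extends to an intermediate one of finite type over it. -/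
theorem exists_extend_fg {C E : Subalgebra k A} (hC : SGA3.IsHopfSubalgebra k A C)
    (hE : SGA3.IsHopfSubalgebra k A E) (hle : C ≤ E) (s : Finset A)
    (hs : E ≤ C ⊔ Algebra.adjoin k (s : Set A)) (hsE : (s : Set A) ⊆ E) (y : ↥C →ₐ[k] k) :
    ∃ g : ↥E →ₐ[k] k, ∀ c : C, g (Subalgebra.inclusion hle c) = y c := by
  letI := Sub.hopfAlgebra hC
  letI := Sub.hopfAlgebra hE
  let ι := Subalgebra.inclusion hle
  have hcomul : (Algebra.TensorProduct.map ι ι).comp (Bialgebra.comulAlgHom k ↥C) =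
      (Bialgebra.comulAlgHom k ↥E).comp ι := by
    refine AlgHom.ext fun x => Sub.incl₂_injective (B := E) ?_
    change Sub.incl₂ E (Algebra.TensorProduct.map ι ι (Sub.comul hC x)) = Sub.incl₂ E (Sub.comul hE (ι x))
    rw [Sub.incl₂_comul hE]
    change _ = Coalgebra.comul (R := k) (x : A)
    rw [← Sub.incl₂_comul hC x]
    induction Sub.comul hC x using TensorProduct.induction_on with
    | zero => simp
    | tmul p q => rfl
    | add p q hp hq => simp only [map_add, hp, hq]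
  let φ : ↥C →ₐc[k] ↥E := BialgHom.ofAlgHom ι rfl hcomul
  letI := ι.toRingHom.toAlgebra
  haveI : IsScalarTower k ↥C ↥E := IsScalarTower.of_algebraMap_eq fun x => (ι.commutes x).symm
  haveI : Module.FaithfullyFlat ↥C ↥E :=
    GrothLib.Hopf.faithfullyFlat φ (fun _ => rfl) (Subalgebra.inclusion_injective hle)
  haveI : Algebra.FiniteType ↥C ↥E := by
    classical
    refine ⟨⟨s.attach.image (fun x => (⟨x.1, hsE x.2⟩ : E)), ?_⟩⟩
    rw [eq_top_iff]
    rintro ⟨x, hx⟩ -
    let F := Algebra.adjoin ↥C (↑(s.attach.image (fun x => (⟨x.1, hsE x.2⟩ : E))) : Set E)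
    have key : C ⊔ Algebra.adjoin k (s : Set A) ≤ (F.restrictScalars k).map E.val := by
      refine sup_le (fun c hc => ⟨ι ⟨c, hc⟩, F.algebraMap_mem ⟨c, hc⟩, rfl⟩) (Algebra.adjoin_le fun c hc => ?_)
      exact ⟨⟨c, hsE hc⟩, Algebra.subset_adjoin (by simpa using hc), rfl⟩
    obtain ⟨z, hz, hzx⟩ := key (hs hx)
    exact (Subtype.ext hzx : z = ⟨x, hx⟩) ▸ hz
  letI := (y : ↥C →+* k).toAlgebra
  haveI : IsScalarTower k ↥C k := IsScalarTower.of_algebraMap_eq fun r => (y.commutes r).symm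
  haveI : Nontrivial (k ⊗[↥C] ↥E) := Module.FaithfullyFlat.rTensor_nontrivial ↥C ↥E k
  obtain ⟨m, hm⟩ := Ideal.exists_maximal (k ⊗[↥C] ↥E)
  letI := Ideal.Quotient.field m
  haveI : Algebra.FiniteType k ((k ⊗[↥C] ↥E) ⧸ m) :=
    Algebra.FiniteType.of_surjective (Ideal.Quotient.mkₐ k m) (Ideal.Quotient.mkₐ_surjective k m)
  haveI : Module.Finite k ((k ⊗[↥C] ↥E) ⧸ m) := finite_of_finite_type_of_isJacobsonRing k _
  let e : k ≃ₐ[k] (k ⊗[↥C] ↥E) ⧸ m := AlgEquiv.ofBijective (Algebra.ofId k _)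
    IsAlgClosed.algebraMap_bijective_of_isIntegral
  let g : ↥E →ₐ[↥C] k := (e.symm.toAlgHom.restrictScalars ↥C).comp
    (((Ideal.Quotient.mkₐ k m).restrictScalars ↥C).comp Algebra.TensorProduct.includeRight)
  exact ⟨g.restrictScalars k, fun c => g.commutes c⟩

/-- A point of a sub-Hopf algebra over an algebraically closed field extends. -/
theorem exists_extend {B : Subalgebra k A} (hB : SGA3.IsHopfSubalgebra k A B) (y : ↥B →ₐ[k] k) :
    ∃ g : A →ₐ[k] k, ∀ b : B, g b = y b := by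
  let p : A × k →ₐ[k] A := AlgHom.fst k A k
  let G₀ : Subalgebra k (A × k) := (B.val.prod y).range
  let S : Set (Subalgebra k (A × k)) :=
    {G | SGA3.IsHopfSubalgebra k A (G.map p) ∧ (∀ v ∈ G, v.1 = 0 → v = 0) ∧ G₀ ≤ G}
  have h₀ : G₀ ∈ S := by
    refine ⟨?_, ?_, le_rfl⟩
    · suffices G₀.map p = B by rwa [this]
      ext a
      exact ⟨fun ⟨v, ⟨b, hb⟩, hv⟩ => hv ▸ hb ▸ b.2, fun ha => ⟨_, ⟨⟨a, ha⟩, rfl⟩, rfl⟩⟩
    · rintro _ ⟨b, rfl⟩ hb
      have : b = 0 := Subtype.ext hb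
      rw [this, map_zero]
  obtain ⟨G, -, hG⟩ := zorn_le_nonempty₀ S (fun c hcS hc G hGc => by
    classical
    have hne : Nonempty c := ⟨⟨G, hGc⟩⟩
    have hdir : Directed (· ≤ ·) (Subtype.val : c → Subalgebra k (A × k)) := hc.directed
    refine ⟨⨆ i : c, (i : Subalgebra k (A × k)), ⟨?_, ?_, ?_⟩, fun z hz => le_iSup (Subtype.val : c → _) ⟨z, hz⟩⟩
    · have hmap : (⨆ i : c, (i : Subalgebra k (A × k))).map p = ⨆ i : c, (i : Subalgebra k (A × k)).map p :=
        (Subalgebra.gc_map_comap p).l_iSup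
      rw [hmap]
      have hdir' : Directed (· ≤ ·) (fun i : c => (i : Subalgebra k (A × k)).map p) :=
        hdir.mono_comp _ fun _ _ h => (Subalgebra.gc_map_comap p).monotone_l h
      constructor
      · intro b hb
        obtain ⟨i, hi⟩ := Set.mem_iUnion.mp ((Subalgebra.coe_iSup_of_directed hdir').subset hb)
        obtain ⟨z, hz⟩ := (hcS i.2).1.1 b hi
        have hle := le_iSup (fun i : c => (i : Subalgebra k (A × k)).map p) i
        refine ⟨TensorProduct.map (Subalgebra.inclusion hle).toLinearMap (Subalgebra.inclusion hle).toLinearMap z, ?_⟩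
        refine Eq.trans ?_ hz
        clear hz
        induction z using TensorProduct.induction_on with
        | zero => simp
        | tmul p q => rfl
        | add p q hp hq => simp only [map_add, hp, hq]
      · intro b hb
        obtain ⟨i, hi⟩ := Set.mem_iUnion.mp ((Subalgebra.coe_iSup_of_directed hdir').subset hb)
        exact le_iSup (fun i : c => (i : Subalgebra k (A × k)).map p) i ((hcS i.2).1.2 b hi)
    · intro v hv
      obtain ⟨i, hi⟩ := Set.mem_iUnion.mp ((Subalgebra.coe_iSup_of_directed hdir).subset hv)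
      exact (hcS i.2).2.1 v hi
    · exact (hcS hGc).2.2.trans (le_iSup (Subtype.val : c → _) ⟨G, hGc⟩)) G₀ h₀
  obtain ⟨⟨hC, hinj, hle0⟩, hmax⟩ := hG
  let f : ↥G →ₐ[k] ↥(G.map p) := (p.comp G.val).codRestrict _ fun v => ⟨v.1, v.2, rfl⟩
  have hf : Function.Bijective f := by
    refine ⟨(injective_iff_map_eq_zero f).mpr fun v hv => Subtype.ext (hinj v.1 v.2 (congrArg Subtype.val hv)), ?_⟩
    rintro ⟨_, v, hv, rfl⟩
    exact ⟨⟨v, hv⟩, rfl⟩
  let e := AlgEquiv.ofBijective f hf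
  let z : ↥(G.map p) →ₐ[k] k := ((AlgHom.snd k A k).comp G.val).comp e.symm.toAlgHom
  have htop : G.map p = ⊤ := by
    rw [eq_top_iff]
    intro a _
    obtain ⟨D, ⟨s, hs⟩, hD, haD⟩ := Sub.exists_fg (k := k) ({a} : Finset A)
    have hE := isHopfSubalgebra_sup hC hD
    obtain ⟨g, hg⟩ := exists_extend_fg hC hE le_sup_left s
      (le_of_eq (by rw [hs])) (fun x hx => le_sup_right (a := G.map p) (hs ▸ Algebra.subset_adjoin hx)) z
    let E := G.map p ⊔ D
    let G' : Subalgebra k (A × k) := (E.val.prod g).range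
    have hGG' : G ≤ G' := by
      intro v hv
      refine ⟨Subalgebra.inclusion le_sup_left (f ⟨v, hv⟩), Prod.ext rfl ?_⟩
      change g _ = v.2
      rw [hg]
      change (((e.symm (f ⟨v, hv⟩) : G) : A × k)).2 = v.2
      rw [show e.symm (f ⟨v, hv⟩) = ⟨v, hv⟩ from e.symm_apply_apply _]
    have hG' : G' ∈ S := by
      refine ⟨?_, ?_, hle0.trans hGG'⟩
      · suffices G'.map p = E by rwa [this]
        ext x
        exact ⟨fun ⟨v, ⟨b, hb⟩, hv⟩ => hv ▸ hb ▸ b.2, fun hx => ⟨_, ⟨⟨x, hx⟩, rfl⟩, rfl⟩⟩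
      · rintro _ ⟨b, rfl⟩ hb
        have : b = 0 := Subtype.ext hb
        rw [this, map_zero]
    exact ⟨(a, g ⟨a, le_sup_right (a := G.map p) (haD (by simp))⟩),
      hmax hG' hGG' ⟨⟨a, le_sup_right (a := G.map p) (haD (by simp))⟩, rfl⟩, rfl⟩
  refine ⟨z.comp ((AlgHom.id k A).codRestrict _ fun a => htop ▸ Algebra.mem_top), fun b => ?_⟩
  have hv : ((b : A), y b) ∈ G := hle0 ⟨b, rfl⟩
  change (((e.symm _ : G) : A × k)).2 = y b
  rw [show e.symm _ = (⟨((b : A), y b), hv⟩ : G) from e.injective (by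
    rw [e.apply_symm_apply]; exact Subtype.ext rfl)]

/-- A non-nilpotent element is non-zero at some point. -/
theorem exists_point_ne_zero {a : A} (ha : ¬ IsNilpotent a) : ∃ g : A →ₐ[k] k, g a ≠ 0 := by
  obtain ⟨D, hDfg, hD, haD⟩ := Sub.exists_fg (k := k) ({a} : Finset A)
  haveI : Algebra.FiniteType k ↥D := ⟨(Subalgebra.fg_top D).mpr hDfg⟩
  have ha' : a ∈ D := haD (by simp)
  obtain ⟨y, hy⟩ : ∃ y : ↥D →ₐ[k] k, y ⟨a, ha'⟩ ≠ 0 := by
    by_contra! h
    exact ha ((GrothLib.Hopf.isNilpotent_of_forall_point h).map D.val)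
  obtain ⟨g, hg⟩ := exists_extend hD y
  exact ⟨g, hg ⟨a, ha'⟩ ▸ hy⟩

/-- Points lift along a map of Hopf algebras with nilpotent kernel. -/
theorem exists_lift {A' : Type u} [CommRing A'] [HopfAlgebra k A'] (φ : A' →ₐc[k] A)
    (hφ : ∀ x, φ x = 0 → IsNilpotent x) (q : A' →ₐ[k] k) : ∃ g : A →ₐ[k] k, g.comp (φ : A' →ₐ[k] A) = q := by
  let f := (φ : A' →ₐ[k] A).rangeRestrict
  have hker : RingHom.ker f ≤ RingHom.ker q := fun x hx => by
    have : φ x = 0 := congrArg Subtype.val (hx : f x = 0)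
    exact ((hφ x this).map q).eq_zero
  let y : ↥(φ : A' →ₐ[k] A).range →ₐ[k] k :=
    AlgHom.liftOfSurjective f (φ : A' →ₐ[k] A).rangeRestrict_surjective q hker
  obtain ⟨g, hg⟩ := exists_extend (GrothLib.HopfAG.isHopfSubalgebra_range φ) y
  exact ⟨g, AlgHom.ext fun x => (hg (f x)).trans (AlgHom.liftOfSurjective_apply _ _ _ _ _)⟩

end GrothLib.Hopf.PointLift
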