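import Groth.Agent.Lib.Hopf.FiniteGroupPow
import Mathlib.FieldTheory.Fixed
import Mathlib.LinearAlgebra.FreeModule.Finite.Basic
import Mathlib.GroupTheory.SpecificGroups.Cyclic
import Mathlib.Data.Nat.Prime.Factorial

/-!
A group scheme of prime order over an algebraically closed field: its dual algebra is generated by
one element.
-/

universe u v

set_option linter.style.haveILetI false

open TensorProduct WithConv

namespace GrothLib.Hopf.OrderPrime

open GrothLib.Hopf.HeightOne GrothLib.Hopf.FiniteRank

variable {K : Type u} [Field K] [IsAlgClosed K] {A : Type u} [CommRing A] [HopfAlgebra K A]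
  [Module.Finite K A]

theorem finite_points : Finite (A →ₐ[K] K) := inferInstance

/-- the number of points divides the rank; if there is only one point the algebra is local -/
theorem card_points_dvd : Nat.card (A →ₐ[K] K) ∣ Module.finrank K A := by
  classical
  haveI : IsArtinianRing A := IsArtinianRing.of_finite K A
  haveI : IsNoetherianRing A := isNoetherian_of_tower K inferInstance
  haveI : Nontrivial A := (Bialgebra.counitAlgHom K A).toRingHom.domain_nontrivial
  haveI : ∀ g : A →ₐ[K] K, (RingHom.ker g).IsMaximal := fun g =>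
    RingHom.ker_isMaximal_of_surjective g fun c => ⟨algebraMap K A c, g.commutes c⟩
  haveI := finite_points (K := K) (A := A)
  haveI := Fintype.ofFinite (A →ₐ[K] K)
  have kinj : ∀ g h : A →ₐ[K] K, RingHom.ker g = RingHom.ker h → g = h := fun g h hk => by
    refine AlgHom.ext fun a => ?_
    have ha : a - algebraMap K A (g a) ∈ RingHom.ker g := by simp [RingHom.mem_ker]
    rw [hk, RingHom.mem_ker, map_sub, AlgHom.commutes, sub_eq_zero] at ha
    exact ha.symm
  obtain ⟨N, hnilN⟩ := IsNoetherianRing.isNilpotent_nilradical A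
  let F : A →ₗ[K] ∀ g : A →ₐ[K] K, A ⧸ RingHom.ker g ^ N :=
    LinearMap.pi fun g => (Ideal.Quotient.mkₐ K _).toLinearMap
  have hcop : Pairwise fun g h : A →ₐ[K] K => IsCoprime (RingHom.ker g ^ N) (RingHom.ker h ^ N) := by
    intro g h hgh
    refine IsCoprime.pow ?_
    rw [Ideal.isCoprime_iff_sup_eq]
    exact Ideal.IsMaximal.coprime_of_ne inferInstance inferInstance fun hk => hgh (kinj g h hk)
  have hinj : Function.Injective F := by
    rw [injective_iff_map_eq_zero]
    intro x hx
    have hx' : x ∈ ⨅ g : A →ₐ[K] K, RingHom.ker g ^ N := by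
      simp only [Ideal.mem_iInf]
      exact fun g => Ideal.Quotient.eq_zero_iff_mem.mp (congrFun hx g)
    have hle : (⨅ g : A →ₐ[K] K, RingHom.ker g ^ N) ≤ ⊥ := by
      have h0 := Ideal.prod_eq_iInf_of_pairwise_isCoprime (s := Finset.univ)
        (J := fun g : A →ₐ[K] K => RingHom.ker g ^ N) (fun g _ h _ hgh => hcop hgh)
      rw [show (⨅ g : A →ₐ[K] K, RingHom.ker g ^ N) = ∏ g : A →ₐ[K] K, RingHom.ker g ^ N by
        rw [h0]; simp, Finset.prod_pow]
      refine (Ideal.pow_right_mono ?_ N).trans hnilN.le
      intro y hy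
      exact isNilpotent_of_forall_point (K := K) fun g =>
        (Ideal.prod_le_inf.trans (Finset.inf_le (Finset.mem_univ g))) hy
    exact (Ideal.mem_bot).mp (hle hx')
  have hsurj : Function.Surjective F := by
    intro y
    obtain ⟨x, hx⟩ := Ideal.quotientInfToPiQuotient_surj hcop y
    obtain ⟨x, rfl⟩ := Ideal.Quotient.mk_surjective x
    exact ⟨x, hx⟩
  rw [LinearEquiv.finrank_eq (LinearEquiv.ofBijective F ⟨hinj, hsurj⟩), Module.finrank_pi_fintype]
  have heq : ∀ g : A →ₐ[K] K,
      Module.finrank K (A ⧸ RingHom.ker g ^ N) = Module.finrank K (A ⧸ aug K A ^ N) := fun g => by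
    refine LinearEquiv.finrank_eq (Ideal.quotientEquivAlg _ _ (shiftEquiv (toConv g)) ?_).toLinearEquiv
    rw [Ideal.map_pow]
    congr 1
    have hk : RingHom.ker g = (aug K A).comap (shiftEquiv (toConv g) : A ≃ₐ[K] A).toAlgHom := by
      ext a
      rw [Ideal.mem_comap, RingHom.mem_ker]
      change _ ↔ Bialgebra.counitAlgHom K A (shift (toConv g) a) = 0
      have h := DFunLike.congr_fun (congrArg ofConv (point_comp_shift (toConv g) (1 : WithConv (A →ₐ[K] K)))) a
      rw [mul_one] at h
      rw [show Bialgebra.counitAlgHom K A (shift (toConv g) a) = g a from h]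
    rw [hk]
    exact (Ideal.map_comap_of_surjective (shiftEquiv (toConv g) : A ≃ₐ[K] A).toAlgHom
      (shiftEquiv (toConv g)).surjective _).symm
  simp [heq, Nat.card_eq_fintype_card]

theorem toLinearMap_convPow' (g : WithConv (A →ₐ[K] K)) (n : ℕ) :
    toConv (g ^ n).ofConv.toLinearMap = toConv g.ofConv.toLinearMap ^ n := by
  rw [AlgHom.toLinearMap_convPow]

/-- a connected group of prime order has a coordinate ring generated by one nilpotent element -/
theorem exists_connected_generator {p : ℕ} [Fact p.Prime] (hA : Module.finrank K A = p)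
    (hnil : ∀ a ∈ aug K A, IsNilpotent a) :
    CharP K p ∧ (∀ a ∈ aug K A, a ^ p = 0) ∧ (∀ m, 0 < m → m < p → (m : K) ≠ 0) ∧
      ∃ x : Fin 1 → A, (∀ i, x i ∈ aug K A) ∧ LinearIndependent K (mon p x) ∧
        Submodule.span K (Set.range (mon p x)) = ⊤ := by
  classical
  have hp := (Fact.out : p.Prime)
  obtain ⟨q, hq⟩ := CharP.exists K
  rcases CharP.char_is_prime_or_zero K q with hqp | rfl
  swap
  · haveI : CharZero K := CharP.charP_to_charZero K
    exact absurd (hA.symm.trans (finrank_eq_one_charZero hnil)) hp.ne_one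
  haveI := Fact.mk hqp
  obtain ⟨s, hs⟩ := exists_finrank_eq_pow q _ hnil hA
  have hqp' : q = p := by
    have h : q ∣ p := by
      rcases Nat.eq_zero_or_pos s with rfl | hs0
      · exact absurd (by simpa using hs) hp.ne_one
      · exact hs ▸ dvd_pow_self q hs0.ne'
    exact ((Nat.prime_dvd_prime_iff_eq hqp hp).1 h)
  subst hqp'
  have hfac : ∀ m, 0 < m → m < q → (m : K) ≠ 0 := fun m hm hmq h0 =>
    absurd (Nat.le_of_dvd hm ((CharP.cast_eq_zero_iff K q m).1 h0)) (not_le.2 hmq)
  have hpow : ∀ a ∈ aug K A, a ^ q = 0 := fun a ha => by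
    obtain ⟨N, -, hN⟩ := exists_nilpotency hnil
    by_contra hne
    -- the powers `1, a, …, a ^ q` would be independent
    have hli : LinearIndependent K (fun i : Fin (q + 1) => a ^ (i : ℕ)) := by
      rw [Fintype.linearIndependent_iff]
      intro c hc
      by_contra hnz
      push Not at hnz
      let S := Finset.univ.filter fun i : Fin (q + 1) => c i ≠ 0
      have hS : S.Nonempty := by obtain ⟨i, hi⟩ := hnz; exact ⟨i, by simp [S, hi]⟩
      let i₀ := S.min' hS
      have hi₀ : c i₀ ≠ 0 := (Finset.mem_filter.1 (S.min'_mem hS)).2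
      have key : a ^ (i₀ : ℕ) ∈ Ideal.span {a ^ ((i₀ : ℕ) + 1)} := by
        have : c i₀ • a ^ (i₀ : ℕ) = - ∑ i ∈ Finset.univ.erase i₀, c i • a ^ (i : ℕ) := by
          rw [eq_neg_iff_add_eq_zero]
          exact (Finset.add_sum_erase Finset.univ (fun i => c i • a ^ (i : ℕ)) (Finset.mem_univ i₀)).trans hc
        have h2 : c i₀ • a ^ (i₀ : ℕ) ∈ Ideal.span {a ^ ((i₀ : ℕ) + 1)} := by
          rw [this]
          refine neg_mem (Ideal.sum_mem _ fun i hi => ?_)
          by_cases hci : c i = 0
          · simp [hci]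
          · have hlt : i₀ < i := lt_of_le_of_ne (S.min'_le i (by simp [S, hci]))
              (fun e => (Finset.mem_erase.1 hi).1 e.symm)
            refine Submodule.smul_of_tower_mem _ _ (Ideal.mem_span_singleton.2 ?_)
            exact pow_dvd_pow a hlt
        have h3 := Submodule.smul_of_tower_mem (Ideal.span {a ^ ((i₀ : ℕ) + 1)}) (c i₀)⁻¹ h2
        rwa [smul_smul, inv_mul_cancel₀ hi₀, one_smul] at h3
      obtain ⟨d, hd⟩ := Ideal.mem_span_singleton.1 key
      have hu : IsUnit (1 - a * d) :=
        ((Commute.all a d).isNilpotent_mul_right (hnil a ha)).isUnit_one_sub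
      have h0 : a ^ (i₀ : ℕ) * (1 - a * d) = 0 := by
        rw [mul_sub, mul_one, ← mul_assoc, ← pow_succ, ← hd, sub_self]
      exact hne (pow_eq_zero_of_le (Nat.lt_succ_iff.1 i₀.2) (hu.mul_left_eq_zero.1 h0))
    have := hli.fintype_card_le_finrank
    rw [Fintype.card_fin, hA] at this
    omega
  obtain ⟨n, x, hx, hli, hsp⟩ := exists_monomial_basis (k := K) (A := A) (p := q) hp.pos hfac hpow
  have hn : n = 1 := by
    have hd : Module.finrank K A = q ^ n := by
      rw [Module.finrank_eq_card_basis (Module.Basis.mk hli hsp.ge)]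
      simp
    rw [hA] at hd
    exact Nat.pow_right_injective hp.two_le (hd.symm.trans (pow_one q).symm)
  subst hn
  exact ⟨hq, hpow, hfac, x, hx, hli, hsp⟩

/-- the dual algebra of a group of prime order is spanned by the powers of one element -/
theorem exists_pow_independent {p : ℕ} [Fact p.Prime] (hA : Module.finrank K A = p) :
    ∃ f : WithConv (A →ₗ[K] K), LinearIndependent K (fun i : Fin p => (f ^ (i : ℕ)).ofConv) := by
  classical
  have hp := (Fact.out : p.Prime)
  haveI := finite_points (K := K) (A := A)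
  haveI : Nontrivial A := (Bialgebra.counitAlgHom K A).toRingHom.domain_nontrivial
  have hdvd := card_points_dvd (K := K) (A := A)
  rw [hA] at hdvd
  rcases hp.eq_one_or_self_of_dvd _ hdvd with h1 | h1
  · -- connected case
    have hsub : Subsingleton (A →ₐ[K] K) := (Nat.card_eq_one_iff_unique.1 h1).1
    have hnil : ∀ a ∈ aug K A, IsNilpotent a := fun a ha =>
      isNilpotent_of_forall_point (K := K) fun g => by
        rw [Subsingleton.elim g (Bialgebra.counitAlgHom K A)]
        exact ha
    obtain ⟨hq, hpow, hfac, x, hx, hli, hsp⟩ := exists_connected_generator hA hnil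
    let b := Module.Basis.mk hli hsp.ge
    let e₀ : Fin 1 → Fin p := fun _ => ⟨1, hp.one_lt⟩
    let δ : A →ₗ[K] K := b.coord e₀
    have hmon : ∀ e : Fin 1 → Fin p, mon p x e = x 0 ^ (e 0 : ℕ) := fun e => by simp [mon]
    have hδx : ∀ j : Fin p, δ (x 0 ^ (j : ℕ)) = if (j : ℕ) = 1 then 1 else 0 := fun j => by
      rw [← hmon (fun _ => j), ← Module.Basis.mk_apply hli hsp.ge]
      change b.repr (b _) e₀ = _
      rw [Module.Basis.repr_self, Finsupp.single_apply]
      refine if_congr ⟨fun h => congrArg Fin.val (congrFun h 0), fun h => funext fun _ => Fin.ext h⟩ rfl rfl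
    have hcomb : ∀ a : A, ∃ c : Fin p → K, a = ∑ j, c j • x 0 ^ (j : ℕ) := fun a => by
      refine ⟨fun j => b.repr a (fun _ => j), ?_⟩
      conv_lhs => rw [← b.sum_repr a]
      refine Fintype.sum_equiv (Equiv.funUnique (Fin 1) (Fin p)) _ _ fun e => ?_
      rw [show b e = mon p x e from Module.Basis.mk_apply hli hsp.ge e, hmon]
      congr 2
      exact funext fun i => by rw [Subsingleton.elim i 0]; rfl
    have hx0 : Coalgebra.counit (R := K) (x 0) = 0 := hx 0
    have hx0' : Bialgebra.counitAlgHom K A (x 0) = 0 := hx 0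
    have hεpow : ∀ j : ℕ, Coalgebra.counit (R := K) (x 0 ^ j) = if j = 0 then (1 : K) else 0 := fun j => by
      change Bialgebra.counitAlgHom K A (x 0 ^ j) = _
      rw [map_pow, hx0', zero_pow_eq]
    have hder : IsEpsDer δ := by
      have hmul : ∀ i j : Fin p, δ (x 0 ^ (i : ℕ) * x 0 ^ (j : ℕ)) =
          Coalgebra.counit (R := K) (x 0 ^ (i : ℕ)) * δ (x 0 ^ (j : ℕ)) +
            Coalgebra.counit (R := K) (x 0 ^ (j : ℕ)) * δ (x 0 ^ (i : ℕ)) := fun i j => by
        rw [← pow_add, hεpow, hεpow, hδx, hδx]
        by_cases hlt : (i : ℕ) + (j : ℕ) < p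
        · rw [hδx ⟨_, hlt⟩]
          simp only
          rcases Nat.eq_zero_or_pos (i : ℕ) with hi | hi <;>
            rcases Nat.eq_zero_or_pos (j : ℕ) with hj | hj <;>
            split_ifs <;> (try omega) <;> simp
        · rw [pow_eq_zero_of_le (not_lt.1 hlt) (hpow _ (hx 0)), map_zero, if_neg (by omega : ¬(i : ℕ) = 0),
            if_neg (by omega : ¬(j : ℕ) = 0)]
          simp
      intro a c
      obtain ⟨s, rfl⟩ := hcomb a
      obtain ⟨t, rfl⟩ := hcomb c
      simp only [Finset.sum_mul, Finset.mul_sum, map_sum, smul_mul_smul_comm, map_smul, hmul,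
        smul_eq_mul, mul_add, Finset.sum_add_distrib]
      congr 1
      · exact Finset.sum_congr rfl fun i _ => Finset.sum_congr rfl fun j _ => by
          simp only [Bialgebra.counitAlgHom_apply]; ring
      · rw [Finset.sum_comm]
        exact Finset.sum_congr rfl fun i _ => Finset.sum_congr rfl fun j _ => by
          simp only [Bialgebra.counitAlgHom_apply]; ring
    let D := invDer δ hder
    let δ' : WithConv (A →ₗ[K] K) := toConv δ
    have hεD : ∀ (n : ℕ) (a : A), Coalgebra.counit (R := K) ((⇑D)^[n] a) = (δ' ^ n) a := by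
      intro n
      induction n with
      | zero => intro a; rw [Function.iterate_zero_apply, pow_zero, LinearMap.convOne_apply]; simp
      | succ n ih =>
        intro a
        rw [Function.iterate_succ_apply, ih, pow_succ, LinearMap.convMul_apply]
        change (δ' ^ n) (TensorProduct.rid K A (δ.lTensor A (Coalgebra.comul (R := K) a))) = _
        induction Coalgebra.comul (R := K) a using TensorProduct.induction_on with
        | zero => simp
        | tmul y z => simp [δ', mul_comm]
        | add y z hy hz => simp only [map_add, hy, hz]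
    have hDx : Coalgebra.counit (R := K) (D (x 0)) = 1 := by
      change Bialgebra.counitAlgHom K A (invDer δ hder (x 0)) = 1
      rw [counit_invDer]
      simpa using hδx ⟨1, hp.one_lt⟩
    have hDaug : ∀ (j : ℕ) (a : A), a ∈ aug K A ^ (j + 1) → D a ∈ aug K A ^ j :=
      fun j a ha => invDer_mem_pow δ hder j a ha
    have hval : ∀ n j : ℕ, n ≤ j → Coalgebra.counit (R := K) ((⇑D)^[n] (x 0 ^ j)) =
        if n = j then (n.factorial : K) else 0 := by
      have hlow : ∀ n j : ℕ, n < j → ∀ a ∈ aug K A ^ j, Coalgebra.counit (R := K) ((⇑D)^[n] a) = 0 := by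
        intro n
        induction n with
        | zero =>
          intro j hj a ha
          exact Ideal.pow_le_self (by omega) ha
        | succ n ih =>
          intro j hj a ha
          obtain ⟨j, rfl⟩ : ∃ i, j = i + 1 := ⟨j - 1, by omega⟩
          rw [Function.iterate_succ_apply]
          exact ih j (by omega) _ (hDaug j a ha)
      intro n
      induction n with
      | zero =>
        intro j _
        rw [Function.iterate_zero_apply, hεpow]
        simp [eq_comm]
      | succ n ih =>
        intro j hj
        obtain ⟨j, rfl⟩ : ∃ i, j = i + 1 := ⟨j - 1, by omega⟩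
        rw [Function.iterate_succ_apply, Derivation.leibniz_pow, Nat.add_sub_cancel]
        have hsplit : x 0 ^ j • D (x 0) = x 0 ^ j + x 0 ^ j * (D (x 0) - 1) := by
          rw [smul_eq_mul]; ring
        have hmem : x 0 ^ j * (D (x 0) - 1) ∈ aug K A ^ (j + 1) := by
          rw [pow_succ]
          refine Ideal.mul_mem_mul (Ideal.pow_mem_pow (hx 0) j) ?_
          change Bialgebra.counitAlgHom K A (D (x 0) - 1) = 0
          rw [map_sub, map_one, sub_eq_zero]
          exact hDx
        rw [← Nat.cast_smul_eq_nsmul K, hsplit]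
        have hlin : ∀ (m : ℕ) (c : K) (y z : A), (⇑D)^[m] (c • (y + z)) =
            c • ((⇑D)^[m] y + (⇑D)^[m] z) := by
          intro m
          induction m with
          | zero => intro c y z; rfl
          | succ m ihm =>
            intro c y z
            rw [Function.iterate_succ_apply, Function.iterate_succ_apply, Function.iterate_succ_apply,
              Derivation.map_smul, map_add, ihm]
        rw [hlin, map_smul, map_add, ih j (by omega), hlow n (j + 1) (by omega) _ hmem, add_zero]
        by_cases hnj : n = j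
        · subst hnj
          rw [if_pos rfl, if_pos rfl, Nat.factorial_succ, Nat.cast_mul, smul_eq_mul]
        · rw [if_neg hnj, if_neg (by omega), smul_zero]
    refine ⟨δ', ?_⟩
    rw [Fintype.linearIndependent_iff]
    intro c hc
    by_contra hnz
    push Not at hnz
    let S := Finset.univ.filter fun i : Fin p => c i ≠ 0
    have hS : S.Nonempty := by obtain ⟨i, hi⟩ := hnz; exact ⟨i, by simp [S, hi]⟩
    let i₀ := S.max' hS
    have hi₀ : c i₀ ≠ 0 := (Finset.mem_filter.1 (S.max'_mem hS)).2
    have h := LinearMap.congr_fun hc (x 0 ^ (i₀ : ℕ))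
    rw [LinearMap.sum_apply, Finset.sum_eq_single i₀, LinearMap.zero_apply, LinearMap.smul_apply] at h
    · rw [show (δ' ^ (i₀ : ℕ)).ofConv (x 0 ^ (i₀ : ℕ)) = (δ' ^ (i₀ : ℕ)) (x 0 ^ (i₀ : ℕ)) from rfl,
        ← hεD, hval _ _ le_rfl, if_pos rfl, smul_eq_mul, mul_eq_zero] at h
      rcases h with h | h
      · exact hi₀ h
      · rw [CharP.cast_eq_zero_iff K p, Nat.Prime.dvd_factorial hp] at h
        omega
    · intro i _ hne
      by_cases hci : c i = 0
      · simp [hci]
      · have hlt : (i : ℕ) < i₀ := lt_of_le_of_ne (S.le_max' i (by simp [S, hci]))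
          (fun e => hne (Fin.ext e))
        rw [LinearMap.smul_apply,
          show (δ' ^ (i : ℕ)).ofConv (x 0 ^ (i₀ : ℕ)) = (δ' ^ (i : ℕ)) (x 0 ^ (i₀ : ℕ)) from rfl,
          ← hεD, hval _ _ hlt.le, if_neg (by omega), smul_zero]
    · simp
  · -- étale case: a nontrivial point generates the group of points
    have hcard : Nat.card (WithConv (A →ₐ[K] K)) = p := by
      rw [Nat.card_congr (⟨ofConv, toConv, fun _ => rfl, fun _ => rfl⟩ :
        WithConv (A →ₐ[K] K) ≃ (A →ₐ[K] K)), h1]
    haveI : Finite (WithConv (A →ₐ[K] K)) := Finite.of_injective ofConv ofConv_injective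
    haveI : Nontrivial (WithConv (A →ₐ[K] K)) :=
      Finite.one_lt_card_iff_nontrivial.1 (hcard ▸ hp.one_lt)
    obtain ⟨g, hg⟩ := exists_ne (1 : WithConv (A →ₐ[K] K))
    have hord : orderOf g = p := by
      have := orderOf_dvd_natCard g
      rw [hcard] at this
      rcases hp.eq_one_or_self_of_dvd _ this with h | h
      · exact absurd (orderOf_eq_one_iff.1 h) hg
      · exact h
    refine ⟨toConv g.ofConv.toLinearMap, ?_⟩
    have hinj : Function.Injective fun i : Fin p => (g ^ (i : ℕ)).ofConv := fun i j hij =>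
      Fin.ext (pow_injOn_Iio_orderOf (by simp [hord, i.2]) (by simp [hord, j.2]) (ofConv_injective hij))
    have h := (linearIndependent_algHom_toLinearMap K A K).comp _ hinj
    have hfun : (fun i : Fin p => ((toConv g.ofConv.toLinearMap) ^ (i : ℕ)).ofConv) =
        AlgHom.toLinearMap ∘ fun i : Fin p => (g ^ (i : ℕ)).ofConv :=
      funext fun i => (congrArg ofConv (toLinearMap_convPow' g i)).symm
    exact hfun ▸ h

end GrothLib.Hopf.OrderPrime
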