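import Groth.Agent.Lib.Hopf.Translate
import Mathlib.RingTheory.HopfAlgebra.Convolution
import Mathlib.RingTheory.Ideal.Quotient.Operations
import Mathlib.LinearAlgebra.Dimension.Free
import Mathlib.LinearAlgebra.TensorProduct.Tower
import Mathlib.LinearAlgebra.TensorProduct.Basis

/-!
The isomorphism `A ⊗_B A ≅ A ⊗ A/B⁺A` of a homomorphism of commutative Hopf algebras.
-/

universe u

open TensorProduct WithConv Algebra.TensorProduct

namespace GrothLib.Hopf

variable (R : Type u) [CommRing R] {A B : Type u} [CommRing A] [HopfAlgebra R A] [CommRing B]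
  [HopfAlgebra R B]

/-- The ideal of the kernel of a homomorphism. -/
noncomputable def kerIdeal (φ : B →ₐc[R] A) : Ideal A :=
  Ideal.map (φ : B →+* A) (RingHom.ker (Bialgebra.counitAlgHom R B))

variable {R}

/-- `A ⊗_B A ≅ A ⊗_R A/B⁺A`. -/
noncomputable def galoisEquiv [Algebra B A] [IsScalarTower R B A] (φ : B →ₐc[R] A)
    (hφ : ∀ b, algebraMap B A b = φ b) : A ⊗[B] A ≃ₐ[A] A ⊗[R] (A ⧸ kerIdeal R φ) := by
  classical
  let x : A →ₐ[R] A ⊗[R] (A ⧸ kerIdeal R φ) := includeLeft
  let z : A →ₐ[R] A ⊗[R] (A ⧸ kerIdeal R φ) :=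
    (includeRight (R := R)).comp (Ideal.Quotient.mkₐ R _)
  have hz : toConv (z.comp (φ : B →ₐ[R] A)) = 1 := by
    refine WithConv.ext (AlgHom.ext fun b => ?_)
    change z (φ b) = algebraMap R _ (Coalgebra.counit b)
    rw [← z.commutes]
    refine congrArg (includeRight (R := R) (A := A)) ?_
    refine Ideal.Quotient.eq.mpr ?_
    have : φ b - algebraMap R A (Coalgebra.counit b) =
        φ (b - algebraMap R B (Coalgebra.counit b)) := by
      rw [map_sub]
      exact congrArg (φ b - ·) ((φ : B →ₐ[R] A).commutes _).symm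
    rw [this]
    exact Ideal.mem_map_of_mem _ (by simp [RingHom.mem_ker])
  let y : A →ₐ[R] A ⊗[R] (A ⧸ kerIdeal R φ) := (toConv x * toConv z).ofConv
  have hy : ∀ b : B, y (algebraMap B A b) = algebraMap B (A ⊗[R] (A ⧸ kerIdeal R φ)) b := fun b => by
    have h1 : toConv (y.comp (φ : B →ₐ[R] A)) = toConv (x.comp (φ : B →ₐ[R] A)) := by
      rw [convMul_comp_bialgHom]
      exact (congrArg (toConv (x.comp (φ : B →ₐ[R] A)) * ·) hz).trans (mul_one (toConv (x.comp (φ : B →ₐ[R] A))))
    rw [hφ, IsScalarTower.algebraMap_apply B A, hφ]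
    exact DFunLike.congr_fun (toConv_injective h1) b
  let fwd : A ⊗[B] A →ₐ[A] A ⊗[R] (A ⧸ kerIdeal R φ) :=
    Algebra.TensorProduct.lift (Algebra.ofId A _) { y with commutes' := hy } fun _ _ => .all _ _
  let x' : A →ₐ[R] A ⊗[B] A := (includeLeft : A →ₐ[R] A ⊗[B] A)
  let y' : A →ₐ[R] A ⊗[B] A := (includeRight (R := B) (A := A) (B := A)).restrictScalars R
  have hxy : x'.comp (φ : B →ₐ[R] A) = y'.comp (φ : B →ₐ[R] A) := by
    ext b
    change (φ b) ⊗ₜ[B] (1 : A) = (1 : A) ⊗ₜ[B] (φ b)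
    rw [← hφ, Algebra.algebraMap_eq_smul_one, smul_tmul]
  let g : A →ₐ[R] A ⊗[B] A := (pinv (toConv x') * toConv y').ofConv
  have hg : ∀ a ∈ kerIdeal R φ, g a = 0 := by
    have h1 : toConv (g.comp (φ : B →ₐ[R] A)) = 1 := by
      have h2 := convMul_comp_bialgHom φ (pinv (toConv x')) (toConv y')
      refine h2.trans ?_
      rw [show (toConv y').ofConv.comp (φ : B →ₐ[R] A) = (toConv x').ofConv.comp (φ : B →ₐ[R] A)
        from hxy.symm]
      refine (convMul_comp_bialgHom φ _ _).symm.trans ?_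
      rw [pinv_mul, convOne_comp_bialgHom, toConv_ofConv]
    change kerIdeal R φ ≤ RingHom.ker g
    rw [kerIdeal, Ideal.map_le_iff_le_comap]
    intro b hb
    have h2 := DFunLike.congr_fun (congrArg WithConv.ofConv h1) b
    rw [Ideal.mem_comap, RingHom.mem_ker]
    refine h2.trans ?_
    change algebraMap R _ (Coalgebra.counit b) = 0
    rw [show Coalgebra.counit (R := R) b = 0 from hb, map_zero]
  let bwd : A ⊗[R] (A ⧸ kerIdeal R φ) →ₐ[A] A ⊗[B] A :=
    Algebra.TensorProduct.lift (Algebra.ofId A _) (Ideal.Quotient.liftₐ _ g hg) fun _ _ => .all _ _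
  have hfx : ((fwd.restrictScalars R).comp x') = x := by
    ext a; change fwd (a ⊗ₜ 1) = _; simp [fwd, x]
  have hfy : ((fwd.restrictScalars R).comp y') = y := by
    ext a; change fwd (1 ⊗ₜ a) = _; simp [fwd]; exact one_mul _
  have hbx : ((bwd.restrictScalars R).comp x) = x' := by
    ext a; change bwd (a ⊗ₜ 1) = _; simp [bwd, x']
  have hbz : ((bwd.restrictScalars R).comp z) = g := by
    ext a; change bwd (1 ⊗ₜ Ideal.Quotient.mk _ a) = _; simp [bwd]; exact one_mul _
  have hfg : toConv ((fwd.restrictScalars R).comp g) = toConv z := by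
    rw [comp_convMul]
    simp only [pinv, ofConv_toConv]
    rw [← AlgHom.comp_assoc, hfx, hfy]
    exact (mul_assoc (toConv (x.comp (HopfAlgebra.antipodeAlgHom R A))) (toConv x) (toConv z)).symm.trans
      ((congrArg (· * toConv z) (comp_antipode_mul x)).trans (one_mul (toConv z)))
  have hby : toConv ((bwd.restrictScalars R).comp y) = toConv y' := by
    rw [comp_convMul]
    rw [hbx, hbz]
    exact (mul_assoc (toConv x') (pinv (toConv x')) (toConv y')).symm.trans
      ((congrArg (· * toConv y') (mul_pinv (toConv x'))).trans (one_mul (toConv y')))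
  refine AlgEquiv.ofAlgHom fwd bwd (Algebra.TensorProduct.ext (by ext) ?_)
    (Algebra.TensorProduct.ext (by ext) ?_)
  · refine Ideal.Quotient.algHom_ext R (AlgHom.ext fun a => ?_)
    have := DFunLike.congr_fun (toConv_injective hfg) a
    change fwd (bwd (1 ⊗ₜ Ideal.Quotient.mk _ a)) = (1 : A) ⊗ₜ Ideal.Quotient.mk _ a
    rw [← show g a = bwd (1 ⊗ₜ Ideal.Quotient.mk _ a) from (DFunLike.congr_fun hbz a).symm]
    exact this
  · refine AlgHom.ext fun a => ?_
    have := DFunLike.congr_fun (toConv_injective hby) a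
    change bwd (fwd (1 ⊗ₜ a)) = (1 : A) ⊗ₜ a
    rw [← show y a = fwd (1 ⊗ₜ a) from (DFunLike.congr_fun hfy a).symm]
    exact this

theorem free_tensor_self [Algebra B A] [IsScalarTower R B A] (φ : B →ₐc[R] A)
    (hφ : ∀ b, algebraMap B A b = φ b) [Module.Free R (A ⧸ kerIdeal R φ)] :
    Module.Free A (A ⊗[B] A) :=
  Module.Free.of_equiv (galoisEquiv φ hφ).symm.toLinearEquiv

end GrothLib.Hopf
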