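import Groth.Agent.Lib.Hopf.FiniteGroupPow
import Mathlib.RingTheory.HopfAlgebra.Convolution
import Mathlib.RingTheory.Norm.Basic
import Mathlib.RingTheory.Spectrum.Prime.FreeLocus
import Mathlib.RingTheory.LocalProperties.Submodule
import Mathlib.Algebra.Field.ULift
import Mathlib.RingTheory.Localization.FractionRing

/-!
Deligne's theorem: a commutative finite locally free group scheme is killed by its order.
-/

universe u v w

set_option linter.style.haveILetI false

open TensorProduct WithConv

namespace GrothLib.Hopf.Deligne

section Post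

variable {R : Type u} [CommRing R] {A : Type v} [CommRing A] [HopfAlgebra R A]
  {C D : Type*} [CommRing C] [Algebra R C] [CommRing D] [Algebra R D]

/-- composing functionals with an algebra map -/
noncomputable def post (h : C →ₐ[R] D) : WithConv (A →ₗ[R] C) →+* WithConv (A →ₗ[R] D) where
  toFun x := toConv (h.toLinearMap ∘ₗ x.ofConv)
  map_one' := by ext a; simp
  map_mul' x y := by rw [LinearMap.algHom_comp_convMul_distrib, toConv_ofConv]
  map_zero' := by ext a; simp
  map_add' x y := by ext a; simp

theorem post_apply (h : C →ₐ[R] D) (x : WithConv (A →ₗ[R] C)) (a : A) : post h x a = h (x a) := rfl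

/-- a point as a functional -/
noncomputable def lin : WithConv (A →ₐ[R] C) →* WithConv (A →ₗ[R] C) where
  toFun g := toConv g.ofConv.toLinearMap
  map_one' := AlgHom.toLinearMap_convOne
  map_mul' g h := AlgHom.toLinearMap_convMul g h

theorem lin_injective : Function.Injective (lin : WithConv (A →ₐ[R] C) → WithConv (A →ₗ[R] C)) :=
  fun _ _ h => ofConv_injective (AlgHom.toLinearMap_injective (toConv_injective h))

/-- the inverse of a point -/
noncomputable def inv' (g : WithConv (A →ₐ[R] C)) : WithConv (A →ₐ[R] C) :=
  toConv (g.ofConv.comp (HopfAlgebra.antipodeAlgHom R A))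

theorem inv'_mul (g : WithConv (A →ₐ[R] C)) : inv' g * g = 1 := by
  refine lin_injective ?_
  rw [map_mul, map_one, ← map_one (post (A := A) g.ofConv), ← LinearMap.antipode_mul_id, map_mul]
  rfl

theorem mul_inv' (g : WithConv (A →ₐ[R] C)) : g * inv' g = 1 := by
  refine lin_injective ?_
  rw [map_mul, map_one, ← map_one (post (A := A) g.ofConv), ← LinearMap.id_mul_antipode, map_mul]
  rfl

end Post

section Free

variable {R : Type u} [CommRing R] {A : Type v} [CommRing A] [HopfAlgebra R A]
  [Coalgebra.IsCocomm R A] {C : Type w} [CommRing C] [Algebra R C]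

/-- translation by a point -/
noncomputable def transl (g : WithConv (A →ₐ[R] C)) : C ⊗[R] A →ₐ[C] C ⊗[R] A :=
  Algebra.TensorProduct.lift (Algebra.ofId C _)
    (toConv (Algebra.TensorProduct.includeLeft.comp g.ofConv) * toConv Algebra.TensorProduct.includeRight).ofConv
    fun _ _ => Commute.all _ _

theorem transl_comp (g h : WithConv (A →ₐ[R] C)) : (transl g).comp (transl h) = transl (h * g) := by
  refine Algebra.TensorProduct.ext (by ext) ?_
  have e : ∀ g : WithConv (A →ₐ[R] C),
      ((transl g).restrictScalars R).comp Algebra.TensorProduct.includeRight =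
        (toConv (Algebra.TensorProduct.includeLeft.comp g.ofConv) *
          toConv Algebra.TensorProduct.includeRight).ofConv := fun g =>
    AlgHom.ext fun a => by simp [transl]
  have e' : ((transl g).restrictScalars R).comp
      (Algebra.TensorProduct.includeLeft.comp h.ofConv) = Algebra.TensorProduct.includeLeft.comp h.ofConv :=
    AlgHom.ext fun a => by simp [transl]
  change ((transl g).restrictScalars R).comp (((transl h).restrictScalars R).comp
    Algebra.TensorProduct.includeRight) = ((transl (h * g)).restrictScalars R).comp _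
  rw [e, e]
  refine toConv_injective ?_
  rw [AlgHom.comp_convMul_distrib, toConv_ofConv, toConv_ofConv, ofConv_toConv, ofConv_toConv, e', e,
    toConv_ofConv, AlgHom.comp_convMul_distrib, toConv_ofConv, mul_assoc]

theorem transl_one : transl (1 : WithConv (A →ₐ[R] C)) = AlgHom.id C (C ⊗[R] A) := by
  refine Algebra.TensorProduct.ext (by ext) (AlgHom.ext fun a => ?_)
  have h : toConv ((Algebra.TensorProduct.includeLeft : C →ₐ[R] C ⊗[R] A).comp (1 : WithConv (A →ₐ[R] C)).ofConv) = 1 :=
    WithConv.ext (AlgHom.ext fun a => by simp)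
  simp [transl, h]

theorem convPow_card {ι : Type*} [Fintype ι] (b : Module.Basis ι R A) (g : WithConv (A →ₐ[R] C)) :
    g ^ Fintype.card ι = 1 := by
  classical
  let B := C ⊗[R] A
  let W := WithConv (A →ₗ[R] C)
  let W' := WithConv (A →ₗ[R] B)
  let i : C →ₐ[R] B := Algebra.TensorProduct.includeLeft
  letI : Algebra W W' := (post i).toAlgebra
  let bB : Module.Basis ι C B := Algebra.TensorProduct.basis C b
  let coor : ι → W' → W := fun k x => toConv ((bB.coord k).restrictScalars R ∘ₗ x.ofConv)
  have hsmul : ∀ (w : W) (x : W') (k : ι), coor k (w • x) = w * coor k x := fun w x k => by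
    ext a
    change bB.coord k ((post i w * x) a) = (w * coor k x) a
    rw [LinearMap.convMul_apply, LinearMap.convMul_apply]
    induction Coalgebra.comul (R := R) a using TensorProduct.induction_on with
    | zero => simp
    | tmul y z =>
      simp only [TensorProduct.map_tmul, LinearMap.mul'_apply, coor, post_apply, ofConv_toConv,
        LinearMap.comp_apply, LinearMap.restrictScalars_apply, i, Algebra.TensorProduct.includeLeft_apply]
      change bB.coord k (algebraMap C B (w y) * x z) = w y * bB.coord k (x z)
      rw [← Algebra.smul_def, map_smul, smul_eq_mul]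
    | add y z hy hz => simp only [map_add, hy, hz]
  let e : W' ≃ₗ[W] (ι → W) :=
    { toFun := fun x k => coor k x
      invFun := fun c => toConv (∑ k, (LinearMap.toSpanSingleton C B (bB k)).restrictScalars R ∘ₗ (c k).ofConv)
      map_add' := fun x y => funext fun k => by ext a; exact map_add (bB.coord k) (x a) (y a)
      map_smul' := fun w x => funext fun k => hsmul w x k
      left_inv := fun x => by
        refine WithConv.ext (LinearMap.ext fun a => ?_)
        simp only [ofConv_toConv, LinearMap.sum_apply, LinearMap.comp_apply, LinearMap.restrictScalars_apply,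
          LinearMap.toSpanSingleton_apply, coor]
        exact bB.sum_repr _
      right_inv := fun c => funext fun k => by
        refine WithConv.ext (LinearMap.ext fun a => ?_)
        simp [coor, Finsupp.single_apply] }
  let bW : Module.Basis ι W W' := .ofEquivFun e
  let τ : W' ≃ₐ[W] W' := AlgEquiv.ofBijective
    ({ post ((transl g).restrictScalars R) with
      commutes' := fun w => WithConv.ext (LinearMap.ext fun a => (transl g).commutes (w a)) } : W' →ₐ[W] W')
    (by
      constructor
      · refine Function.LeftInverse.injective (g := post ((transl (inv' g)).restrictScalars R)) fun x => ?_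
        ext a
        exact (DFunLike.congr_fun (transl_comp (inv' g) g) (x a)).trans (by rw [mul_inv', transl_one]; rfl)
      · refine Function.RightInverse.surjective (g := post ((transl (inv' g)).restrictScalars R)) fun x => ?_
        ext a
        exact (DFunLike.congr_fun (transl_comp g (inv' g)) (x a)).trans (by rw [inv'_mul, transl_one]; rfl))
  let δ : W' := lin (toConv Algebra.TensorProduct.includeRight)
  have hτ : τ δ = algebraMap W W' (lin g) * δ := by
    change _ = lin (toConv (i.comp g.ofConv)) * δ
    rw [← map_mul]
    exact WithConv.ext (LinearMap.ext fun a => by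
      change transl g (1 ⊗ₜ a) = _
      simp only [transl, Algebra.TensorProduct.lift_tmul, map_one, one_mul]
      rfl)
  have hN := Algebra.norm_eq_of_algEquiv τ δ
  rw [hτ, map_mul, Algebra.norm_algebraMap_of_basis bW] at hN
  have hu : IsUnit (Algebra.norm W δ) := (IsUnit.map lin ⟨⟨_, _, mul_inv' _, inv'_mul _⟩, rfl⟩).map _
  refine lin_injective ?_
  rw [map_pow, map_one]
  exact hu.mul_right_cancel (hN.trans (one_mul _).symm)

end Free

section Restrict

variable {R : Type u} [CommRing R] {A : Type v} [CommRing A] [HopfAlgebra R A]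
  {S : Type w} [CommRing S] [Algebra R S]

/-- restriction of an endomorphism of the base change along `a ↦ 1 ⊗ a` -/
noncomputable def res (f : WithConv (S ⊗[R] A →ₐ[S] S ⊗[R] A)) : WithConv (A →ₐ[R] S ⊗[R] A) :=
  toConv ((f.ofConv.restrictScalars R).comp Algebra.TensorProduct.includeRight)

theorem res_pow (f : WithConv (S ⊗[R] A →ₐ[S] S ⊗[R] A)) (n : ℕ) : res (f ^ n) = res f ^ n := by
  induction n with
  | zero =>
    refine WithConv.ext (AlgHom.ext fun a => ?_)
    simp [res, Algebra.algebraMap_eq_smul_one]
  | succ n ih =>
    rw [pow_succ, pow_succ, ← ih]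
    refine WithConv.ext (AlgHom.ext fun a => ?_)
    change (f ^ n * f).ofConv ((1 : S) ⊗ₜ[R] a) = (res (f ^ n) * res f).ofConv a
    refine (AlgHom.convMul_apply _ _ _).trans (Eq.trans ?_ (AlgHom.convMul_apply _ _ a).symm)
    rw [TensorProduct.comul_tmul, CommSemiring.comul_apply]
    induction Coalgebra.comul (R := R) a using TensorProduct.induction_on with
    | zero => simp
    | tmul x y => simp [res]
    | add x y hx hy => rw [TensorProduct.tmul_add, map_add, map_add, hx, hy, map_add]

theorem convPow_tmul_eq (n : ℕ) (h : toConv (AlgHom.id S (S ⊗[R] A)) ^ n = 1) (a : A) :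
    (1 : S) ⊗ₜ[R] ((toConv (AlgHom.id R A) ^ n) a) = (1 : S) ⊗ₜ[R] ((1 : WithConv (A →ₐ[R] A)) a) := by
  have h1 := congrArg res h
  rw [res_pow, ← pow_zero (toConv (AlgHom.id S (S ⊗[R] A))), res_pow, pow_zero] at h1
  have h2 : res (toConv (AlgHom.id S (S ⊗[R] A))) = toConv ((Algebra.TensorProduct.includeRight :
      A →ₐ[R] S ⊗[R] A).comp (toConv (AlgHom.id R A)).ofConv) := rfl
  rw [h2, ← GrothLib.Hopf.FiniteRank.comp_convPow] at h1
  exact (DFunLike.congr_fun (congrArg ofConv h1) a).trans
    (by simp [Algebra.algebraMap_eq_smul_one, ← Algebra.TensorProduct.one_def])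

end Restrict

section Global

variable {R : Type u} [CommRing R] {A : Type v} [CommRing A] [HopfAlgebra R A]
  [Module.Finite R A] [Module.Projective R A]

theorem convPow_rank [Coalgebra.IsCocomm R A] (n : ℕ)
    (hn : ∀ q : PrimeSpectrum R, Module.rankAtStalk (R := R) A q = n) :
    toConv (AlgHom.id R A) ^ n = 1 := by
  refine WithConv.ext (AlgHom.ext fun a => ?_)
  refine Module.eq_of_localization_maximal (fun P _ => (Localization.AtPrime P) ⊗[R] A)
    (fun P _ => TensorProduct.mk R (Localization.AtPrime P) A 1) _ _ fun P hP => ?_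
  set S := Localization.AtPrime P
  refine convPow_tmul_eq n ?_ a
  haveI : Module.Free S (S ⊗[R] A) := Module.free_of_flat_of_isLocalRing
  have hd : Module.finrank S (S ⊗[R] A) = n := by
    let q : PrimeSpectrum S := Classical.arbitrary _
    have h := congrFun (Module.rankAtStalk_eq_finrank_of_free (R := S) (M := S ⊗[R] A)) q
    rw [Module.rankAtStalk_baseChange, hn] at h
    simpa using h.symm
  have := convPow_card (C := S ⊗[R] A) (Module.finBasisOfFinrankEq S (S ⊗[R] A) hd) (toConv (AlgHom.id S _))
  simpa using this

theorem convPow_rank_of_isReduced [IsReduced R] (n : ℕ)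
    (hn : ∀ q : PrimeSpectrum R, Module.rankAtStalk (R := R) A q = n) :
    toConv (AlgHom.id R A) ^ n = 1 := by
  refine WithConv.ext (AlgHom.ext fun a => sub_eq_zero.1 ((Module.forall_dual_apply_eq_zero_iff R _).1 fun φ => ?_))
  refine IsNilpotent.eq_zero (nilpotent_iff_mem_prime.2 fun P hP => ?_)
  haveI := hP
  let k := ULift.{v} (FractionRing (R ⧸ P))
  have hfr : Module.finrank k (k ⊗[R] A) = n := by
    let q : PrimeSpectrum k := ⟨⊥, Ideal.isPrime_bot⟩
    exact ((congrFun (Module.rankAtStalk_eq_finrank_of_free (R := k) (M := k ⊗[R] A)) q).symm.trans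
      ((Module.rankAtStalk_baseChange (R := R) (M := A) q).trans (hn _)))
  have h := convPow_tmul_eq n (hfr ▸ GrothLib.Hopf.FiniteRank.convPow_finrank (k := k) (A := k ⊗[R] A)) a
  have h' := congrArg (fun z : k ⊗[R] A => TensorProduct.rid R k (φ.lTensor k z)) h
  simp only [LinearMap.lTensor_tmul, TensorProduct.rid_tmul, Algebra.smul_def, mul_one] at h'
  rw [map_sub, ← Ideal.Quotient.eq]
  apply IsFractionRing.injective (R ⧸ P) (FractionRing (R ⧸ P))
  exact congrArg ULift.down h'

end Global

end GrothLib.Hopf.Deligne
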