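import Mathlib.RingTheory.HopfAlgebra.MonoidAlgebra
import Mathlib.RingTheory.HopfAlgebra.TensorProduct
import Mathlib.RingTheory.TensorProduct.MonoidAlgebra
import Mathlib.RingTheory.Bialgebra.Equiv

/-!
Base change isomorphisms of bialgebras.
-/

universe u

open TensorProduct

namespace GrothLib.Hopf

variable (R S T : Type u) [CommRing R] [CommRing S] [CommRing T] [Algebra R S] [Algebra R T] [Algebra S T]
  [IsScalarTower R S T] (A : Type u) [CommRing A] [Bialgebra R A]

/-- Transitivity of base change of bialgebras. -/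
noncomputable def cancelBaseChange : T ⊗[S] (S ⊗[R] A) ≃ₐc[T] T ⊗[R] A :=
  BialgEquiv.ofAlgEquiv (Algebra.TensorProduct.cancelBaseChange R S T T A)
    (by ext x; simp [Algebra.smul_def, ← IsScalarTower.algebraMap_apply])
    (by
      ext x
      simp [← (Coalgebra.Repr.arbitrary R x).eq, TensorProduct.tmul_sum, map_sum])

theorem cancelBaseChange_tmul (t : T) (s : S) (a : A) :
    cancelBaseChange R S T A (t ⊗ₜ (s ⊗ₜ a)) = (s • t) ⊗ₜ a :=
  Algebra.TensorProduct.cancelBaseChange_tmul ..

/-- Base change of a group algebra. -/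
noncomputable def groupAlgBaseChange (M : Type u) [CommMonoid M] :
    T ⊗[R] MonoidAlgebra R M ≃ₐc[T] MonoidAlgebra T M :=
  BialgEquiv.ofAlgEquiv (MonoidAlgebra.scalarTensorEquiv R T)
    (by ext x <;> simp)
    (by ext x <;> simp)

theorem groupAlgBaseChange_tmul (M : Type u) [CommMonoid M] (t : T) (p : MonoidAlgebra R M) :
    groupAlgBaseChange R T M (t ⊗ₜ p) = t • MonoidAlgebra.mapAlgHom M (Algebra.ofId R T) p :=
  MonoidAlgebra.scalarTensorEquiv_tmul ..

variable {R S A}

/-- Base change of an isomorphism of bialgebras. -/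
noncomputable def congrBaseChange {B : Type u} [CommRing B] [Bialgebra R B] (e : A ≃ₐc[R] B) :
    T ⊗[R] A ≃ₐc[T] T ⊗[R] B :=
  BialgEquiv.ofBijective (Bialgebra.TensorProduct.map (BialgHom.id T T) (e : A →ₐc[R] B))
    (Algebra.TensorProduct.congr (AlgEquiv.refl : T ≃ₐ[T] T) (e : A ≃ₐ[R] B)).bijective

theorem congrBaseChange_tmul {B : Type u} [CommRing B] [Bialgebra R B] (e : A ≃ₐc[R] B) (t : T) (a : A) :
    congrBaseChange T e (t ⊗ₜ a) = t ⊗ₜ e a := rfl

/-- Further base change of a trivialisation. -/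
noncomputable def trivBaseChange {M : Type u} [CommMonoid M] (e : S ⊗[R] A ≃ₐc[S] MonoidAlgebra S M) :
    T ⊗[R] A ≃ₐc[T] MonoidAlgebra T M :=
  (cancelBaseChange R S T A).symm.trans ((congrBaseChange T e).trans (groupAlgBaseChange S T M))

end GrothLib.Hopf
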