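import Groth.Agent.Lib.UnitProd.Algebra
import Groth.Agent.Lib.HopfAG.Dense
import Groth.Agent.Lib.GrpSchField.Components
import Mathlib.AlgebraicGeometry.Group.Affine
import Mathlib.RingTheory.Spectrum.Prime.Topology

/-!
# Normalised units of a connected group variety are characters
-/

universe u

open CategoryTheory AlgebraicGeometry TensorProduct

namespace GrothLib.Hopf.UnitsGroupLike

variable {k : Type u} [Field k] {A : Type u} [CommRing A] [HopfAlgebra k A]

/-- The coordinate ring of a connected reduced affine group of finite type is a domain. -/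
theorem isDomain [Algebra.FiniteType k A] [_root_.IsReduced A]
    (hconn : ∀ e : A, IsIdempotentElem e → e = 0 ∨ e = 1) : IsDomain A := by
  haveI : Nontrivial A := (Bialgebra.counitAlgHom k A).toRingHom.domain_nontrivial
  haveI hc : ConnectedSpace (PrimeSpectrum A) := by
    refine connectedSpace_iff_clopen.mpr ⟨inferInstance, fun s hs => ?_⟩
    obtain ⟨e, he, rfl⟩ := PrimeSpectrum.exists_idempotent_basicOpen_eq_of_isClopen hs
    rcases hconn e he with rfl | rfl
    · left; simp
    · right; simp
  let G := (hopfSpec (CommRingCat.of k)).obj (Opposite.op (CommHopfAlgCat.of k A))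
  haveI : LocallyOfFiniteType G.X.hom := by
    change LocallyOfFiniteType (Spec.map (CommRingCat.ofHom (algebraMap k A)))
    rw [HasRingHomProperty.Spec_iff (P := @LocallyOfFiniteType)]
    exact RingHom.finiteType_algebraMap.mpr inferInstance
  let o : PrimeSpectrum A := ⟨RingHom.ker (Bialgebra.counitAlgHom k A), RingHom.ker_isPrime _⟩
  have h := GrothLib.GrpSchField.connectedComponent_eq_irreducibleComponent G.X (show G.X.left from o)
  have huniv : irreducibleComponent o = (Set.univ : Set (PrimeSpectrum A)) :=
    h.symm.trans (show connectedComponent o = Set.univ from PreconnectedSpace.connectedComponent_eq_univ o)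
  haveI : IrreducibleSpace (PrimeSpectrum A) :=
    { isPreirreducible_univ := huniv ▸ isIrreducible_irreducibleComponent.2, toNonempty := ⟨o⟩ }
  have hp := PrimeSpectrum.irreducibleSpace_iff_isPrime_nilradical.mp (inferInstance : IrreducibleSpace (PrimeSpectrum A))
  rw [nilradical_eq_zero] at hp
  exact (IsDomain.of_bot_isPrime A)

variable [IsAlgClosed k]

/-- Normalised units on a connected group variety over an algebraically closed field are group-like. -/
theorem isGroupLike_of_isUnit [Algebra.FiniteType k A] [_root_.IsReduced A]
    (hconn : ∀ e : A, IsIdempotentElem e → e = 0 ∨ e = 1) {w : A} (hw : IsUnit w)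
    (hε : Coalgebra.counit (R := k) w = 1) : IsGroupLikeElem k w := by
  classical
  haveI := isDomain (k := k) hconn
  refine ⟨hε, ?_⟩
  let Δ := Bialgebra.comulAlgHom k A
  let ε := Bialgebra.counitAlgHom k A
  have hΔ : ∀ (g h : A →ₐ[k] k), g (UnitProd.evalR A h (Δ w)) = g w * h w := by
    intro g h
    have key := UnitProd.rect_identity (Δ w) (hw.map Δ) g ε h ε
    have e1 : UnitProd.evalR A ε (Δ w) = w := by
      have h' := congrArg (TensorProduct.rid k A) (Coalgebra.lTensor_counit_comul (R := k) w)
      rw [TensorProduct.rid_tmul, one_smul] at h'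
      refine Eq.trans ?_ h'
      change _ = TensorProduct.rid k A (Coalgebra.counit.lTensor A (Δ w))
      induction Δ w using TensorProduct.induction_on with
      | zero => simp
      | tmul p q => simp [UnitProd.evalR_tmul, ε, Algebra.smul_def, mul_comm]
      | add p q hp hq => simp only [map_add, hp, hq]
    have e2 : ε (UnitProd.evalR A h (Δ w)) = h w := by
      have h' := congrArg (TensorProduct.lid k A) (Coalgebra.rTensor_counit_comul (R := k) w)
      rw [TensorProduct.lid_tmul, one_smul] at h'
      refine Eq.trans ?_ (congrArg h h')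
      change _ = h (TensorProduct.lid k A (Coalgebra.counit.rTensor A (Δ w)))
      induction Δ w using TensorProduct.induction_on with
      | zero => simp
      | tmul p q => simp [UnitProd.evalR_tmul, ε]
      | add p q hp hq => simp only [map_add, hp, hq]
    rw [e1, e2, show ε w = 1 from hε, mul_one] at key
    exact key
  have hev : ∀ h : A →ₐ[k] k, UnitProd.evalR A h (Δ w - w ⊗ₜ[k] w) = 0 := fun h =>
    GrothLib.Dense.eq_zero_of_forall_point (k := k) _ fun g => by
      rw [map_sub, map_sub, hΔ, UnitProd.evalR_tmul, map_mul, AlgHom.commutes, Algebra.algebraMap_self,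
        RingHom.id_apply, sub_self]
  refine sub_eq_zero.mp (?_ : Δ w - w ⊗ₜ[k] w = 0)
  generalize Δ w - w ⊗ₜ[k] w = d at hev
  let b := Module.Basis.ofVectorSpace k A
  apply (TensorProduct.equivFinsuppOfBasisLeft b).injective
  rw [map_zero]
  refine Finsupp.ext fun i => GrothLib.Dense.eq_zero_of_forall_point (k := k) _ fun h => ?_
  have key : ∀ z : A ⊗[k] A, h (TensorProduct.equivFinsuppOfBasisLeft b z i) = b.repr (UnitProd.evalR A h z) i := fun z => by
    induction z using TensorProduct.induction_on with
    | zero => simp
    | tmul p q =>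
      rw [TensorProduct.equivFinsuppOfBasisLeft_apply_tmul_apply, map_smul, UnitProd.evalR_tmul,
        mul_comm p, ← Algebra.smul_def, map_smul, Finsupp.smul_apply, smul_eq_mul, smul_eq_mul, mul_comm]
    | add p q hp hq => simp only [map_add, Finsupp.add_apply, hp, hq]
  rw [key, hev]
  simp

end GrothLib.Hopf.UnitsGroupLike
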