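import Groth.Prelude.Def_Dyn
import Mathlib.RingTheory.HopfAlgebra.Convolution
import Mathlib.RingTheory.Bialgebra.Convolution

/-!
The triple product of points and convolution.
-/

universe u

open TensorProduct WithConv

namespace GrothLib.Hopf

variable {k : Type u} [CommRing k] {A : Type u} [CommRing A] [HopfAlgebra k A]
  {C : Type u} [CommRing C] [Algebra k C]

theorem conv3_eq (f g h : A →ₐ[k] C) :
    Dyn.conv3 k A f g h = (toConv f * toConv g * toConv h).ofConv := by
  simp only [AlgHom.convMul_def, ofConv_toConv, Dyn.conv3]
  rw [← AlgHom.comp_assoc (Algebra.TensorProduct.map _ h) (Algebra.TensorProduct.map _ _),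
    ← Algebra.TensorProduct.map_comp, AlgHom.comp_id]
  rfl

end GrothLib.Hopf
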