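import Groth.Agent.Lib.Hopf.FiniteRank
import Mathlib.FieldTheory.IsAlgClosed.AlgebraicClosure
import Mathlib.GroupTheory.OrderOfElement
import Mathlib.RingTheory.Ideal.Quotient.Operations

/-!
In a finite group scheme of rank `n` over a field, the `n`-th power map is trivial.
-/

universe u v

set_option linter.style.haveILetI false

open TensorProduct WithConv

namespace GrothLib.Hopf.FiniteRank

section Pow

variable {R : Type u} [CommRing R] {A B : Type v} [CommRing A] [CommRing B] [Bialgebra R A] [Bialgebra R B]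
  {C D : Type*} [CommRing C] [Algebra R C] [CommRing D] [Algebra R D]

theorem comp_convPow (h : C →ₐ[R] D) (f : WithConv (A →ₐ[R] C)) (n : ℕ) :
    toConv (h.comp (f ^ n).ofConv) = toConv (h.comp f.ofConv) ^ n := by
  induction n with
  | zero => rw [pow_zero, pow_zero, comp_convOne, toConv_ofConv]
  | succ n ih => rw [pow_succ, pow_succ, comp_convMul, ih]

theorem convPow_comp_bialgHom (φ : B →ₐc[R] A) (f : WithConv (A →ₐ[R] C)) (n : ℕ) :
    toConv ((f ^ n).ofConv.comp (φ : B →ₐ[R] A)) = toConv (f.ofConv.comp (φ : B →ₐ[R] A)) ^ n := by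
  induction n with
  | zero => rw [pow_zero, pow_zero, convOne_comp_bialgHom, toConv_ofConv]
  | succ n ih => rw [pow_succ, pow_succ, convMul_comp_bialgHom, ih]

end Pow

section AlgClosed

open GrothLib.Hopf.HeightOne (aug)

variable {K : Type u} [Field K] [IsAlgClosed K] {A : Type u} [CommRing A] [HopfAlgebra K A] [Module.Finite K A]

theorem convPow_finrank_algClosed : (toConv (AlgHom.id K A)) ^ (Module.finrank K A) = 1 := by
  classical
  haveI : IsArtinianRing A := IsArtinianRing.of_finite K A
  haveI : IsNoetherianRing A := isNoetherian_of_tower K inferInstance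
  haveI : Nontrivial A := (Bialgebra.counitAlgHom K A).toRingHom.domain_nontrivial
  haveI : ∀ g : A →ₐ[K] K, (RingHom.ker g).IsMaximal := fun g =>
    RingHom.ker_isMaximal_of_surjective g fun c => ⟨algebraMap K A c, g.commutes c⟩
  haveI : Finite (A →ₐ[K] K) := by
    refine Finite.of_injective (fun g => (⟨RingHom.ker g, inferInstance⟩ : MaximalSpectrum A)) ?_
    intro g h hgh
    have hk : RingHom.ker g = RingHom.ker h := congrArg MaximalSpectrum.asIdeal hgh
    refine AlgHom.ext fun a => ?_
    have ha : a - algebraMap K A (g a) ∈ RingHom.ker g := by simp [RingHom.mem_ker]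
    rw [hk, RingHom.mem_ker, map_sub, AlgHom.commutes, sub_eq_zero] at ha
    exact ha.symm
  haveI := Fintype.ofFinite (A →ₐ[K] K)
  obtain ⟨N₁, hN₁⟩ := IsArtinian.monotone_stabilizes (R := A) (M := A)
    ⟨fun n => OrderDual.toDual (aug K A ^ n), fun a b hab => Ideal.pow_le_pow_right hab⟩
  obtain ⟨N₂, hN₂⟩ := IsNoetherianRing.isNilpotent_nilradical A
  set N := N₁ + N₂ + 1
  have hstab : aug K A ^ N = aug K A ^ (2 * N) := by
    have h1 : aug K A ^ N₁ = aug K A ^ N := hN₁ N (by omega)
    have h2 : aug K A ^ N₁ = aug K A ^ (2 * N) := hN₁ (2 * N) (by omega)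
    rw [← h1, h2]
  have hnilN : nilradical A ^ N = ⊥ :=
    le_bot_iff.mp ((Ideal.pow_le_pow_right (by omega : N₂ ≤ N)).trans hN₂.le)
  have hpts : ∀ x : A, (∀ g : A →ₐ[K] K, g x = 0) → x ∈ nilradical A := fun x hx =>
    isNilpotent_of_forall_point (K := K) hx
  -- the group of points
  letI : Group (WithConv (A →ₐ[K] K)) :=
    { (inferInstance : Monoid (WithConv (A →ₐ[K] K))) with
      inv := pinv
      inv_mul_cancel := pinv_mul }
  haveI : Finite (WithConv (A →ₐ[K] K)) := Finite.of_injective ofConv ofConv_injective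
  set m := Fintype.card (A →ₐ[K] K)
  have hm : ∀ g : WithConv (A →ₐ[K] K), g ^ m = 1 := fun g => by
    have : m = Nat.card (WithConv (A →ₐ[K] K)) := by
      rw [Nat.card_congr (⟨ofConv, toConv, fun _ => rfl, fun _ => rfl⟩ : WithConv (A →ₐ[K] K) ≃ (A →ₐ[K] K)),
        Nat.card_eq_fintype_card]
    rw [this]
    exact pow_card_eq_one'
  -- the connected component
  haveI := isHopfIdeal_aug_pow (R := K) (A := A) N (by omega) hstab
  set H := A ⧸ aug K A ^ N
  let π : A →ₐc[K] H := Bialgebra.Quotient.mkBialgHom _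
  have hnilH : ∀ a ∈ aug K H, IsNilpotent a := by
    intro a ha
    obtain ⟨a, rfl⟩ := Ideal.Quotient.mk_surjective a
    exact ⟨N, by rw [← map_pow, Ideal.Quotient.eq_zero_iff_mem]; exact Ideal.pow_mem_pow (show a ∈ aug K A from ha) N⟩
  have hdim : Module.finrank K A = m * Module.finrank K H := by
    let F : A →ₗ[K] ∀ g : A →ₐ[K] K, A ⧸ RingHom.ker g ^ N :=
      LinearMap.pi fun g => (Ideal.Quotient.mkₐ K _).toLinearMap
    have hcop : Pairwise fun g h : A →ₐ[K] K => IsCoprime (RingHom.ker g ^ N) (RingHom.ker h ^ N) := by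
      intro g h hgh
      refine IsCoprime.pow ?_
      rw [Ideal.isCoprime_iff_sup_eq]
      refine Ideal.IsMaximal.coprime_of_ne inferInstance inferInstance fun hk => hgh ?_
      refine AlgHom.ext fun a => ?_
      have ha : a - algebraMap K A (g a) ∈ RingHom.ker g := by simp [RingHom.mem_ker]
      rw [hk, RingHom.mem_ker, map_sub, AlgHom.commutes, sub_eq_zero] at ha
      exact ha.symm
    have hinj : Function.Injective F := by
      rw [injective_iff_map_eq_zero]
      intro x hx
      have hx' : x ∈ ⨅ g : A →ₐ[K] K, RingHom.ker g ^ N := by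
        simp only [Ideal.mem_iInf]
        exact fun g => Ideal.Quotient.eq_zero_iff_mem.mp (congrFun hx g)
      have hle : (⨅ g : A →ₐ[K] K, RingHom.ker g ^ N) ≤ ⊥ := by
        have h0 := Ideal.prod_eq_iInf_of_pairwise_isCoprime (s := Finset.univ) (J := fun g : A →ₐ[K] K => RingHom.ker g ^ N)
          (fun g _ h _ hgh => hcop hgh)
        rw [show (⨅ g : A →ₐ[K] K, RingHom.ker g ^ N) = ∏ g : A →ₐ[K] K, RingHom.ker g ^ N by
          rw [h0]; simp, Finset.prod_pow, ← hnilN]
        refine Ideal.pow_right_mono ?_ N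
        intro y hy
        refine hpts y fun g => ?_
        exact (Ideal.prod_le_inf.trans (Finset.inf_le (Finset.mem_univ g))) hy
      exact (Ideal.mem_bot).mp (hle hx')
    have hsurj : Function.Surjective F := by
      intro y
      obtain ⟨x, hx⟩ := Ideal.quotientInfToPiQuotient_surj hcop y
      obtain ⟨x, rfl⟩ := Ideal.Quotient.mk_surjective x
      exact ⟨x, hx⟩
    rw [LinearEquiv.finrank_eq (LinearEquiv.ofBijective F ⟨hinj, hsurj⟩), Module.finrank_pi_fintype]
    have heq : ∀ g : A →ₐ[K] K, Module.finrank K (A ⧸ RingHom.ker g ^ N) = Module.finrank K H := fun g => by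
      refine LinearEquiv.finrank_eq (Ideal.quotientEquivAlg _ _ (shiftEquiv (toConv g)) ?_).toLinearEquiv
      rw [Ideal.map_pow]
      congr 1
      have hk : RingHom.ker g = (aug K A).comap (shiftEquiv (toConv g) : A ≃ₐ[K] A).toAlgHom := by
        ext a
        rw [Ideal.mem_comap, RingHom.mem_ker]
        change _ ↔ Bialgebra.counitAlgHom K A (shift (toConv g) a) = 0
        have h := DFunLike.congr_fun (congrArg ofConv (point_comp_shift (toConv g) (1 : WithConv (A →ₐ[K] K)))) a
        rw [mul_one] at h
        rw [show Bialgebra.counitAlgHom K A (shift (toConv g) a) = g a from h]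
      rw [hk]
      exact (Ideal.map_comap_of_surjective (shiftEquiv (toConv g) : A ≃ₐ[K] A).toAlgHom
        (shiftEquiv (toConv g)).surjective _).symm
    simp [heq, m]
  -- factorisation
  set u := ((toConv (AlgHom.id K A)) ^ m).ofConv
  have hu : ∀ x ∈ aug K A ^ N, u x = 0 := by
    intro x hx
    have h1 : (aug K A).map u ≤ nilradical A := by
      rw [Ideal.map_le_iff_le_comap]
      intro a ha
      refine hpts _ fun g => ?_
      have h2 := DFunLike.congr_fun (congrArg ofConv (comp_convPow g (toConv (AlgHom.id K A)) m)) a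
      rw [ofConv_toConv, ofConv_toConv, AlgHom.comp_id, hm] at h2
      refine h2.trans ?_
      change algebraMap K K (Coalgebra.counit (R := K) a) = 0
      rw [show Coalgebra.counit (R := K) a = 0 from ha, map_zero]
    have h3 : u x ∈ ((aug K A).map u) ^ N := by rw [← Ideal.map_pow]; exact Ideal.mem_map_of_mem _ hx
    have h4 := Ideal.pow_right_mono h1 N h3
    rwa [hnilN, Ideal.mem_bot] at h4
  let u' : H →ₐ[K] A := Ideal.Quotient.liftₐ _ u hu
  have hfac : u'.comp (π : A →ₐ[K] H) = u := AlgHom.ext fun a => rfl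
  have hH := convPow_finrank_of_local (K := K) hnilH
  rw [hdim, pow_mul]
  refine Eq.trans (congrArg (· ^ Module.finrank K H)
    (congrArg toConv hfac.symm : (toConv (AlgHom.id K A)) ^ m = toConv (u'.comp (π : A →ₐ[K] H)))) ?_
  refine (convPow_comp_bialgHom π (toConv u') (Module.finrank K H)).symm.trans ?_
  have h5 : toConv u' ^ Module.finrank K H = 1 := by
    have h6 := comp_convPow u' (toConv (AlgHom.id K H)) (Module.finrank K H)
    rw [hH, comp_convOne, toConv_ofConv] at h6
    exact h6.symm
  rw [h5, convOne_comp_bialgHom, toConv_ofConv]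

end AlgClosed

theorem convPow_finrank {k : Type u} [Field k] {A : Type u} [CommRing A] [HopfAlgebra k A] [Module.Finite k A] :
    (toConv (AlgHom.id k A)) ^ (Module.finrank k A) = 1 := by
  let K := AlgebraicClosure k
  let j : A →ₐ[k] K ⊗[k] A := Algebra.TensorProduct.includeRight
  let res : WithConv (K ⊗[k] A →ₐ[K] K ⊗[k] A) → WithConv (A →ₐ[k] K ⊗[k] A) :=
    fun f => toConv ((f.ofConv.restrictScalars k).comp j)
  have hres : ∀ f g, res (f * g) = res f * res g := by
    intro f g
    refine WithConv.ext (AlgHom.ext fun a => ?_)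
    change (f * g).ofConv ((1 : K) ⊗ₜ[k] a) = (res f * res g).ofConv a
    refine (AlgHom.convMul_apply f g _).trans (Eq.trans ?_ (AlgHom.convMul_apply (res f) (res g) a).symm)
    rw [TensorProduct.comul_tmul, CommSemiring.comul_apply]
    induction Coalgebra.comul (R := k) a using TensorProduct.induction_on with
    | zero => simp
    | tmul x y => simp [res, j]
    | add x y hx hy => rw [TensorProduct.tmul_add, map_add, map_add, hx, hy, map_add]
  have hpow : ∀ n, res (toConv (AlgHom.id K (K ⊗[k] A)) ^ n) = toConv j ^ n := by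
    intro n
    induction n with
    | zero =>
      rw [pow_zero, pow_zero]
      refine WithConv.ext (AlgHom.ext fun a => ?_)
      change algebraMap K (K ⊗[k] A) (Coalgebra.counit (R := K) ((1 : K) ⊗ₜ[k] a)) = algebraMap k (K ⊗[k] A) (Coalgebra.counit a)
      simp [Algebra.algebraMap_eq_smul_one]
    | succ n ih =>
      rw [pow_succ, pow_succ, hres, ih]
      rfl
  refine WithConv.ext (AlgHom.ext fun a => ?_)
  apply Algebra.TensorProduct.includeRight_injective (A := K) (algebraMap k K).injective
  have h2 := comp_convPow j (toConv (AlgHom.id k A)) (Module.finrank k A)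
  rw [ofConv_toConv, AlgHom.comp_id, ← hpow, ← Module.finrank_baseChange (R := K) (S := k) (M' := A),
    convPow_finrank_algClosed] at h2
  have h3 := DFunLike.congr_fun (congrArg ofConv h2) a
  rw [← Module.finrank_baseChange (R := K) (S := k) (M' := A)]
  refine h3.trans ?_
  change algebraMap K (K ⊗[k] A) (Coalgebra.counit (R := K) ((1 : K) ⊗ₜ[k] a)) = (1 : K) ⊗ₜ[k] algebraMap k A (Coalgebra.counit a)
  simp [Algebra.algebraMap_eq_smul_one, TensorProduct.smul_tmul', Algebra.TensorProduct.one_def]

end GrothLib.Hopf.FiniteRank
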