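import Groth.Agent.Lib.Hopf.OrderPrime
import Mathlib.LinearAlgebra.Matrix.NonsingularInverse
import Mathlib.RingTheory.Spectrum.Prime.FreeLocus
import Mathlib.RingTheory.LocalProperties.Submodule
import Mathlib.RingTheory.MvPolynomial.Ideal
import Mathlib.Algebra.Field.ULift

/-!
A finite locally free group scheme of prime order over any ring is commutative.
-/

universe u v w

set_option linter.style.haveILetI false

open TensorProduct WithConv

namespace GrothLib.Hopf.OrderPrime

section Restrict

variable {R : Type u} [CommRing R] {A : Type v} [CommRing A] [HopfAlgebra R A]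
  {K : Type w} [CommRing K] [Algebra R K]

/-- restriction of functionals along `a ↦ 1 ⊗ a` -/
def restr (f : WithConv ((K ⊗[R] A) →ₗ[K] K)) : WithConv (A →ₗ[R] K) :=
  toConv (f.ofConv.restrictScalars R ∘ₗ TensorProduct.mk R K A 1)

theorem restr_apply (f : WithConv ((K ⊗[R] A) →ₗ[K] K)) (a : A) : restr f a = f (1 ⊗ₜ a) := rfl

theorem restr_pow (f : WithConv ((K ⊗[R] A) →ₗ[K] K)) (n : ℕ) : restr (f ^ n) = restr f ^ n := by
  induction n with
  | zero =>
    ext a
    simp [restr_apply, Algebra.algebraMap_eq_smul_one]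
  | succ n ih =>
    ext a
    rw [pow_succ, pow_succ, restr_apply, ← ih, LinearMap.convMul_apply, LinearMap.convMul_apply,
      TensorProduct.comul_tmul]
    induction Coalgebra.comul (R := R) a using TensorProduct.induction_on with
    | zero => simp
    | tmul x y => simp [restr_apply]
    | add x y hx hy => simp only [map_add, tmul_add, hx, hy]

end Restrict

section Free

variable {R : Type u} [CommRing R] {A : Type v} [CommRing A] [HopfAlgebra R A]
  {p : ℕ} (b : Module.Basis (Fin p) R A)

/-- the tautological functional -/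
noncomputable def gen : WithConv (A →ₗ[R] MvPolynomial (Fin p) R) :=
  toConv (b.constr R fun i => MvPolynomial.X i)

/-- the coordinates of the powers of the tautological functional -/
noncomputable def genMatrix : Matrix (Fin p) (Fin p) (MvPolynomial (Fin p) R) :=
  Matrix.of fun i j => (gen b ^ (j : ℕ)) (b i)

theorem algHom_comp_pow {S T : Type*} [CommRing S] [Algebra R S] [CommRing T] [Algebra R T]
    (h : S →ₐ[R] T) (f : WithConv (A →ₗ[R] S)) (n : ℕ) :
    toConv (h.toLinearMap ∘ₗ (f ^ n).ofConv) = toConv (h.toLinearMap ∘ₗ f.ofConv) ^ n := by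
  induction n with
  | zero => ext a; simp
  | succ n ih => rw [pow_succ, pow_succ, ← ih, LinearMap.algHom_comp_convMul_distrib, toConv_ofConv]

theorem exists_eval_det_ne_zero [Fact p.Prime] (m : Ideal R) [m.IsMaximal] :
    ∃ (K : Type max u v) (_ : Field K) (_ : Algebra R K) (θ : MvPolynomial (Fin p) R →ₐ[R] K),
      (∀ r ∈ m, algebraMap R K r = 0) ∧ θ (genMatrix b).det ≠ 0 := by
  classical
  let _ := Ideal.Quotient.field m
  let _ : Field (ULift.{v} (R ⧸ m)) := ULift.field
  let K := AlgebraicClosure (ULift.{v} (R ⧸ m))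
  refine ⟨K, inferInstance, inferInstance, ?_⟩
  have hK : ∀ r ∈ m, algebraMap R K r = 0 := fun r hr => by
    rw [IsScalarTower.algebraMap_apply R (ULift.{v} (R ⧸ m)) K]
    have : algebraMap R (ULift.{v} (R ⧸ m)) r = 0 := by
      apply ULift.ext
      simpa [Ideal.Quotient.eq_zero_iff_mem] using hr
    rw [this, map_zero]
  let bK := Algebra.TensorProduct.basis K b
  haveI : Module.Finite K (K ⊗[R] A) := Module.Finite.of_basis bK
  have hd : Module.finrank K (K ⊗[R] A) = p := by simp [Module.finrank_eq_card_basis bK]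
  obtain ⟨f, hf⟩ := exists_pow_independent (K := K) (A := K ⊗[R] A) hd
  let θ : MvPolynomial (Fin p) R →ₐ[R] K := MvPolynomial.aeval fun i => restr f (b i)
  refine ⟨θ, hK, ?_⟩
  have hgen : toConv (θ.toLinearMap ∘ₗ (gen b).ofConv) = restr f := by
    refine ofConv_injective (b.ext fun i => ?_)
    simp [gen, θ]
  rw [AlgHom.map_det, ← isUnit_iff_ne_zero, ← Matrix.isUnit_iff_isUnit_det,
    ← Matrix.linearIndependent_cols_iff_isUnit]
  have heq : ((θ.mapMatrix (genMatrix b)).col) = (fun φ : (K ⊗[R] A) →ₗ[K] K => fun i => φ (bK i)) ∘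
      fun j : Fin p => (f ^ (j : ℕ)).ofConv := by
    funext j i
    have h := congrArg (fun φ => φ (b i)) (algHom_comp_pow θ (gen b) (j : ℕ))
    simp only [hgen, ← restr_pow, restr_apply] at h
    simpa [genMatrix, bK] using h
  rw [heq]
  let e : ((K ⊗[R] A) →ₗ[K] K) →ₗ[K] (Fin p → K) := LinearMap.pi fun i => LinearMap.applyₗ (bK i)
  have he : LinearMap.ker e = ⊥ := LinearMap.ker_eq_bot'.2 fun φ hφ => bK.ext fun i => congrFun hφ i
  exact hf.map' e he

theorem eq_zero_of_det_mul (hpr : p.Prime) (r : R)
    (hr : (genMatrix b).det * (genMatrix b).det * MvPolynomial.C r = 0) : r = 0 := by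
  haveI := Fact.mk hpr
  by_contra hne
  let I : Ideal R := LinearMap.ker (LinearMap.mulLeft R r)
  have hI : I ≠ ⊤ := fun h => hne (by
    have : (1 : R) ∈ I := h ▸ Submodule.mem_top
    simpa [I] using this)
  obtain ⟨m, hm, hIm⟩ := I.exists_le_maximal hI
  obtain ⟨K, _, _, θ, hθ, hdet⟩ := exists_eval_det_ne_zero b m
  refine mul_ne_zero hdet hdet ?_
  rw [← map_mul]
  have hmem : (genMatrix b).det * (genMatrix b).det ∈ Ideal.map MvPolynomial.C m := by
    rw [MvPolynomial.mem_map_C_iff]
    intro d
    refine hIm ?_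
    have := congrArg (MvPolynomial.coeff d) hr
    rw [mul_comm, MvPolynomial.coeff_C_mul, MvPolynomial.coeff_zero] at this
    simpa [I] using this
  have hle : Ideal.map MvPolynomial.C m ≤ RingHom.ker θ :=
    Ideal.map_le_iff_le_comap.2 fun x hx => by
      simp [← MvPolynomial.algebraMap_eq, hθ x hx]
  exact hle hmem

include b in
theorem dual_mul_comm (hpr : p.Prime) (x y : WithConv (A →ₗ[R] R)) : x * y = y * x := by
  classical
  let S := MvPolynomial (Fin p) R
  let P := genMatrix b
  let up : WithConv (A →ₗ[R] R) → WithConv (A →ₗ[R] S) := fun z =>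
    toConv ((Algebra.ofId R S).toLinearMap ∘ₗ z.ofConv)
  have hup : ∀ z z', up (z * z') = up z * up z' := fun z z' => by
    simp only [up, LinearMap.algHom_comp_convMul_distrib, toConv_ofConv]
  have hspan : ∀ z, ∃ c : Fin p → S, P.det • up z = ∑ j, c j • gen b ^ (j : ℕ) := fun z => by
    refine ⟨P.adjugate.mulVec fun i => up z (b i), ofConv_injective (b.ext fun i => ?_)⟩
    have h : ∀ i, (P.mulVec (P.adjugate.mulVec fun i => up z (b i))) i = P.det * up z (b i) := fun i => by
      rw [Matrix.mulVec_mulVec, Matrix.mul_adjugate, Matrix.smul_mulVec, Matrix.one_mulVec, Pi.smul_apply,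
        smul_eq_mul]
    simp only [WithConv.ofConv_smul, WithConv.ofConv_sum, LinearMap.smul_apply, LinearMap.sum_apply,
      smul_eq_mul]
    rw [← h i, Matrix.mulVec, dotProduct]
    exact Finset.sum_congr rfl fun j _ => mul_comm _ _
  obtain ⟨c, hc⟩ := hspan x
  obtain ⟨d, hd⟩ := hspan y
  have hcomm : Commute (P.det • up x) (P.det • up y) := by
    rw [hc, hd]
    exact Commute.sum_left _ _ _ fun i _ => Commute.sum_right _ _ _ fun j _ =>
      ((Commute.pow_pow_self (gen b) (i : ℕ) (j : ℕ)).smul_left (c i)).smul_right (d j)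
  have h := hcomm.eq
  rw [smul_mul_smul_comm, smul_mul_smul_comm, ← hup, ← hup] at h
  ext a
  rw [← sub_eq_zero]
  refine eq_zero_of_det_mul b hpr _ ?_
  have h' := congrArg (fun φ : WithConv (A →ₗ[R] S) => φ.ofConv a) h
  simp only [WithConv.ofConv_smul, LinearMap.smul_apply, up, smul_eq_mul] at h'
  rw [map_sub, mul_sub, sub_eq_zero]
  exact h'

theorem isCocomm_of_dual_mul_comm {ι : Type*} [Finite ι] (b : Module.Basis ι R A)
    (h : ∀ x y : WithConv (A →ₗ[R] R), x * y = y * x) : Coalgebra.IsCocomm R A := by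
  refine ⟨LinearMap.ext fun a => (b.tensorProduct b).ext_elem fun ij => ?_⟩
  have key : ∀ (z : A ⊗[R] A) (i j : ι), (b.tensorProduct b).repr z (i, j) =
      LinearMap.mul' R R (TensorProduct.map (b.coord i) (b.coord j) z) := fun z i j => by
    induction z using TensorProduct.induction_on with
    | zero => simp
    | tmul u v => simp [Module.Basis.tensorProduct_repr_tmul_apply, mul_comm]
    | add u v hu hv => simp [map_add, hu, hv]
  have h2 : ∀ z : A ⊗[R] A, ∀ i j : ι,
      LinearMap.mul' R R (TensorProduct.map (b.coord i) (b.coord j) (TensorProduct.comm R A A z)) =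
      LinearMap.mul' R R (TensorProduct.map (b.coord j) (b.coord i) z) := fun z i j => by
    rw [TensorProduct.map_comm, LinearMap.mul'_comm]
  obtain ⟨i, j⟩ := ij
  have := congrArg (fun φ => φ a) (h (toConv (b.coord j)) (toConv (b.coord i)))
  simp only [LinearMap.convMul_apply, ofConv_toConv] at this
  simp only [LinearMap.comp_apply, LinearEquiv.coe_coe, key, h2]
  exact this

include b in
theorem isCocomm_of_basis (hpr : p.Prime) : Coalgebra.IsCocomm R A :=
  isCocomm_of_dual_mul_comm b (dual_mul_comm b hpr)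

end Free

section Projective

variable {R : Type u} [CommRing R] {A : Type v} [CommRing A] [HopfAlgebra R A]
  [Module.Finite R A] [Module.Projective R A]

theorem isCocomm_of_rankAtStalk_eq {p : ℕ} (hpr : p.Prime)
    (hp : ∀ q : PrimeSpectrum R, Module.rankAtStalk (R := R) A q = p) : Coalgebra.IsCocomm R A := by
  refine ⟨LinearMap.ext fun a => ?_⟩
  refine Module.eq_of_localization_maximal (fun P _ => (Localization.AtPrime P) ⊗[R] (A ⊗[R] A))
    (fun P _ => TensorProduct.mk R (Localization.AtPrime P) (A ⊗[R] A) 1) _ _ fun P hP => ?_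
  set S := Localization.AtPrime P
  haveI : Module.Free S (S ⊗[R] A) := Module.free_of_flat_of_isLocalRing
  have hd : Module.finrank S (S ⊗[R] A) = p := by
    let q : PrimeSpectrum S := Classical.arbitrary _
    have h := congrFun (Module.rankAtStalk_eq_finrank_of_free (R := S) (M := S ⊗[R] A)) q
    rw [Module.rankAtStalk_baseChange, hp] at h
    simpa using h.symm
  haveI : Coalgebra.IsCocomm S (S ⊗[R] A) :=
    isCocomm_of_basis (Module.finBasisOfFinrankEq S (S ⊗[R] A) hd) hpr
  let D := AlgebraTensorModule.distribBaseChange R S A A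
  have h1 : Coalgebra.comul (R := S) ((1 : S) ⊗ₜ[R] a) = D (1 ⊗ₜ Coalgebra.comul (R := R) a) := by
    rw [TensorProduct.comul_tmul]
    induction Coalgebra.comul (R := R) a using TensorProduct.induction_on with
    | zero => simp
    | tmul u v => simp [D, AlgebraTensorModule.distribBaseChange]
    | add u v hu hv => simp only [tmul_add, map_add, hu, hv]
  have h2 : ∀ z : A ⊗[R] A, TensorProduct.comm S _ _ (D (1 ⊗ₜ z)) = D (1 ⊗ₜ TensorProduct.comm R A A z) :=
    fun z => by
      induction z using TensorProduct.induction_on with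
      | zero => simp
      | tmul u v => simp [D, AlgebraTensorModule.distribBaseChange]
      | add u v hu hv => simp only [tmul_add, map_add, hu, hv]
  have hcc := Coalgebra.comm_comul S ((1 : S) ⊗ₜ[R] a)
  rw [h1, h2] at hcc
  exact D.injective hcc

end Projective

end GrothLib.Hopf.OrderPrime
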