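import Mathlib.RingTheory.HopfAlgebra.MonoidAlgebra
import Mathlib.RingTheory.TensorProduct.MonoidAlgebra
import Mathlib.RingTheory.Bialgebra.Convolution
import Mathlib.RingTheory.Coalgebra.Convolution
import Mathlib.RingTheory.Nakayama
import Mathlib.Tactic.Abel
import Mathlib.Algebra.MonoidAlgebra.Support
import Mathlib.RingTheory.LocalRing.MaximalIdeal.Basic

/-!
Bialgebra maps into a group algebra: coefficient functionals and their convolution identities,
and the first order rigidity of such maps.
-/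

set_option linter.unusedSectionVars false

universe u v w

open TensorProduct WithConv

namespace GrothLib.Hopf

variable {R : Type u} [CommRing R] {M : Type v}

/-- The coefficient at `m` as a linear form on the group algebra. -/
noncomputable def coeffAt (m : M) : MonoidAlgebra R M →ₗ[R] R :=
  Finsupp.lapply m ∘ₗ (MonoidAlgebra.coeffLinearEquiv R).toLinearMap

theorem coeffAt_apply (m : M) (x : MonoidAlgebra R M) : coeffAt m x = x.coeff m := rfl

theorem ext_coeffAt {x y : MonoidAlgebra R M} (h : ∀ m, coeffAt m x = coeffAt m y) : x = y :=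
  MonoidAlgebra.ext (Finsupp.ext h)

theorem coeffAt_single [DecidableEq M] (m n : M) (r : R) :
    coeffAt m (MonoidAlgebra.single n r) = if n = m then r else 0 := by
  simp [coeffAt_apply, Finsupp.single_apply]

variable [CommMonoid M]

/-- The pairing of two coefficient forms with the comultiplication is diagonal. -/
theorem coeffAt_comul [DecidableEq M] (m n : M) (x : MonoidAlgebra R M) :
    (LinearMap.mul' R R) (TensorProduct.map (coeffAt m) (coeffAt n) (Coalgebra.comul (R := R) x)) =
      if m = n then coeffAt m x else 0 := by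
  induction x using MonoidAlgebra.induction_linear with
  | zero => simp
  | add a b ha hb => simp only [map_add, ha, hb]; split <;> simp
  | single a r =>
    rw [MonoidAlgebra.comul_single, CommSemiring.comul_apply, TensorProduct.map_tmul, TensorProduct.map_tmul,
      LinearMap.mul'_apply, MonoidAlgebra.lsingle_apply, MonoidAlgebra.lsingle_apply, coeffAt_single,
      coeffAt_single, coeffAt_single]
    rcases eq_or_ne m n with rfl | h
    · by_cases ha : a = m <;> simp [ha]
    · by_cases ha : a = m <;> simp [ha, h]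

variable {C : Type w} [CommRing C] [Bialgebra R C]

/-- The coefficient functional of a linear map into the group algebra. -/
noncomputable def cf (f : C →ₗ[R] MonoidAlgebra R M) (m : M) : WithConv (C →ₗ[R] R) :=
  toConv (coeffAt m ∘ₗ f)

theorem cf_apply (f : C →ₗ[R] MonoidAlgebra R M) (m : M) (c : C) : (cf f m).ofConv c = coeffAt m (f c) := rfl

/-- The functional of a bialgebra map. -/
noncomputable abbrev bcf (φ : C →ₐc[R] MonoidAlgebra R M) (m : M) : WithConv (C →ₗ[R] R) :=
  cf (φ : C →ₗc[R] MonoidAlgebra R M).toLinearMap m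

theorem bcf_apply (φ : C →ₐc[R] MonoidAlgebra R M) (m : M) (c : C) :
    (bcf φ m).ofConv c = coeffAt m (φ c) := rfl

/-- The coefficient functionals of a bialgebra map are orthogonal idempotents. -/
theorem bcf_mul [DecidableEq M] (φ : C →ₐc[R] MonoidAlgebra R M) (m n : M) :
    bcf φ m * bcf φ n = if m = n then bcf φ m else 0 := by
  apply WithConv.ext
  apply LinearMap.ext
  intro c
  rw [LinearMap.convMul_apply]
  have hφ := LinearMap.congr_fun (φ : C →ₗc[R] MonoidAlgebra R M).map_comp_comul c
  simp only [LinearMap.comp_apply] at hφ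
  dsimp only [bcf, cf, ofConv_toConv]
  rw [← TensorProduct.map_map, hφ, coeffAt_comul]
  split <;> rfl

/-- The trivial map `c ↦ ε(c)` as a bialgebra map. -/
noncomputable def trivialHom (R : Type u) [CommRing R] (C : Type w) [CommRing C] [Bialgebra R C]
    (A : Type v) [CommRing A] [Bialgebra R A] : C →ₐc[R] A :=
  (Bialgebra.unitBialgHom R A).comp (Bialgebra.counitBialgHom R C)

theorem trivialHom_apply {A : Type v} [CommRing A] [Bialgebra R A] (c : C) :
    trivialHom R C A c = algebraMap R A (Coalgebra.counit c) := rfl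

theorem bcf_trivialHom [DecidableEq M] (m : M) :
    bcf (trivialHom R C (MonoidAlgebra R M)) m = if (1 : M) = m then 1 else 0 := by
  apply WithConv.ext
  apply LinearMap.ext
  intro c
  rw [bcf_apply, trivialHom_apply, MonoidAlgebra.coe_algebraMap, Function.comp_apply, coeffAt_single]
  split <;> simp [LinearMap.convOne_apply]

/-- All values lie in the ideal. -/
def InIdeal (J : Ideal R) (f : WithConv (C →ₗ[R] R)) : Prop := ∀ c, f.ofConv c ∈ J

theorem InIdeal.add {J : Ideal R} {f g : WithConv (C →ₗ[R] R)} (hf : InIdeal J f) (hg : InIdeal J g) :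
    InIdeal J (f + g) := fun c => J.add_mem (hf c) (hg c)

theorem InIdeal.sub {J : Ideal R} {f g : WithConv (C →ₗ[R] R)} (hf : InIdeal J f) (hg : InIdeal J g) :
    InIdeal J (f - g) := fun c => J.sub_mem (hf c) (hg c)

theorem InIdeal.mono {J K : Ideal R} (h : J ≤ K) {f : WithConv (C →ₗ[R] R)} (hf : InIdeal J f) :
    InIdeal K f := fun c => h (hf c)

theorem InIdeal.mul {J K : Ideal R} {f g : WithConv (C →ₗ[R] R)} (hf : InIdeal J f) (hg : InIdeal K g) :
    InIdeal (J * K) (f * g) := fun c => by
  rw [(Coalgebra.Repr.arbitrary R c).convMul_apply]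
  exact Submodule.sum_mem _ fun i _ => Ideal.mul_mem_mul (hf _) (hg _)

theorem InIdeal.mul_right {J : Ideal R} {f : WithConv (C →ₗ[R] R)} (hf : InIdeal J f)
    (g : WithConv (C →ₗ[R] R)) : InIdeal J (f * g) :=
  (hf.mul (g := g) (K := ⊤) fun _ => Submodule.mem_top).mono Ideal.mul_le_left

/-- First order rigidity: two bialgebra maps into a group algebra congruent modulo `J` are congruent
modulo `J * J`, when the difference commutes with one of them. -/
theorem congr_mul_self (φ ψ : C →ₐc[R] MonoidAlgebra R M) (J : Ideal R)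
    (hcomm : ∀ m, Commute (bcf φ m - bcf ψ m) (bcf ψ m))
    (h : ∀ c m, coeffAt m (φ c - ψ c) ∈ J) : ∀ c m, coeffAt m (φ c - ψ c) ∈ J * J := by
  classical
  intro c m
  set P := bcf φ m
  set Q := bcf ψ m
  have hP : P * P = P := (bcf_mul φ m m).trans (if_pos rfl)
  have hQ : Q * Q = Q := (bcf_mul ψ m m).trans (if_pos rfl)
  have hD : InIdeal J (P - Q) := fun c => by
    have := h c m
    rwa [map_sub] at this
  -- `D = D² + 2 D Q` and hence `D Q` and `D` lie in `J²`
  have e1 : P - Q = (P - Q) * (P - Q) + (P - Q) * Q + (P - Q) * Q :=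
    calc P - Q = P * P - Q * Q := by rw [hP, hQ]
      _ = (P - Q) * (P - Q) + (P - Q) * Q + Q * (P - Q) := by
          rw [← mul_add (P - Q) (P - Q) Q, sub_add_cancel, sub_mul P Q P, mul_sub Q P Q]
          abel
      _ = _ := by rw [← (hcomm m).eq]
  have h2 : InIdeal (J * J) ((P - Q) * (P - Q)) := hD.mul hD
  have hDQ : InIdeal (J * J) ((P - Q) * Q) := by
    have e2 : (P - Q) * Q = -((P - Q) * (P - Q) * Q) := by
      have := congrArg (· * Q) e1
      simp only [add_mul, mul_assoc, hQ] at this ⊢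
      rw [eq_neg_iff_add_eq_zero]
      calc (P - Q) * Q + (P - Q) * ((P - Q) * Q)
          = ((P - Q) * ((P - Q) * Q) + (P - Q) * Q + (P - Q) * Q) - (P - Q) * Q := by abel
        _ = (P - Q) * Q - (P - Q) * Q := by rw [← this]
        _ = 0 := sub_self _
    rw [e2]
    intro c
    exact (J * J).neg_mem (h2.mul_right Q c)
  have hfin : InIdeal (J * J) (P - Q) := by
    rw [e1]
    exact (h2.add hDQ).add hDQ
  rw [map_sub]
  exact hfin c

theorem congr_mul_self_of_cocomm [Coalgebra.IsCocomm R C] (φ ψ : C →ₐc[R] MonoidAlgebra R M) (J : Ideal R)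
    (h : ∀ c m, coeffAt m (φ c - ψ c) ∈ J) : ∀ c m, coeffAt m (φ c - ψ c) ∈ J * J :=
  congr_mul_self φ ψ J (fun _ => mul_comm _ _) h

theorem congr_mul_self_trivial (φ : C →ₐc[R] MonoidAlgebra R M) (J : Ideal R)
    (h : ∀ c m, coeffAt m (φ c - trivialHom R C (MonoidAlgebra R M) c) ∈ J) :
    ∀ c m, coeffAt m (φ c - trivialHom R C (MonoidAlgebra R M) c) ∈ J * J := by
  classical
  refine congr_mul_self φ _ J (fun m => ?_) h
  rw [bcf_trivialHom]
  split
  exacts [Commute.one_right _, Commute.zero_right _]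

/-- Pairs of bialgebra maps into a group algebra to which first order rigidity applies. -/
def IsRigidPair (φ ψ : C →ₐc[R] MonoidAlgebra R M) : Prop :=
  ∀ J : Ideal R, (∀ c m, coeffAt m (φ c - ψ c) ∈ J) → ∀ c m, coeffAt m (φ c - ψ c) ∈ J * J

theorem IsRigidPair.mem_pow {φ ψ : C →ₐc[R] MonoidAlgebra R M} (hr : IsRigidPair φ ψ) {J : Ideal R}
    (h : ∀ c m, coeffAt m (φ c - ψ c) ∈ J) (k : ℕ) : ∀ c m, coeffAt m (φ c - ψ c) ∈ J ^ 2 ^ k := by
  induction k with
  | zero => simpa using h
  | succ k ih =>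
    rw [pow_succ, pow_mul, pow_two]
    exact hr _ ih

theorem IsRigidPair.mem_all_pow {φ ψ : C →ₐc[R] MonoidAlgebra R M} (hr : IsRigidPair φ ψ) {J : Ideal R}
    (h : ∀ c m, coeffAt m (φ c - ψ c) ∈ J) (n : ℕ) : ∀ c m, coeffAt m (φ c - ψ c) ∈ J ^ n :=
  fun c m => Ideal.pow_le_pow_right n.lt_two_pow_self.le (hr.mem_pow h n c m)

theorem IsRigidPair.eq_of_isNilpotent {φ ψ : C →ₐc[R] MonoidAlgebra R M} (hr : IsRigidPair φ ψ)
    {J : Ideal R} (hJ : IsNilpotent J) (h : ∀ c m, coeffAt m (φ c - ψ c) ∈ J) (c : C) : φ c = ψ c := by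
  obtain ⟨n, hn⟩ := hJ
  refine sub_eq_zero.mp (ext_coeffAt fun m => ?_)
  have := hr.mem_all_pow h n c m
  rw [hn, Ideal.zero_eq_bot, Ideal.mem_bot] at this
  rw [this, map_zero]

/-- Agreement of two algebra maps into a group algebra modulo an ideal spreads from generators. -/
theorem mem_of_adjoin_eq_top {φ ψ : C →ₐc[R] MonoidAlgebra R M} {s : Set C} (hs : Algebra.adjoin R s = ⊤)
    {J : Ideal R} (h : ∀ c ∈ s, ∀ m, coeffAt m (φ c - ψ c) ∈ J) (c : C) :
    ∀ m, coeffAt m (φ c - ψ c) ∈ J := by
  classical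
  have key : ∀ (a x : MonoidAlgebra R M), (∀ m, coeffAt m x ∈ J) → ∀ m, coeffAt m (a * x) ∈ J := by
    intro a x hx m
    rw [coeffAt_apply, MonoidAlgebra.coeff_mul, Finsupp.sum]
    refine Submodule.sum_mem _ fun i _ => Submodule.sum_mem _ fun j _ => ?_
    dsimp only
    split
    exacts [J.mul_mem_left _ (hx j), J.zero_mem]
  have hc : c ∈ Algebra.adjoin R s := hs ▸ Algebra.mem_top
  induction hc using Algebra.adjoin_induction with
  | mem y hy => exact h y hy
  | algebraMap r =>
    intro m
    have hφ : φ (algebraMap R C r) = algebraMap R _ r := (φ : C →ₐ[R] MonoidAlgebra R M).commutes r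
    have hψ : ψ (algebraMap R C r) = algebraMap R _ r := (ψ : C →ₐ[R] MonoidAlgebra R M).commutes r
    rw [hφ, hψ, sub_self, map_zero]
    exact J.zero_mem
  | add x y _ _ hx hy =>
    intro m
    rw [map_add, map_add, add_sub_add_comm, map_add]
    exact J.add_mem (hx m) (hy m)
  | mul x y _ _ hx hy =>
    intro m
    rw [map_mul, map_mul, show φ x * φ y - ψ x * ψ y = φ x * (φ y - ψ y) + ψ y * (φ x - ψ x) by ring, map_add]
    exact J.add_mem (key _ _ hy m) (key _ _ hx m)

/-- Over a local ring rigidity forces equality of maps from a finitely generated algebra agreeing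
modulo the maximal ideal. -/
theorem IsRigidPair.eq_of_finiteType [IsLocalRing R] [Algebra.FiniteType R C]
    {φ ψ : C →ₐc[R] MonoidAlgebra R M} (hr : IsRigidPair φ ψ)
    (h : ∀ c m, coeffAt m (φ c - ψ c) ∈ IsLocalRing.maximalIdeal R) (c : C) : φ c = ψ c := by
  classical
  obtain ⟨s, hs⟩ := (‹Algebra.FiniteType R C›).out
  set J : Ideal R := Ideal.span
    ↑(s.biUnion fun x => (φ x - ψ x).coeff.support.image fun m => coeffAt m (φ x - ψ x)) with hJ
  have hall : ∀ c m, coeffAt m (φ c - ψ c) ∈ J := by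
    refine mem_of_adjoin_eq_top hs fun x hx m => ?_
    by_cases hm : (φ x - ψ x).coeff m = 0
    · rw [coeffAt_apply, hm]; exact J.zero_mem
    · exact Ideal.subset_span (Finset.mem_coe.mpr (Finset.mem_biUnion.mpr ⟨x, Finset.mem_coe.mp hx,
        Finset.mem_image.mpr ⟨m, Finsupp.mem_support_iff.mpr hm, rfl⟩⟩))
  have hle : J ≤ J * J := by
    rw [hJ, Ideal.span_le]
    intro r hr'
    simp only [Finset.mem_coe, Finset.mem_biUnion, Finset.mem_image] at hr'
    obtain ⟨x, -, m, -, rfl⟩ := hr'
    exact hr J hall x m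
  have hm : J ≤ IsLocalRing.maximalIdeal R := by
    rw [hJ, Ideal.span_le]
    intro r hr'
    simp only [Finset.mem_coe, Finset.mem_biUnion, Finset.mem_image] at hr'
    obtain ⟨x, -, m, -, rfl⟩ := hr'
    exact h x m
  have hbot : J = ⊥ := Submodule.eq_bot_of_le_smul_of_le_jacobson_bot J J ⟨_, rfl⟩ hle
    (hm.trans (IsLocalRing.maximalIdeal_le_jacobson ⊥))
  refine sub_eq_zero.mp (ext_coeffAt fun m => ?_)
  have := hall c m
  rw [hbot, Ideal.mem_bot] at this
  rw [this, map_zero]

theorem isRigidPair_of_cocomm [Coalgebra.IsCocomm R C] (φ ψ : C →ₐc[R] MonoidAlgebra R M) :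
    IsRigidPair φ ψ := fun J h => congr_mul_self_of_cocomm φ ψ J h

theorem isRigidPair_trivial (φ : C →ₐc[R] MonoidAlgebra R M) :
    IsRigidPair φ (trivialHom R C (MonoidAlgebra R M)) := fun J h => congr_mul_self_trivial φ J h

end GrothLib.Hopf
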