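import Groth.Prelude.Def_SGA3b
import Groth.Agent.Lib.Hopf.BaseChange
import Groth.Agent.Lib.Hopf.GroupAlg
import Mathlib.RingTheory.Flat.FaithfullyFlat.Algebra
import Mathlib.RingTheory.Localization.BaseChange
import Mathlib.RingTheory.LocalRing.ResidueField.Basic

/-!
Groups of multiplicative type: reduction of identities to group algebras.
-/

universe u

set_option linter.style.haveILetI false

open TensorProduct

namespace GrothLib.Hopf

variable {R : Type u} [CommRing R] {A : Type u} [CommRing A] [HopfAlgebra R A]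

/-- The trivialisation over the ambient ring deduced from one over a localisation. -/
noncomputable def trivOfAway (S R' : Type u) [CommRing S] [CommRing R'] [Algebra R S] [Algebra S R']
    [Algebra R R'] [IsScalarTower R S R'] {M : Type u} [CommGroup M]
    (e : R' ⊗[S] (S ⊗[R] A) ≃ₐc[R'] MonoidAlgebra R' M) : R' ⊗[R] A ≃ₐc[R'] MonoidAlgebra R' M :=
  (cancelBaseChange R S R' A).symm.trans e

/-- An identity in a Hopf algebra of multiplicative type may be checked over trivialisations. -/
theorem eq_of_charts (h : SGA3b.IsMultType R A) {x y : A}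
    (hx : ∀ (R' : Type u) [CommRing R'] [Algebra R R'] (M : Type u) [CommGroup M]
      (_e : R' ⊗[R] A ≃ₐc[R'] MonoidAlgebra R' M), (1 : R') ⊗ₜ[R] x = (1 : R') ⊗ₜ[R] y) : x = y := by
  obtain ⟨s, hs, hloc⟩ := h
  have key : ∀ f ∈ s, ∃ n : ℕ, f ^ n • (x - y) = 0 := by
    intro f hf
    obtain ⟨R', _, _, hff, M, _, ⟨e⟩⟩ := hloc f hf
    letI : Algebra R R' := Algebra.compHom R' (algebraMap R (Localization.Away f))
    haveI : IsScalarTower R (Localization.Away f) R' := IsScalarTower.of_algebraMap_eq fun _ => rfl
    have h1 := hx R' M (trivOfAway (Localization.Away f) R' e)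
    have h2 : (1 : R') ⊗ₜ[Localization.Away f] ((1 : Localization.Away f) ⊗ₜ[R] x) =
        (1 : R') ⊗ₜ[Localization.Away f] ((1 : Localization.Away f) ⊗ₜ[R] y) := by
      refine (cancelBaseChange R (Localization.Away f) R' A).toAlgEquiv.injective ?_
      change cancelBaseChange R (Localization.Away f) R' A _ = cancelBaseChange R (Localization.Away f) R' A _
      rw [cancelBaseChange_tmul, cancelBaseChange_tmul, one_smul, h1]
    have h3 := Module.FaithfullyFlat.tensorProduct_mk_injective
      (A := Localization.Away f) (B := R') (Localization.Away f ⊗[R] A) h2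
    have h4 : TensorProduct.mk R (Localization.Away f) A 1 (x - y) = 0 := by
      rw [map_sub, sub_eq_zero]; exact h3
    obtain ⟨⟨_, n, rfl⟩, hn⟩ := (IsLocalizedModule.eq_zero_iff (Submonoid.powers f) _).mp h4
    exact ⟨n, hn⟩
  let K : Ideal R := LinearMap.ker (LinearMap.toSpanSingleton R A (x - y))
  have hann : ∀ f ∈ s, f ∈ K.radical := fun f hf => by
    obtain ⟨n, hn⟩ := key f hf
    exact ⟨n, hn⟩
  have h1 : (1 : R) ∈ K.radical :=
    Ideal.span_le.mpr hann (hs ▸ Submodule.mem_top)
  obtain ⟨n, hn⟩ := h1
  simp only [K, one_pow, LinearMap.mem_ker, LinearMap.toSpanSingleton_apply, one_smul] at hn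
  exact sub_eq_zero.mp hn

/-- Over a local ring a group of multiplicative type becomes diagonalisable after a faithfully flat
local extension. -/
theorem exists_local_chart [IsLocalRing R] (h : SGA3b.IsMultType R A) :
    ∃ (R' : Type u) (_ : CommRing R') (_ : IsLocalRing R') (_ : Algebra R R') (M : Type u) (_ : CommGroup M),
      Module.FaithfullyFlat R R' ∧
      (IsLocalRing.maximalIdeal R).map (algebraMap R R') ≤ IsLocalRing.maximalIdeal R' ∧
      Nonempty (R' ⊗[R] A ≃ₐc[R'] MonoidAlgebra R' M) := by
  obtain ⟨s, hs, hloc⟩ := h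
  obtain ⟨f, hf, hfu⟩ : ∃ f ∈ s, IsUnit f := by
    by_contra! hc
    have : Ideal.span s ≤ IsLocalRing.maximalIdeal R :=
      Ideal.span_le.mpr fun x hx => (IsLocalRing.mem_maximalIdeal x).mpr (hc x hx)
    rw [hs] at this
    exact (IsLocalRing.maximalIdeal.isMaximal R).ne_top (top_le_iff.mp this)
  obtain ⟨R', _, _, hff, M, _, ⟨e⟩⟩ := hloc f hf
  letI : Algebra R R' := Algebra.compHom R' (algebraMap R (Localization.Away f))
  haveI : IsScalarTower R (Localization.Away f) R' := IsScalarTower.of_algebraMap_eq fun _ => rfl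
  haveI : Module.FaithfullyFlat R (Localization.Away f) := by
    refine Module.FaithfullyFlat.of_linearEquiv R R
      (IsLocalization.atUnits R (Submonoid.powers f) (S := Localization.Away f) ?_).toLinearEquiv.symm
    rintro _ ⟨n, rfl⟩
    exact hfu.pow n
  haveI : Module.FaithfullyFlat R R' := Module.FaithfullyFlat.trans R (Localization.Away f) R'
  obtain ⟨q, hq⟩ := PrimeSpectrum.comap_surjective_of_faithfullyFlat (B := R') ⟨IsLocalRing.maximalIdeal R, inferInstance⟩
  let T := Localization.AtPrime q.asIdeal
  have hmap : (IsLocalRing.maximalIdeal R).map (algebraMap R T) ≤ IsLocalRing.maximalIdeal T := by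
    rw [IsScalarTower.algebraMap_eq R R' T, ← Ideal.map_map]
    refine (Ideal.map_mono ?_).trans (Localization.AtPrime.map_eq_maximalIdeal).le
    rw [Ideal.map_le_iff_le_comap]
    exact (congrArg PrimeSpectrum.asIdeal hq).ge
  haveI : Module.Flat R T := Module.Flat.trans R R' T
  haveI : IsLocalHom (algebraMap R T) := ((IsLocalRing.local_hom_TFAE (algebraMap R T)).out 0 2).mpr hmap
  exact ⟨T, inferInstance, inferInstance, inferInstance, M, inferInstance,
    Module.FaithfullyFlat.of_flat_of_isLocalHom, hmap,
    ⟨trivBaseChange T (trivOfAway (Localization.Away f) R' e)⟩⟩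

end GrothLib.Hopf
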