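import Groth.Agent.Lib.Hopf.FaithfulAC
import Mathlib.RingTheory.HopfAlgebra.TensorProduct
import Mathlib.RingTheory.Bialgebra.TensorProduct
import Mathlib.FieldTheory.IsAlgClosed.AlgebraicClosure
import Mathlib.RingTheory.Flat.Stability
import Mathlib.LinearAlgebra.Basis.VectorSpace

/-!
An injective homomorphism of finitely generated commutative Hopf algebras over a field is faithfully
flat.
-/

universe u

set_option linter.style.haveILetI false

open TensorProduct

namespace GrothLib.Hopf

variable {k : Type u} [Field k]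

theorem faithfullyFlat_fg {A B : Type u} [CommRing A] [HopfAlgebra k A] [CommRing B]
    [HopfAlgebra k B] [Algebra.FiniteType k A] [Algebra.FiniteType k B] [Algebra B A]
    [IsScalarTower k B A] (φ : B →ₐc[k] A) (hφ : ∀ b, algebraMap B A b = φ b)
    (hinj : Function.Injective φ) : Module.FaithfullyFlat B A := by
  let K := AlgebraicClosure k
  let φ' : K ⊗[k] B →ₐc[K] K ⊗[k] A := Bialgebra.TensorProduct.map (BialgHom.id K K) φ
  have hφ'tmul : ∀ (x : K) (b : B), φ' (x ⊗ₜ b) = x ⊗ₜ φ b := fun _ _ => rfl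
  letI : Algebra (K ⊗[k] B) (K ⊗[k] A) := (φ' : K ⊗[k] B →ₐ[K] K ⊗[k] A).toRingHom.toAlgebra
  haveI : IsScalarTower K (K ⊗[k] B) (K ⊗[k] A) :=
    IsScalarTower.of_algebraMap_eq fun x => ((φ' : K ⊗[k] B →ₐ[K] K ⊗[k] A).commutes x).symm
  have hinj' : Function.Injective φ' := by
    have h : Function.Injective (LinearMap.lTensor K (φ : B →ₐ[k] A).toLinearMap) :=
      Module.Flat.lTensor_preserves_injective_linearMap _ hinj
    have heq : ∀ z, φ' z = LinearMap.lTensor K (φ : B →ₐ[k] A).toLinearMap z := fun z => by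
      induction z using TensorProduct.induction_on with
      | zero => simp
      | tmul x b => rfl
      | add x y hx hy => rw [map_add, map_add, hx, hy]
    intro x y hxy
    exact h (by rw [← heq, ← heq, hxy])
  haveI hff : Module.FaithfullyFlat (K ⊗[k] B) (K ⊗[k] A) :=
    faithfullyFlat_algClosed φ' (fun _ => rfl) hinj'
  letI : Algebra B (K ⊗[k] B) := Algebra.TensorProduct.rightAlgebra
  letI : Algebra B (K ⊗[k] A) := ((algebraMap (K ⊗[k] B) (K ⊗[k] A)).comp (algebraMap B (K ⊗[k] B))).toAlgebra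
  haveI : IsScalarTower B (K ⊗[k] B) (K ⊗[k] A) := IsScalarTower.of_algebraMap_eq fun _ => rfl
  haveI : Module.Flat B (K ⊗[k] B) := by
    refine RingHom.flat_algebraMap_iff.mp ?_
    have : algebraMap B (K ⊗[k] B) =
        (Algebra.TensorProduct.comm k B K).toRingEquiv.toRingHom.comp (algebraMap B (B ⊗[k] K)) := by
      ext b; rfl
    rw [this]
    exact (RingHom.flat_algebraMap_iff.mpr inferInstance).comp
      (RingHom.Flat.of_bijective (AlgEquiv.bijective (Algebra.TensorProduct.comm k B K)))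
  haveI : Module.Flat B (K ⊗[k] A) := Module.Flat.trans B (K ⊗[k] B) (K ⊗[k] A)
  have hsmul : ∀ (b : B) (x : K) (a : A), b • (x ⊗ₜ[k] a) = x ⊗ₜ[k] (b • a) := fun b x a => by
    rw [Algebra.smul_def, Algebra.smul_def, hφ]
    change φ' (1 ⊗ₜ b) * (x ⊗ₜ a) = _
    rw [hφ'tmul, Algebra.TensorProduct.tmul_mul_tmul, one_mul]
  obtain ⟨π, hπ⟩ := (LinearMap.toSpanSingleton k K 1).exists_leftInverse_of_injective
    (LinearMap.ker_eq_bot.mpr fun x y h => by
      simp only [LinearMap.toSpanSingleton_apply] at h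
      exact smul_left_injective k (one_ne_zero (α := K)) h)
  have hπ1 : π 1 = 1 := by
    have := LinearMap.congr_fun hπ 1
    simpa using this
  let rA : K ⊗[k] A →ₗ[k] A := (TensorProduct.lid k A).toLinearMap ∘ₗ LinearMap.rTensor A π
  have hrA : ∀ (b : B) (z : K ⊗[k] A), rA (b • z) = b • rA z := fun b z => by
    induction z using TensorProduct.induction_on with
    | zero => rw [smul_zero, map_zero, smul_zero]
    | tmul x a => rw [hsmul]; simp [rA, smul_comm (π x) b a]
    | add x y hx hy => rw [smul_add, map_add, map_add, smul_add, hx, hy]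
  let i : A →ₗ[B] K ⊗[k] A :=
    { toFun := fun a => 1 ⊗ₜ a
      map_add' := fun _ _ => tmul_add _ _ _
      map_smul' := fun b a => (hsmul b 1 a).symm }
  let r : K ⊗[k] A →ₗ[B] A := { rA with map_smul' := hrA }
  haveI : Module.Flat B A := Module.Flat.of_retract i r (LinearMap.ext fun a => by simp [i, r, rA, hπ1])
  refine ⟨fun q hq h => hq.ne_top ?_⟩
  have h1 : (Ideal.map (algebraMap B (K ⊗[k] B)) q) • (⊤ : Submodule (K ⊗[k] B) (K ⊗[k] A)) = ⊤ := by
    have h2 : (1 : K ⊗[k] A) ∈
        (Ideal.map (algebraMap B (K ⊗[k] B)) q) • (⊤ : Submodule (K ⊗[k] B) (K ⊗[k] A)) := by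
      have h3 : ∀ a ∈ q • (⊤ : Submodule B A), (1 : K) ⊗ₜ[k] a ∈
          (Ideal.map (algebraMap B (K ⊗[k] B)) q) • (⊤ : Submodule (K ⊗[k] B) (K ⊗[k] A)) := by
        intro a ha
        induction ha using Submodule.smul_induction_on' with
        | smul b hb c _ =>
          rw [← hsmul, ← IsScalarTower.algebraMap_smul (K ⊗[k] B) b]
          exact Submodule.smul_mem_smul (Ideal.mem_map_of_mem _ hb) trivial
        | add x _ y _ hx hy => rw [tmul_add]; exact add_mem hx hy
      exact h3 1 (by rw [h]; trivial)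
    refine eq_top_iff.mpr fun z _ => ?_
    have h3 : ∀ y ∈ (Ideal.map (algebraMap B (K ⊗[k] B)) q) • (⊤ : Submodule (K ⊗[k] B) (K ⊗[k] A)),
        z * y ∈ (Ideal.map (algebraMap B (K ⊗[k] B)) q) • (⊤ : Submodule (K ⊗[k] B) (K ⊗[k] A)) := by
      intro y hy
      induction hy using Submodule.smul_induction_on' with
      | smul c hc w _ => rw [mul_smul_comm]; exact Submodule.smul_mem_smul hc trivial
      | add x _ y _ hx hy => rw [mul_add]; exact add_mem hx hy
    have := h3 1 h2
    rwa [mul_one] at this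
  have h2 := (Module.FaithfullyFlat.iff_flat_and_ideal_smul_eq_top _ _).mp hff |>.2 _ h1
  let rB : K ⊗[k] B →ₗ[k] B := (TensorProduct.lid k B).toLinearMap ∘ₗ LinearMap.rTensor B π
  have hrB : ∀ (b : B) (z : K ⊗[k] B), rB (algebraMap B (K ⊗[k] B) b * z) = b * rB z := fun b z => by
    induction z using TensorProduct.induction_on with
    | zero => simp
    | tmul x c =>
      change rB ((1 ⊗ₜ b) * (x ⊗ₜ c)) = _
      simp [rB]
    | add x y hx hy => rw [mul_add, map_add, map_add, mul_add, hx, hy]
  have h3 : ∀ z ∈ Ideal.map (algebraMap B (K ⊗[k] B)) q, ∀ w, rB (w * z) ∈ q := by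
    intro z hz
    induction hz using Submodule.span_induction with
    | mem x hx =>
      obtain ⟨b, hb, rfl⟩ := hx
      intro w
      rw [mul_comm, hrB]
      exact Ideal.mul_mem_right _ _ hb
    | zero => intro w; simp
    | add x y _ _ hx hy => intro w; rw [mul_add, map_add]; exact add_mem (hx w) (hy w)
    | smul a x _ hx => intro w; rw [smul_eq_mul, ← mul_assoc]; exact hx _
  rw [Ideal.eq_top_iff_one]
  have := h3 1 (by rw [h2]; trivial) 1
  rw [mul_one, show rB 1 = 1 by simp [rB, hπ1, Algebra.TensorProduct.one_def]] at this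
  exact this

end GrothLib.Hopf
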