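import Groth.Agent.Lib.Flatness.InjMod
import Mathlib.RingTheory.Flat.Stability
import Mathlib.RingTheory.Flat.EquationalCriterion
import Mathlib.LinearAlgebra.Basis.VectorSpace

/-!
# Freeness descends along injective ring maps, modulo a nilpotent ideal

The argument of `GrothLib.Flatness.free_of_baseChange_flat`, for any nilpotent ideal.
-/

universe u

namespace GrothLib.Hopf

open TensorProduct Function GrothLib.Flatness

variable {R : Type u} [CommRing R] {M : Type u} [AddCommGroup M] [Module R M]

/-- A lift of a basis modulo a nilpotent ideal spans. -/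
theorem exists_basisLift (N : Ideal R) (hR : IsNilpotent N) [Module.Free (R ⧸ N) ((R ⧸ N) ⊗[R] M)] :
    ∃ (ι : Type u) (v : ι → M) (b : Module.Basis ι ((R ⧸ N)) ((R ⧸ N) ⊗[R] M)),
      (∀ i, (1 : (R ⧸ N)) ⊗ₜ[R] v i = b i) ∧ Submodule.span R (Set.range v) = ⊤ := by
  classical
  let b := Module.Free.chooseBasis ((R ⧸ N)) ((R ⧸ N) ⊗[R] M)
  choose v hv using fun i =>
    TensorProduct.mk_surjective R M ((R ⧸ N)) Ideal.Quotient.mk_surjective (b i)
  refine ⟨_, v, b, hv, eq_top_iff.mpr fun x _ => ?_⟩
  obtain ⟨n, hn⟩ := hR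
  have h1 : (⊤ : Submodule R M) ≤ Submodule.span R (Set.range v) ⊔ N • ⊤ := by
    intro y _
    have hy : (1 : (R ⧸ N)) ⊗ₜ[R] y ∈ Submodule.span R (Set.range b) := by
      rw [← Submodule.restrictScalars_span R ((R ⧸ N)) Ideal.Quotient.mk_surjective, b.span_eq]
      trivial
    rw [← (funext hv : TensorProduct.mk R ((R ⧸ N)) M 1 ∘ v = b), Set.range_comp,
      Submodule.span_image] at hy
    obtain ⟨z, hz, hzy⟩ := hy
    refine Submodule.mem_sup.mpr ⟨z, hz, y - z, ?_, add_sub_cancel _ _⟩
    refine (one_tmul_eq_zero_iff _ _).mp ?_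
    rw [TensorProduct.tmul_sub, sub_eq_zero]
    exact hzy.symm
  have hstep : ∀ j : ℕ, x ∈ Submodule.span R (Set.range v) ⊔
      N ^ j • (⊤ : Submodule R M) := by
    intro j
    induction j with
    | zero =>
      rw [pow_zero, Ideal.one_eq_top, Submodule.top_smul]
      exact Submodule.mem_sup_right trivial
    | succ j ih =>
      refine SetLike.le_def.mp (sup_le le_sup_left ?_) ih
      refine (Submodule.smul_mono le_rfl h1).trans ?_
      rw [Submodule.smul_sup, pow_succ, Submodule.mul_smul]
      exact sup_le_sup Submodule.smul_le_right le_rfl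
  simpa [hn] using hstep n

/-- A module which is free modulo a nilpotent ideal and becomes flat after an injective extension
of rings is free. -/
theorem free_of_baseChange_flat {S : Type u} [CommRing S] [Algebra R S] (N : Ideal R)
    [Module.Free (R ⧸ N) ((R ⧸ N) ⊗[R] M)] (hR : IsNilpotent N) (hinj : Injective (algebraMap R S))
    [Module.Flat S (S ⊗[R] M)] : Module.Free R M := by
  classical
  obtain ⟨ι, v, b, hb, hspan⟩ := exists_basisLift (M := M) N hR
  refine Module.Free.of_basis (Module.Basis.mk ?_ hspan.ge)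
  let K := (N).map (algebraMap R S)
  let v' : ι → S ⊗[R] M := fun i => 1 ⊗ₜ v i
  suffices hli : LinearIndependent S v' by
    rw [linearIndependent_iff']
    intro s g hg i hi
    apply hinj
    rw [map_zero]
    refine linearIndependent_iff'.mp hli s (fun i => algebraMap R S (g i)) ?_ i hi
    simp only [v', IsScalarTower.algebraMap_smul, ← tmul_smul, ← tmul_sum, hg, tmul_zero]
  have hspan' : Submodule.span S (Set.range v') = ⊤ := by
    rw [eq_top_iff]
    intro y _
    induction y using TensorProduct.induction_on with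
    | zero => exact zero_mem _
    | add a b ha hb => exact add_mem (ha trivial) (hb trivial)
    | tmul s m =>
    clear * - hspan v' m
    rw [show s ⊗ₜ[R] m = s • ((1 : S) ⊗ₜ[R] m) by rw [TensorProduct.smul_tmul', smul_eq_mul, mul_one]]
    refine Submodule.smul_mem _ _ ?_
    have hm : m ∈ Submodule.span R (Set.range v) := hspan ▸ trivial
    induction hm using Submodule.span_induction with
    | mem x hx => obtain ⟨i, rfl⟩ := hx; exact Submodule.subset_span ⟨i, rfl⟩
    | zero => rw [tmul_zero]; exact zero_mem _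
    | add x y _ _ hx hy => rw [tmul_add]; exact add_mem hx hy
    | smul r x _ hx =>
      rw [tmul_smul, ← IsScalarTower.algebraMap_smul S r ((1 : S) ⊗ₜ[R] x)]
      exact Submodule.smul_mem _ _ hx
  let σ : (R ⧸ N) →+* S ⧸ K :=
    Ideal.Quotient.lift (N) ((Ideal.Quotient.mk K).comp (algebraMap R S))
      fun a ha => Ideal.Quotient.eq_zero_iff_mem.mpr (Ideal.mem_map_of_mem _ ha)
  let σ' : (R ⧸ N) →ₗ[R] S ⧸ K :=
    { toFun := σ
      map_add' := map_add σ
      map_smul' := fun r x => by
        rw [Algebra.smul_def, map_mul, RingHom.id_apply, Algebra.smul_def]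
        rfl }
  let ψ : ι → S ⊗[R] M →ₗ[S] S ⧸ K := fun i =>
    (σ' ∘ₗ (b.coord i).restrictScalars R ∘ₗ TensorProduct.mk R ((R ⧸ N)) M 1).liftBaseChange S
  have hψ : ∀ i l, ψ i (v' l) = if l = i then 1 else 0 := fun i l => by
    simp only [ψ, v', LinearMap.liftBaseChange_tmul, one_smul, LinearMap.comp_apply,
      TensorProduct.mk_apply, hb, LinearMap.restrictScalars_apply, Module.Basis.coord_apply,
      Module.Basis.repr_self, Finsupp.single_apply]
    split_ifs
    · exact map_one σ
    · exact map_zero σ
  rw [linearIndependent_iff']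
  intro s g hg i hi
  rw [← Finset.sum_coe_sort] at hg
  obtain ⟨l, c, z, hcz, hgc⟩ := Module.Flat.isTrivialRelation_of_sum_smul_eq_zero hg
  choose d hd using fun j => (Finsupp.mem_span_range_iff_exists_finsupp (R := S) (v := v')).mp
    (hspan'.ge (Submodule.mem_top : z j ∈ ⊤))
  have hmat : ∀ i i' : s, (∑ j, c i j * d j i') - (if (i : ι) = i' then 1 else 0) ∈ K := fun i i' => by
    rw [← Ideal.Quotient.eq, map_sum]
    have h1 := congrArg (ψ i') (hcz i)
    rw [hψ] at h1
    rw [map_sum] at h1
    refine Eq.trans ?_ (h1.symm.trans ?_)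
    · refine Finset.sum_congr rfl fun j _ => ?_
      rw [map_smul, ← hd j, Finsupp.sum, map_sum]
      simp only [map_smul, hψ, smul_ite, smul_zero]
      rw [Finset.sum_ite_eq']
      by_cases h : (i' : ι) ∈ (d j).support
      · rw [if_pos h, smul_smul, Algebra.smul_def, mul_one]
        rfl
      · rw [if_neg h, smul_zero, Finsupp.notMem_support_iff.mp h, mul_zero, map_zero]
    · split_ifs <;> simp
  let G : Ideal S := Ideal.span (Set.range fun i : s => g i)
  have hG : G ≤ K • G := by
    rw [Ideal.span_le]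
    rintro _ ⟨i', rfl⟩
    have h0 : ∑ i : s, g i * ∑ j, c i j * d j i' = 0 := by
      simp only [Finset.mul_sum, ← mul_assoc]
      rw [Finset.sum_comm]
      refine Finset.sum_eq_zero fun j _ => ?_
      rw [← Finset.sum_mul, hgc j, zero_mul]
    have h1 : g i' = - ∑ i : s, g i * ((∑ j, c i j * d j i') - if (i : ι) = i' then 1 else 0) := by
      simp only [mul_sub, Finset.sum_sub_distrib, h0, zero_sub, neg_neg, mul_ite, mul_one,
        mul_zero]
      rw [Finset.sum_eq_single i' (fun a _ ha => if_neg fun h => ha (Subtype.ext h))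
        (fun h => absurd (Finset.mem_univ _) h), if_pos rfl]
    show g i' ∈ K • G
    rw [h1]
    refine neg_mem (Submodule.sum_mem _ fun i _ => ?_)
    rw [mul_comm]
    exact Submodule.smul_mem_smul (hmat i i') (Ideal.subset_span ⟨i, rfl⟩)
  have hpow : ∀ n : ℕ, G ≤ K ^ n • G := fun n => by
    induction n with
    | zero => simp
    | succ n ih =>
      refine ih.trans ((Submodule.smul_mono le_rfl hG).trans ?_)
      rw [← Submodule.mul_smul, pow_succ]
  obtain ⟨n, hn⟩ := hR
  have hK : K ^ n = ⊥ := by
    rw [← Ideal.map_pow, hn]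
    exact Ideal.map_bot
  have := hpow n (Ideal.subset_span ⟨⟨i, hi⟩, rfl⟩)
  rw [hK, Submodule.bot_smul] at this
  exact this

end GrothLib.Hopf
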