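import Groth.Agent.Lib.Comod.Coeff
import Groth.Agent.Lib.Hopf.Comod
import Mathlib.RingTheory.Coalgebra.Convolution
import Mathlib.RingTheory.Coalgebra.GroupLike
import Mathlib.RingTheory.Ideal.GoingUp
import Mathlib.FieldTheory.IsAlgClosed.Basic
import Mathlib.LinearAlgebra.Dual.Lemmas

/-!
# Group-like elements lift along surjections of cocommutative coalgebras over an algebraically closed field
-/

universe u v

open TensorProduct WithConv

namespace GrothLib.Hopf.GroupLikeLift

variable {k : Type u} [Field k]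

/-- A character of an algebra which kills the kernel of a map to a finite algebra extends to that algebra. -/
theorem exists_algHom_extend [IsAlgClosed k] {L Q : Type*} [CommRing L] [CommRing Q] [Algebra k L] [Algebra k Q]
    [Module.Finite k Q] (ρ : L →ₐ[k] Q) (ev : L →ₐ[k] k) (h : ∀ x, ρ x = 0 → ev x = 0) :
    ∃ g : Q →ₐ[k] k, ∀ x, g (ρ x) = ev x := by
  letI := (ρ : L →+* Q).toAlgebra
  haveI : IsScalarTower k L Q := IsScalarTower.of_algebraMap_eq fun r => (ρ.commutes r).symm
  haveI : Algebra.IsIntegral L Q := Algebra.IsIntegral.tower_top (R := k)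
  have hev : Function.Surjective ev := fun c => ⟨algebraMap k L c, ev.commutes c⟩
  haveI : (RingHom.ker ev).IsMaximal := RingHom.ker_isMaximal_of_surjective ev hev
  obtain ⟨m, hm, hmf⟩ := Ideal.exists_ideal_over_maximal_of_isIntegral (S := Q) (RingHom.ker ev) fun x hx => h x hx
  letI := Ideal.Quotient.field m
  haveI : Module.Finite k (Q ⧸ m) :=
    Module.Finite.of_surjective (Ideal.Quotient.mkₐ k m).toLinearMap Ideal.Quotient.mk_surjective
  let e : k ≃ₐ[k] Q ⧸ m := AlgEquiv.ofBijective (Algebra.ofId k _)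
    IsAlgClosed.algebraMap_bijective_of_isIntegral
  refine ⟨e.symm.toAlgHom.comp (Ideal.Quotient.mkₐ k m), fun x => ?_⟩
  have h1 : x - algebraMap k L (ev x) ∈ RingHom.ker ev := by
    rw [RingHom.mem_ker, map_sub, AlgHom.commutes, sub_eq_zero]
    rfl
  rw [← hmf, Ideal.mem_comap, map_sub, ← Ideal.Quotient.eq] at h1
  change e.symm (Ideal.Quotient.mk m (algebraMap L Q x)) = ev x
  rw [e.symm_apply_eq, h1, ← IsScalarTower.algebraMap_apply]
  rfl

variable {B : Type v} [AddCommGroup B] [Module k B] [Coalgebra k B]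

theorem eq_of_forall_pair {z z' : B ⊗[k] B} (h : ∀ φ ψ : B →ₗ[k] k,
    LinearMap.mul' k k (TensorProduct.map φ ψ z) = LinearMap.mul' k k (TensorProduct.map φ ψ z')) : z = z' := by
  let b := Module.Basis.ofVectorSpace k B
  refine (b.tensorProduct b).repr.injective (Finsupp.ext fun ij => ?_)
  have e : ∀ z : B ⊗[k] B, (b.tensorProduct b).repr z ij =
      LinearMap.mul' k k (TensorProduct.map (b.coord ij.1) (b.coord ij.2) z) := fun z => by
    induction z using TensorProduct.induction_on with
    | zero => simp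
    | tmul x y =>
      rw [TensorProduct.map_tmul, LinearMap.mul'_apply, Module.Basis.coord_apply, Module.Basis.coord_apply]
      exact (Module.Basis.tensorProduct_repr_tmul_apply b b x y ij.1 ij.2).trans (mul_comm _ _)
    | add x y hx hy => simp only [map_add, Finsupp.add_apply, hx, hy]
  rw [e, e]
  exact h _ _

/-- Restriction of linear forms to a subspace, on the convolution algebra. -/
def res (D : Submodule k B) : WithConv (B →ₗ[k] k) →ₗ[k] Module.Dual k D :=
  D.subtype.dualMap ∘ₗ (WithConv.linearEquiv k (B →ₗ[k] k)).toLinearMap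

theorem res_apply (D : Submodule k B) (φ : WithConv (B →ₗ[k] k)) (d : D) : res D φ d = φ (d : B) := rfl

theorem res_surjective (D : Submodule k B) : Function.Surjective (res D) := fun f =>
  let ⟨g, hg⟩ := D.subtype.dualMap_surjective_of_injective D.subtype_injective f
  ⟨toConv g, hg⟩

theorem res_mul_eq_zero {D : Submodule k B}
    (hD : ∀ d ∈ D, CoalgebraStruct.comul (R := k) d ∈ LinearMap.range (TensorProduct.map D.subtype D.subtype))
    (φ ψ : WithConv (B →ₗ[k] k)) (hψ : res D ψ = 0) : res D (φ * ψ) = 0 := by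
  refine LinearMap.ext fun d => ?_
  rw [res_apply, LinearMap.convMul_apply]
  obtain ⟨z, hz⟩ := hD d d.2
  rw [← hz, ← LinearMap.comp_apply (TensorProduct.map φ.ofConv ψ.ofConv), ← TensorProduct.map_comp,
    show ψ.ofConv ∘ₗ D.subtype = 0 from hψ, TensorProduct.map_zero_right, LinearMap.zero_apply, map_zero]
  rfl

variable [Coalgebra.IsCocomm k B]

/-- The forms vanishing on a subcoalgebra. -/
def annihilator (D : Submodule k B)
    (hD : ∀ d ∈ D, CoalgebraStruct.comul (R := k) d ∈ LinearMap.range (TensorProduct.map D.subtype D.subtype)) :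
    Ideal (WithConv (B →ₗ[k] k)) where
  carrier := {φ | res D φ = 0}
  add_mem' := fun {a b} ha hb => by
    change res D (a + b) = 0
    rw [map_add, show res D a = 0 from ha, show res D b = 0 from hb, add_zero]
  zero_mem' := map_zero (res D)
  smul_mem' := fun c {ψ} hψ => res_mul_eq_zero hD c ψ hψ

theorem mem_annihilator {D : Submodule k B}
    (hD : ∀ d ∈ D, CoalgebraStruct.comul (R := k) d ∈ LinearMap.range (TensorProduct.map D.subtype D.subtype))
    {φ : WithConv (B →ₗ[k] k)} : φ ∈ annihilator D hD ↔ res D φ = 0 := Iff.rfl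

theorem finite_quotient {D : Submodule k B} [Module.Finite k D]
    (hD : ∀ d ∈ D, CoalgebraStruct.comul (R := k) d ∈ LinearMap.range (TensorProduct.map D.subtype D.subtype)) :
    Module.Finite k (WithConv (B →ₗ[k] k) ⧸ annihilator D hD) := by
  haveI : Module.Finite k (WithConv (B →ₗ[k] k) ⧸ LinearMap.ker (res D)) :=
    Module.Finite.equiv ((res D).quotKerEquivOfSurjective (res_surjective D)).symm
  let f : (WithConv (B →ₗ[k] k) ⧸ LinearMap.ker (res D)) →ₗ[k] (WithConv (B →ₗ[k] k) ⧸ annihilator D hD) :=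
    Submodule.liftQ _ (Ideal.Quotient.mkₐ k _).toLinearMap fun φ hφ => Ideal.Quotient.eq_zero_iff_mem.mpr hφ
  refine Module.Finite.of_surjective f fun x => ?_
  obtain ⟨φ, rfl⟩ := Ideal.Quotient.mk_surjective x
  exact ⟨Submodule.Quotient.mk φ, rfl⟩

/-- A multiplicative form killing the annihilator of a finite subcoalgebra is evaluation at a group-like element. -/
theorem exists_groupLike_of_algHom {D : Submodule k B} [Module.Finite k D] (g : WithConv (B →ₗ[k] k) →ₐ[k] k)
    (hg : ∀ φ, res D φ = 0 → g φ = 0) :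
    ∃ y : B, IsGroupLikeElem k y ∧ ∀ φ, g φ = φ y := by
  let gD : Module.Dual k D →ₗ[k] k := (Submodule.liftQ (LinearMap.ker (res D)) g.toLinearMap hg) ∘ₗ
    ((res D).quotKerEquivOfSurjective (res_surjective D)).symm.toLinearMap
  obtain ⟨y, hy⟩ := (Module.bijective_dual_eval k D).2 gD
  have hval : ∀ φ : WithConv (B →ₗ[k] k), g φ = φ (y : B) := fun φ => by
    have h1 := LinearMap.congr_fun hy (res D φ)
    have h2 : ((res D).quotKerEquivOfSurjective (res_surjective D)).symm (res D φ) = Submodule.Quotient.mk φ := by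
      rw [LinearEquiv.symm_apply_eq]
      rfl
    simp only [gD, LinearMap.comp_apply, LinearEquiv.coe_coe, h2, Submodule.liftQ_apply] at h1
    exact h1.symm
  refine ⟨y, ⟨?_, eq_of_forall_pair fun φ ψ => ?_⟩, hval⟩
  · have h1 := (hval 1).symm.trans (map_one g)
    simpa using h1
  · have h1 := map_mul g (toConv φ) (toConv ψ)
    rw [hval, hval, hval, LinearMap.convMul_apply] at h1
    simpa using h1

variable {C : Type v} [AddCommGroup C] [Module k C] [Coalgebra k C] [Coalgebra.IsCocomm k C]

/-- Precomposition with a map of coalgebras. -/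
noncomputable def pre (π : B →ₗc[k] C) : WithConv (C →ₗ[k] k) →ₐ[k] WithConv (B →ₗ[k] k) :=
  AlgHom.ofLinearMap ((WithConv.linearEquiv k (B →ₗ[k] k)).symm.toLinearMap ∘ₗ π.toLinearMap.dualMap ∘ₗ
      (WithConv.linearEquiv k (C →ₗ[k] k)).toLinearMap)
    (WithConv.ofConv_injective (LinearMap.ext fun x => by
      change algebraMap k k (Coalgebra.counit (R := k) (π x)) = algebraMap k k (Coalgebra.counit (R := k) x)
      rw [CoalgHomClass.counit_comp_apply]))
    (fun φ ψ => WithConv.ofConv_injective (LinearMap.ext fun x => by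
      change (φ * ψ) (π x) = LinearMap.mul' k k
        (TensorProduct.map (φ.ofConv ∘ₗ π.toLinearMap) (ψ.ofConv ∘ₗ π.toLinearMap) (Coalgebra.comul (R := k) x))
      rw [LinearMap.convMul_apply, ← CoalgHomClass.map_comp_comul_apply π x, TensorProduct.map_comp,
        LinearMap.comp_apply]
      rfl))

theorem pre_apply (π : B →ₗc[k] C) (φ : WithConv (C →ₗ[k] k)) (x : B) : pre π φ x = φ (π x) := rfl

/-- Evaluation at a group-like element. -/
noncomputable def evalAt {χ : C} (hχ : IsGroupLikeElem k χ) : WithConv (C →ₗ[k] k) →ₐ[k] k :=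
  AlgHom.ofLinearMap ((LinearMap.applyₗ χ) ∘ₗ (WithConv.linearEquiv k (C →ₗ[k] k)).toLinearMap)
    (by
      change algebraMap k k (Coalgebra.counit (R := k) χ) = 1
      rw [hχ.counit_eq_one, map_one])
    (fun φ ψ => by
      change (φ * ψ) χ = φ χ * ψ χ
      simp [LinearMap.convMul_apply, hχ.comul_eq_tmul_self])

theorem evalAt_apply {χ : C} (hχ : IsGroupLikeElem k χ) (φ : WithConv (C →ₗ[k] k)) : evalAt hχ φ = φ χ := rfl

/-- Over an algebraically closed field, group-like elements lift along surjections of cocommutative coalgebras. -/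
theorem exists_groupLike_lift [IsAlgClosed k] (π : B →ₗc[k] C) (hπ : Function.Surjective π) {χ : C}
    (hχ : IsGroupLikeElem k χ) : ∃ y : B, IsGroupLikeElem k y ∧ π y = χ := by
  obtain ⟨b, hb⟩ := hπ χ
  obtain ⟨U, hU, hle, -, hfg⟩ := GrothLib.Hopf.Comod.exists_smallest (k := k) (C := B) (V := B) (Submodule.span k {b})
  obtain ⟨D, hD, hUD, hsub⟩ := GrothLib.Comodule.exists_finite_subcoalg U
    (Module.Finite.iff_fg.2 (hfg (Submodule.fg_span_singleton b))) hU
  haveI := hD
  have hbD : b ∈ D := hUD (hle (Submodule.subset_span rfl))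
  haveI := finite_quotient (k := k) hsub
  obtain ⟨g, hg⟩ := exists_algHom_extend (L := WithConv (C →ₗ[k] k))
    (Q := WithConv (B →ₗ[k] k) ⧸ annihilator D hsub) ((Ideal.Quotient.mkₐ k (annihilator D hsub)).comp (pre π)) (evalAt hχ)
    (fun φ hφ => by
      have h1 := LinearMap.congr_fun ((mem_annihilator hsub).mp (Ideal.Quotient.eq_zero_iff_mem.mp hφ)) ⟨b, hbD⟩
      change φ (π b) = 0 at h1
      rw [hb] at h1
      exact h1)
  obtain ⟨y, hy, hval⟩ := exists_groupLike_of_algHom (g.comp (Ideal.Quotient.mkₐ k (annihilator D hsub)))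
    (fun φ hφ => by
      change g (Ideal.Quotient.mk _ φ) = 0
      rw [Ideal.Quotient.eq_zero_iff_mem.mpr ((mem_annihilator hsub).mpr hφ), map_zero])
  refine ⟨y, hy, sub_eq_zero.mp ((Module.forall_dual_apply_eq_zero_iff k _).mp fun φ => ?_)⟩
  rw [map_sub, sub_eq_zero]
  have h1 := hg (toConv φ)
  change (g.comp (Ideal.Quotient.mkₐ k (annihilator D hsub))) (pre π (toConv φ)) = _ at h1
  rw [hval, pre_apply, evalAt_apply] at h1
  exact h1

end GrothLib.Hopf.GroupLikeLift
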