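import Groth.Agent.Lib.Hopf.GroupLikeLift
import Groth.Agent.Lib.Hopf.Faithful
import Mathlib.RingTheory.Norm.Basic
import Mathlib.RingTheory.TensorProduct.Free
import Mathlib.RingTheory.HopfAlgebra.GroupLike
import Mathlib.RingTheory.Bialgebra.MonoidAlgebra
import Mathlib.RingTheory.HopfAlgebra.MonoidAlgebra
import Mathlib.RingTheory.FiniteType
import Mathlib.GroupTheory.Finiteness

/-!
# Group-like elements of commutative Hopf algebras over a field: norms, lifting up to powers, finite generation
-/

universe u

open TensorProduct WithConv GrothLib.Hopf.GroupLikeLift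

namespace GrothLib.Hopf.GroupLikeNorm

variable {k : Type u} [Field k]

/-- Pairing of `X ⊗ K` with a linear form. -/
noncomputable def ev {X : Type u} [AddCommGroup X] [Module k X] {K : Type u} [AddCommGroup K] [Module k K]
    (φ : X →ₗ[k] k) : X ⊗[k] K →ₗ[k] K :=
  (TensorProduct.lid k K).toLinearMap ∘ₗ φ.rTensor K

@[simp] theorem ev_tmul {X : Type u} [AddCommGroup X] [Module k X] {K : Type u} [AddCommGroup K] [Module k K]
    (φ : X →ₗ[k] k) (x : X) (c : K) : ev φ (x ⊗ₜ[k] c) = φ x • c := by simp [ev]

theorem eq_of_coord {X : Type u} [AddCommGroup X] [Module k X] {K : Type u} [AddCommGroup K] [Module k K]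
    {ι : Type*} (b : Module.Basis ι k X) {z z' : X ⊗[k] K} (h : ∀ i, ev (b.coord i) z = ev (b.coord i) z') :
    z = z' := by
  let c := Module.Basis.ofVectorSpace k K
  refine (b.tensorProduct c).repr.injective (Finsupp.ext fun ij => ?_)
  have e : ∀ z : X ⊗[k] K, (b.tensorProduct c).repr z ij = c.repr (ev (b.coord ij.1) z) ij.2 := fun z => by
    induction z using TensorProduct.induction_on with
    | zero => simp
    | tmul x y =>
      rw [ev_tmul, map_smul, Finsupp.smul_apply, Module.Basis.coord_apply]
      exact (Module.Basis.tensorProduct_repr_tmul_apply b c x y ij.1 ij.2).trans (by simp [mul_comm])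
    | add x y hx hy => simp only [map_add, Finsupp.add_apply, hx, hy]
  rw [e, e, h]

theorem norm_map {B B' K : Type u} [CommRing B] [Algebra k B] [CommRing B'] [Algebra k B'] [CommRing K]
    [Algebra k K] [Module.Finite k K] (f : B →ₐ[k] B') (z : B ⊗[k] K) :
    Algebra.norm B' (Algebra.TensorProduct.map f (AlgHom.id k K) z) = f (Algebra.norm B z) := by
  classical
  let b := Module.Free.chooseBasis k K
  let bB := Algebra.TensorProduct.basis B b
  let bB' := Algebra.TensorProduct.basis B' b
  rw [Algebra.norm_eq_matrix_det bB', Algebra.norm_eq_matrix_det bB]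
  refine Eq.trans ?_ ((f : B →+* B').map_det _).symm
  congr 1
  ext i j
  simp only [RingHom.mapMatrix_apply, Matrix.map_apply, Algebra.leftMulMatrix_eq_repr_mul, AlgHom.coe_toRingHom]
  have key : ∀ w : B ⊗[k] K, bB'.repr (Algebra.TensorProduct.map f (AlgHom.id k K) w) i = f (bB.repr w i) := fun w => by
    induction w using TensorProduct.induction_on with
    | zero => simp
    | tmul x y => simp [bB, bB', Algebra.TensorProduct.basis_repr_tmul, Algebra.smul_def, Finsupp.mapRange_apply]
    | add x y hx hy => simp only [map_add, Finsupp.add_apply, hx, hy]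
  have hb : bB' j = Algebra.TensorProduct.map f (AlgHom.id k K) (bB j) := by simp [bB, bB']
  rw [hb, ← map_mul, key]

variable {B C : Type u} [CommRing B] [HopfAlgebra k B] [CommRing C] [HopfAlgebra k C]

/-- A character of an algebra killing the kernel of a map to a finite algebra extends with values in a finite algebra. -/
theorem exists_algHom_finite {L Q : Type u} [CommRing L] [CommRing Q] [Algebra k L] [Algebra k Q]
    [Module.Finite k Q] (ρ : L →ₐ[k] Q) (ev : L →ₐ[k] k) (h : ∀ x, ρ x = 0 → ev x = 0) :
    ∃ (K : Type u) (_ : CommRing K) (_ : Algebra k K) (_ : Nontrivial K) (_ : Module.Finite k K) (g : Q →ₐ[k] K),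
      ∀ x, g (ρ x) = algebraMap k K (ev x) := by
  letI := (ρ : L →+* Q).toAlgebra
  haveI : IsScalarTower k L Q := IsScalarTower.of_algebraMap_eq fun r => (ρ.commutes r).symm
  haveI : Algebra.IsIntegral L Q := Algebra.IsIntegral.tower_top (R := k)
  haveI : (RingHom.ker ev).IsMaximal :=
    RingHom.ker_isMaximal_of_surjective ev fun c => ⟨algebraMap k L c, ev.commutes c⟩
  obtain ⟨m, hm, hmf⟩ := Ideal.exists_ideal_over_maximal_of_isIntegral (S := Q) (RingHom.ker ev) fun x hx => h x hx
  refine ⟨Q ⧸ m, inferInstance, inferInstance, Ideal.Quotient.nontrivial_iff.mpr hm.ne_top,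
    Module.Finite.of_surjective (Ideal.Quotient.mkₐ k m).toLinearMap Ideal.Quotient.mk_surjective,
    Ideal.Quotient.mkₐ k m, fun x => ?_⟩
  have h1 : x - algebraMap k L (ev x) ∈ RingHom.ker ev := by
    rw [RingHom.mem_ker, map_sub, AlgHom.commutes, sub_eq_zero]
    rfl
  rw [← hmf, Ideal.mem_comap, map_sub, ← Ideal.Quotient.eq, ← IsScalarTower.algebraMap_apply] at h1
  exact h1

/-- Some positive power of a group-like element lifts along a surjection of cocommutative Hopf algebras. -/
theorem exists_pow_lift [Coalgebra.IsCocomm k B] [Coalgebra.IsCocomm k C] (π : B →ₐc[k] C)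
    (hπ : Function.Surjective π) {χ : C} (hχ : IsGroupLikeElem k χ) :
    ∃ d : ℕ, 0 < d ∧ ∃ y : B, IsGroupLikeElem k y ∧ π y = χ ^ d := by
  classical
  let πc : B →ₗc[k] C := (π : B →ₗc[k] C)
  obtain ⟨b, hb⟩ := hπ χ
  obtain ⟨U, hU, hle, -, hfg⟩ := GrothLib.Hopf.Comod.exists_smallest (k := k) (C := B) (V := B) (Submodule.span k {b})
  obtain ⟨D, hD, hUD, hsub⟩ := GrothLib.Comodule.exists_finite_subcoalg U
    (Module.Finite.iff_fg.2 (hfg (Submodule.fg_span_singleton b))) hU
  haveI := hD
  have hbD : b ∈ D := hUD (hle (Submodule.subset_span rfl))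
  haveI := finite_quotient (k := k) hsub
  let ρ : WithConv (C →ₗ[k] k) →ₐ[k] (WithConv (B →ₗ[k] k) ⧸ annihilator D hsub) :=
    (Ideal.Quotient.mkₐ k (annihilator D hsub)).comp (pre πc)
  have hker : ∀ φ, ρ φ = 0 → evalAt hχ φ = 0 := fun φ hφ => by
    have h1 := LinearMap.congr_fun ((mem_annihilator hsub).mp (Ideal.Quotient.eq_zero_iff_mem.mp hφ)) ⟨b, hbD⟩
    change φ (π b) = 0 at h1
    rw [hb] at h1
    exact h1
  obtain ⟨K, _, _, _, _, g₀, hg₀⟩ := exists_algHom_finite (L := WithConv (C →ₗ[k] k))
    (Q := WithConv (B →ₗ[k] k) ⧸ annihilator D hsub) ρ (evalAt hχ) hker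
  let g : WithConv (B →ₗ[k] k) →ₐ[k] K := g₀.comp (Ideal.Quotient.mkₐ k (annihilator D hsub))
  have hgπ : ∀ φ : WithConv (C →ₗ[k] k), g (pre πc φ) = algebraMap k K (φ χ) := hg₀
  let gD : Module.Dual k D →ₗ[k] K := (Submodule.liftQ (LinearMap.ker (res D)) g.toLinearMap fun φ hφ => by
      change g₀ (Ideal.Quotient.mk (annihilator D hsub) φ) = 0
      rw [Ideal.Quotient.eq_zero_iff_mem.mpr (show φ ∈ annihilator D hsub from hφ), map_zero]) ∘ₗ
    ((res D).quotKerEquivOfSurjective (res_surjective D)).symm.toLinearMap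
  have hgD : ∀ φ, gD (res D φ) = g φ := fun φ => by
    have h2 : ((res D).quotKerEquivOfSurjective (res_surjective D)).symm (res D φ) = Submodule.Quotient.mk φ := by
      rw [LinearEquiv.symm_apply_eq]; rfl
    simp only [gD, LinearMap.comp_apply, LinearEquiv.coe_coe, h2, Submodule.liftQ_apply]
    rfl
  let bD := Module.finBasis k D
  let y : B ⊗[k] K := ∑ i, (bD i : B) ⊗ₜ[k] gD (bD.coord i)
  have hy : ∀ φ : B →ₗ[k] k, ev φ y = g (toConv φ) := fun φ => by
    rw [← hgD, ← bD.sum_dual_apply_smul_coord (res D (toConv φ)), map_sum, map_sum]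
    refine Finset.sum_congr rfl fun i _ => ?_
    rw [ev_tmul, map_smul]
    rfl
  let bB := Module.Basis.ofVectorSpace k B
  let j₁ := Algebra.TensorProduct.map (Algebra.TensorProduct.includeLeft : B →ₐ[k] B ⊗[k] B) (AlgHom.id k K)
  let j₂ := Algebra.TensorProduct.map (Algebra.TensorProduct.includeRight : B →ₐ[k] B ⊗[k] B) (AlgHom.id k K)
  have hΔ : Algebra.TensorProduct.map (Bialgebra.comulAlgHom k B) (AlgHom.id k K) y = j₁ y * j₂ y := by
    refine eq_of_coord (bB.tensorProduct bB) fun p => ?_
    have hcoord : (bB.tensorProduct bB).coord p =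
        LinearMap.mul' k k ∘ₗ TensorProduct.map (bB.coord p.1) (bB.coord p.2) := TensorProduct.ext' fun x z => by
      rw [Module.Basis.coord_apply, LinearMap.comp_apply, TensorProduct.map_tmul, LinearMap.mul'_apply,
        Module.Basis.coord_apply, Module.Basis.coord_apply]
      exact (Module.Basis.tensorProduct_repr_tmul_apply bB bB x z p.1 p.2).trans (mul_comm _ _)
    rw [hcoord]
    have e1 : ∀ z : B ⊗[k] K, ev (LinearMap.mul' k k ∘ₗ TensorProduct.map (bB.coord p.1) (bB.coord p.2))
        (Algebra.TensorProduct.map (Bialgebra.comulAlgHom k B) (AlgHom.id k K) z) =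
        ev (toConv (bB.coord p.1) * toConv (bB.coord p.2)).ofConv z := fun z => by
      induction z using TensorProduct.induction_on with
      | zero => simp
      | tmul x c => simp [LinearMap.convMul_apply]
      | add x z hx hz => simp only [map_add, hx, hz]
    have e2 : ∀ z z' : B ⊗[k] K, ev (LinearMap.mul' k k ∘ₗ TensorProduct.map (bB.coord p.1) (bB.coord p.2))
        (j₁ z * j₂ z') = ev (bB.coord p.1) z * ev (bB.coord p.2) z' := fun z z' => by
      induction z using TensorProduct.induction_on with
      | zero => simp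
      | add x w hx hw => simp only [map_add, add_mul, hx, hw]
      | tmul x c =>
        induction z' using TensorProduct.induction_on with
        | zero => simp
        | add x w hx hw => simp only [map_add, mul_add, hx, hw]
        | tmul x' c' => simp [j₁, j₂, smul_smul, mul_comm]
    rw [e1, e2, hy, hy, hy, ← map_mul]
  have hε : Algebra.TensorProduct.map (Bialgebra.counitAlgHom k B) (AlgHom.id k K) y = 1 := by
    refine (TensorProduct.lid k K).injective ?_
    have e1 : ∀ z : B ⊗[k] K, TensorProduct.lid k K
        (Algebra.TensorProduct.map (Bialgebra.counitAlgHom k B) (AlgHom.id k K) z) =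
          ev (Coalgebra.counit (R := k)) z := fun z => by
      induction z using TensorProduct.induction_on with
      | zero => simp
      | tmul x c => simp
      | add x z hx hz => simp only [map_add, hx, hz]
    rw [e1, hy, Algebra.TensorProduct.one_def, TensorProduct.lid_tmul, one_smul,
      show toConv (Coalgebra.counit (R := k) (A := B)) = 1 from WithConv.ofConv_injective (LinearMap.ext fun x => rfl),
      map_one]
  have hπy : Algebra.TensorProduct.map (π : B →ₐ[k] C) (AlgHom.id k K) y = algebraMap C (C ⊗[k] K) χ := by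
    refine eq_of_coord (Module.Basis.ofVectorSpace k C) fun i => ?_
    have e1 : ∀ z : B ⊗[k] K, ev ((Module.Basis.ofVectorSpace k C).coord i)
        (Algebra.TensorProduct.map (π : B →ₐ[k] C) (AlgHom.id k K) z) =
          ev (pre πc (toConv ((Module.Basis.ofVectorSpace k C).coord i))).ofConv z := fun z => by
      induction z using TensorProduct.induction_on with
      | zero => simp
      | tmul x c => rw [Algebra.TensorProduct.map_tmul, ev_tmul, ev_tmul]; rfl
      | add x z hx hz => simp only [map_add, hx, hz]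
    rw [e1, hy, show toConv (pre πc (toConv ((Module.Basis.ofVectorSpace k C).coord i))).ofConv =
      pre πc (toConv ((Module.Basis.ofVectorSpace k C).coord i)) from rfl, hgπ,
      Algebra.TensorProduct.algebraMap_apply, Algebra.algebraMap_self, RingHom.id_apply, ev_tmul,
      Algebra.algebraMap_eq_smul_one]
  let bK := Module.finBasis k K
  refine ⟨Module.finrank k K, Module.finrank_pos, Algebra.norm B y, ⟨?_, ?_⟩, ?_⟩
  · have h := norm_map (Bialgebra.counitAlgHom k B) y
    rw [hε, map_one] at h
    exact h.symm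
  · have h := norm_map (Bialgebra.comulAlgHom k B) y
    rw [hΔ, map_mul, norm_map, norm_map] at h
    refine h.symm.trans ?_
    simp
  · have h := norm_map (π : B →ₐ[k] C) y
    rw [hπy, Algebra.norm_algebraMap_of_basis (Algebra.TensorProduct.basis C bK), Fintype.card_fin] at h
    exact h.symm

/-- The character group of a Hopf algebra of finite type over a field is finitely generated. -/
theorem fg_groupLike [Algebra.FiniteType k C] : Group.FG (GroupLike k C) := by
  classical
  haveI : IsNoetherianRing C := Algebra.FiniteType.isNoetherianRing k C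
  let G := GroupLike k C
  obtain ⟨t, ht⟩ := IsNoetherian.noetherian (Ideal.span (Set.range fun g : G => (g : C) - 1))
  have key : ∀ x ∈ t, ∃ T : Finset G, x ∈ Ideal.span ((fun g : G => (g : C) - 1) '' T) := fun x hx => by
    have hx' : x ∈ Ideal.span (Set.range fun g : G => (g : C) - 1) := ht ▸ Submodule.subset_span hx
    obtain ⟨T, hT, hxT⟩ := Submodule.mem_span_finite_of_mem_span hx'
    obtain ⟨T', -, rfl⟩ := Finset.subset_set_image_iff.mp (show (T : Set C) ⊆ (fun g : G => (g : C) - 1) '' Set.univ by
      rw [Set.image_univ]; exact hT)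
    exact ⟨T', by rwa [Finset.coe_image] at hxT⟩
  choose T hT using key
  let S : Finset G := t.attach.biUnion fun x => T x.1 x.2
  let N := Subgroup.closure (S : Set G)
  refine ⟨⟨S, eq_top_iff.mpr fun g _ => ?_⟩⟩
  let val : G →* C := { toFun := GroupLike.val, map_one' := rfl, map_mul' := fun _ _ => rfl }
  let φ₀ : MonoidAlgebra k G →ₐ[k] C := MonoidAlgebra.lift k C G val
  have hφ₀ : ∀ g : G, φ₀ (MonoidAlgebra.single g 1) = (g : C) := fun g => by simp [φ₀, val]
  let φ : MonoidAlgebra k G →ₐc[k] C := BialgHom.ofAlgHom φ₀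
    (by ext g; simp [hφ₀, (show G from g).2.counit_eq_one])
    (by ext g; simp [hφ₀, (show G from g).2.comul_eq_tmul_self])
  have hinj : Function.Injective φ := fun x y h => by
    have e : ∀ z : MonoidAlgebra k G, φ z = Finsupp.linearCombination k (GroupLike.val (R := k) (A := C)) z.coeff :=
      fun z => by
        change φ₀ z = _
        rw [MonoidAlgebra.lift_apply, Finsupp.linearCombination_apply]
        rfl
    rw [e, e] at h
    exact MonoidAlgebra.coeff_injective (linearIndep_groupLikeVal (R := k) (A := C) h)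
  letI := φ₀.toRingHom.toAlgebra
  haveI : Module.FaithfullyFlat (MonoidAlgebra k G) C := GrothLib.Hopf.faithfullyFlat φ (fun _ => rfl) hinj
  let J : Ideal (MonoidAlgebra k G) := Ideal.span ((fun h : G => MonoidAlgebra.single h (1 : k) - 1) '' S)
  have hJ : MonoidAlgebra.single g (1 : k) - 1 ∈ J := by
    rw [← Ideal.comap_map_eq_self_of_faithfullyFlat (B := C) J, Ideal.mem_comap, Ideal.map_span]
    change φ₀ (MonoidAlgebra.single g 1 - 1) ∈ _
    rw [map_sub, map_one, hφ₀]
    have himg : algebraMap (MonoidAlgebra k G) C '' ((fun h : G => MonoidAlgebra.single h (1 : k) - 1) '' S) =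
        (fun h : G => (h : C) - 1) '' S := by
      rw [Set.image_image]
      refine Set.image_congr fun h _ => ?_
      change φ₀ _ = _
      rw [map_sub, map_one, hφ₀]
    rw [himg]
    have hle : Ideal.span (t : Set C) ≤ Ideal.span ((fun h : G => (h : C) - 1) '' S) :=
      Ideal.span_le.mpr fun x hx => Ideal.span_mono (Set.image_mono fun h hh =>
        Finset.mem_biUnion.mpr ⟨⟨x, hx⟩, Finset.mem_attach _ _, hh⟩) (hT x hx)
    refine hle ?_
    change _ ∈ Submodule.span C (t : Set C)
    rw [ht]
    exact Ideal.subset_span ⟨g, rfl⟩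
  let q : MonoidAlgebra k G →ₐ[k] MonoidAlgebra k (G ⧸ N) := MonoidAlgebra.mapDomainAlgHom k k (QuotientGroup.mk' N)
  have hq : ∀ h : G, q (MonoidAlgebra.single h 1 - 1) = MonoidAlgebra.single (QuotientGroup.mk' N h) 1 - 1 := fun h => by
    rw [map_sub, map_one]
    exact congrArg (· - 1) (MonoidAlgebra.mapDomain_single ..)
  have hker : J ≤ RingHom.ker q := by
    refine Ideal.span_le.mpr ?_
    rintro _ ⟨h, hh, rfl⟩
    change q _ = 0
    rw [hq, show QuotientGroup.mk' N h = 1 from (QuotientGroup.eq_one_iff h).mpr (Subgroup.subset_closure hh),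
      MonoidAlgebra.one_def, sub_self]
  have h0 : q (MonoidAlgebra.single g 1 - 1) = 0 := hker hJ
  rw [hq, sub_eq_zero, MonoidAlgebra.one_def] at h0
  exact (QuotientGroup.eq_one_iff g).mp (Finsupp.single_left_injective one_ne_zero (congrArg MonoidAlgebra.coeff h0))

end GrothLib.Hopf.GroupLikeNorm
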