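import Mathlib.RingTheory.Bialgebra.Basic
import Mathlib.RingTheory.MvPolynomial.Homogeneous
import Mathlib.Algebra.MvPolynomial.PDeriv
import Mathlib.LinearAlgebra.Basis.VectorSpace
import Mathlib.LinearAlgebra.FiniteDimensional.Basic
import Mathlib.RingTheory.Ideal.Maps

/-!
Invariant derivations and independence of monomials of small exponents at the identity.
-/

universe u v

open TensorProduct MvPolynomial

namespace GrothLib.Hopf.HeightOne

variable {k : Type u} [CommRing k] {A : Type v} [CommRing A] [Bialgebra k A]

local notation "ε" => Bialgebra.counitAlgHom k A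

/-- An `ε`-derivation. -/
def IsEpsDer (δ : A →ₗ[k] k) : Prop := ∀ a b : A, δ (a * b) = ε a * δ b + ε b * δ a

variable (k) in
/-- The augmentation ideal. -/
noncomputable def aug (A : Type v) [CommRing A] [Bialgebra k A] : Ideal A :=
  RingHom.ker (Bialgebra.counitAlgHom k A)

/-- The invariant derivation attached to an `ε`-derivation. -/
noncomputable def invDer (δ : A →ₗ[k] k) (h : IsEpsDer δ) : Derivation k A A :=
  Derivation.mk' ((TensorProduct.rid k A).toLinearMap ∘ₗ LinearMap.lTensor A δ ∘ₗ Coalgebra.comul) <| by
    intro a b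
    let T : A ⊗[k] A →ₗ[k] A := (TensorProduct.rid k A).toLinearMap ∘ₗ LinearMap.lTensor A δ
    let E : A ⊗[k] A →ₗ[k] A := (TensorProduct.rid k A).toLinearMap ∘ₗ LinearMap.lTensor A Coalgebra.counit
    have key : ∀ s t : A ⊗[k] A, T (s * t) = E s * T t + E t * T s := by
      intro s t
      induction s using TensorProduct.induction_on with
      | zero => simp
      | add x y hx hy => rw [add_mul, map_add, hx, hy, map_add, map_add]; ring
      | tmul p q =>
        induction t using TensorProduct.induction_on with
        | zero => simp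
        | add x y hx hy => rw [mul_add, map_add, hx, hy, map_add, map_add]; ring
        | tmul p' q' =>
          simp only [T, E, Algebra.TensorProduct.tmul_mul_tmul, LinearMap.comp_apply, LinearMap.lTensor_tmul,
            LinearEquiv.coe_coe, TensorProduct.rid_tmul, h q q']
          simp only [Algebra.smul_def, map_add, map_mul, Bialgebra.counitAlgHom_apply]
          ring
    have hE : ∀ a : A, E (Coalgebra.comul a) = a := fun a => by simp [E]
    change T (Coalgebra.comul (a * b)) = a • T (Coalgebra.comul b) + b • T (Coalgebra.comul a)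
    rw [Bialgebra.comul_mul, key, hE, hE]
    rfl

theorem counit_invDer (δ : A →ₗ[k] k) (h : IsEpsDer δ) (a : A) : ε (invDer δ h a) = δ a := by
  have key : ∀ t : A ⊗[k] A, ε (TensorProduct.rid k A (LinearMap.lTensor A δ t)) =
      δ (TensorProduct.lid k A (LinearMap.rTensor A Coalgebra.counit t)) := fun t => by
    induction t using TensorProduct.induction_on with
    | zero => simp
    | tmul p q => simp [mul_comm]
    | add x y hx hy => simp only [map_add, hx, hy]
  refine (key (Coalgebra.comul a)).trans ?_
  simp

theorem derivation_aeval {n : ℕ} (D : Derivation k A A) (x : Fin n → A) (P : MvPolynomial (Fin n) k) :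
    D (aeval x P) = ∑ j, aeval x (pderiv j P) * D (x j) := by
  classical
  induction P using MvPolynomial.induction_on with
  | C a => simp
  | add p q hp hq => simp only [map_add, hp, hq, add_mul, Finset.sum_add_distrib]
  | mul_X p i hp =>
    simp only [map_mul, aeval_X, D.leibniz, hp, Derivation.leibniz, pderiv_X, smul_eq_mul, map_add]
    simp only [add_mul, Finset.sum_add_distrib, Finset.mul_sum, mul_assoc]
    congr 1
    rw [Finset.sum_eq_single i]
    · simp [mul_comm]
    · intro j _ hj; simp [Pi.single_eq_of_ne (Ne.symm hj)]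
    · simp

theorem aeval_mem_aug_pow {n : ℕ} {x : Fin n → A} (hx : ∀ i, x i ∈ aug k A) {P : MvPolynomial (Fin n) k}
    {d : ℕ} (hP : ∀ e ∈ P.support, d ≤ e.degree) : aeval x P ∈ aug k A ^ d := by
  rw [P.as_sum, map_sum]
  refine Ideal.sum_mem _ fun e he => ?_
  rw [aeval_monomial]
  refine Ideal.mul_mem_left _ _ (Ideal.pow_le_pow_right (hP e he) ?_)
  rw [Finsupp.degree_apply, ← Finset.prod_pow_eq_pow_sum, Finsupp.prod]
  exact Ideal.prod_mem_prod fun i _ => Ideal.pow_mem_pow (hx i) _

theorem invDer_mem_pow (δ : A →ₗ[k] k) (h : IsEpsDer δ) (d : ℕ) :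
    ∀ a ∈ aug k A ^ (d + 1), invDer δ h a ∈ aug k A ^ d := by
  induction d with
  | zero => intro a _; rw [pow_zero, Ideal.one_eq_top]; trivial
  | succ d ih =>
    intro a ha
    rw [pow_succ] at ha
    induction ha using Submodule.mul_induction_on' with
    | mem_mul_mem p hp q hq =>
      rw [Derivation.leibniz, smul_eq_mul, smul_eq_mul]
      refine add_mem (Ideal.mul_mem_right _ _ hp) ?_
      rw [pow_succ, mul_comm q]
      exact Ideal.mul_mem_mul (ih p hp) hq
    | add p _ q _ hp hq => rw [map_add]; exact add_mem hp hq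

theorem eq_zero_of_homogeneous [IsDomain k] {n p : ℕ} (hp : ∀ m, 0 < m → m < p → (m : k) ≠ 0) (δ : Fin n → (A →ₗ[k] k))
    (hδ : ∀ i, IsEpsDer (δ i)) {x : Fin n → A} (hx : ∀ i, x i ∈ aug k A)
    (hdual : ∀ i j, δ i (x j) = if i = j then 1 else 0) (d : ℕ) :
    ∀ Q : MvPolynomial (Fin n) k, (∀ e ∈ Q.support, e.degree = d ∧ ∀ i, e i < p) →
      aeval x Q ∈ aug k A ^ (d + 1) → Q = 0 := by
  classical
  induction d with
  | zero =>
    intro Q hQ hmem
    have hC : Q = C (coeff 0 Q) := by
      ext e
      rw [coeff_C]
      split_ifs with he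
      · rw [he]
      · by_contra hne
        exact he ((Finsupp.degree_eq_zero_iff e).mp (hQ e (mem_support_iff.mpr hne)).1).symm
    rw [hC] at hmem ⊢
    rw [aeval_C, zero_add, pow_one, aug, RingHom.mem_ker, AlgHom.commutes] at hmem
    simp only [Algebra.algebraMap_self, RingHom.id_apply] at hmem
    rw [hmem, map_zero]
  | succ d ih =>
    intro Q hQ hmem
    have hpd : ∀ i, pderiv i Q = 0 := by
      intro i
      have hdeg : ∀ j, ∀ e ∈ (pderiv j Q).support, e.degree = d ∧ ∀ l, e l < p := by
        intro j e he
        rw [mem_support_iff, coeff_pderiv] at he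
        have hmemQ : e + Finsupp.single j 1 ∈ Q.support := mem_support_iff.mpr fun h0 => he (by rw [h0, zero_mul])
        obtain ⟨h1, h2⟩ := hQ _ hmemQ
        refine ⟨by simpa [Finsupp.degree_single] using h1, fun l => lt_of_le_of_lt ?_ (h2 l)⟩
        simp
      refine ih _ (hdeg i) ?_
      have h1 := invDer_mem_pow (δ i) (hδ i) (d + 1) _ hmem
      rw [derivation_aeval] at h1
      have h2 : ∀ j, aeval x (pderiv j Q) * (invDer (δ i) (hδ i) (x j) - algebraMap k A (δ i (x j))) ∈
          aug k A ^ (d + 1) := fun j => by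
        rw [pow_succ]
        refine Ideal.mul_mem_mul (aeval_mem_aug_pow hx fun e he => (hdeg j e he).1.ge) ?_
        rw [aug, RingHom.mem_ker, map_sub, counit_invDer, AlgHom.commutes]
        simp
      have h3 := sub_mem h1 (Ideal.sum_mem _ fun j (_ : j ∈ Finset.univ) => h2 j)
      rw [← Finset.sum_sub_distrib] at h3
      simp only [mul_sub, sub_sub_cancel, hdual, apply_ite (algebraMap k A), map_one, map_zero, mul_ite,
        mul_one, mul_zero, Finset.sum_ite_eq, Finset.mem_univ, if_true] at h3
      exact h3
    ext e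
    rw [coeff_zero]
    by_contra hne
    obtain ⟨h1, h2⟩ := hQ e (mem_support_iff.mpr hne)
    obtain ⟨i, hi⟩ : ∃ i, e i ≠ 0 := by
      by_contra! hall
      rw [show e = 0 from Finsupp.ext hall, map_zero] at h1
      exact absurd h1.symm (Nat.succ_ne_zero d)
    have := congrArg (coeff (e - Finsupp.single i 1)) (hpd i)
    rw [coeff_pderiv, coeff_zero] at this
    have he : e - Finsupp.single i 1 + Finsupp.single i 1 = e :=
      tsub_add_cancel_of_le (Finsupp.single_le_iff.mpr (Nat.one_le_iff_ne_zero.mpr hi))
    rw [he] at this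
    rcases mul_eq_zero.mp this with h0 | h0
    · exact hne h0
    · refine hp (e i) (Nat.pos_of_ne_zero hi) (h2 i) ?_
      rw [← h0]
      simp only [Finsupp.coe_tsub, Pi.sub_apply, Finsupp.single_eq_same]
      rw [Nat.cast_sub (Nat.one_le_iff_ne_zero.mpr hi), Nat.cast_one, sub_add_cancel]

theorem eq_zero_of_aeval_eq_zero [IsDomain k] {n p : ℕ} (hp : ∀ m, 0 < m → m < p → (m : k) ≠ 0) (δ : Fin n → (A →ₗ[k] k))
    (hδ : ∀ i, IsEpsDer (δ i)) {x : Fin n → A} (hx : ∀ i, x i ∈ aug k A)
    (hdual : ∀ i j, δ i (x j) = if i = j then 1 else 0) {P : MvPolynomial (Fin n) k}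
    (hP : ∀ e ∈ P.support, ∀ i, e i < p) (h0 : aeval x P = 0) : P = 0 := by
  classical
  suffices ∀ d, homogeneousComponent d P = 0 by
    rw [← sum_homogeneousComponent P]
    exact Finset.sum_eq_zero fun d _ => this d
  intro d
  induction d using Nat.strong_induction_on with
  | _ d ih =>
    refine eq_zero_of_homogeneous hp δ hδ hx hdual d _ (fun e he => ?_) ?_
    · rw [mem_support_iff, coeff_homogeneousComponent] at he
      split_ifs at he with h
      · exact ⟨h, hP e (mem_support_iff.mpr he)⟩
      · exact absurd rfl he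
    · have h2 : aeval x (P - homogeneousComponent d P) ∈ aug k A ^ (d + 1) := by
        refine aeval_mem_aug_pow hx fun e he => ?_
        rw [mem_support_iff, coeff_sub, coeff_homogeneousComponent] at he
        by_contra hlt
        rw [not_le, Nat.lt_succ_iff] at hlt
        rcases hlt.lt_or_eq with hlt | heq
        · rw [if_neg hlt.ne, sub_zero] at he
          have := congrArg (coeff e) (ih _ hlt)
          rw [coeff_homogeneousComponent, if_pos rfl, coeff_zero] at this
          exact he this
        · rw [if_pos heq, sub_self] at he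
          exact he rfl
      rw [map_sub, h0, zero_sub] at h2
      exact neg_mem_iff.mp h2

end GrothLib.Hopf.HeightOne
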