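import Groth.Agent.Lib.Hopf.Translate
import Mathlib.RingTheory.Kaehler.Basic
import Mathlib.Algebra.TrivSqZeroExt.Basic
import Mathlib.RingTheory.TensorProduct.Free
import Mathlib.LinearAlgebra.Dimension.Free
import Mathlib.LinearAlgebra.TensorProduct.Tower

/-!
The differentials of a commutative Hopf algebra are free over it (over a field).
-/

universe u v

open TensorProduct WithConv

namespace GrothLib.Hopf.Kaehler

variable (K : Type u) [Field K] (B : Type v) [CommRing B] [HopfAlgebra K B]

/-- Constants plus the square of the augmentation ideal. -/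
noncomputable def cst : Submodule K B :=
  Submodule.span K {1} ⊔ ((RingHom.ker (Bialgebra.counitAlgHom K B)) ^ 2).restrictScalars K

/-- The cotangent space at the unit. -/
abbrev V : Type v := B ⧸ cst K B

theorem mk_mul (x y : B) :
    Submodule.Quotient.mk (p := cst K B) (x * y) =
      Bialgebra.counitAlgHom K B x • Submodule.Quotient.mk y +
        Bialgebra.counitAlgHom K B y • (Submodule.Quotient.mk x : V K B) := by
  rw [← Submodule.Quotient.mk_smul, ← Submodule.Quotient.mk_smul, ← Submodule.Quotient.mk_add,
    Submodule.Quotient.eq, cst, Submodule.mem_sup]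
  set a := Bialgebra.counitAlgHom K B x
  set b := Bialgebra.counitAlgHom K B y
  refine ⟨-((a * b) • (1 : B)), neg_mem (Submodule.smul_mem _ _ (Submodule.subset_span rfl)),
    (x - algebraMap K B a) * (y - algebraMap K B b), ?_, ?_⟩
  · rw [Submodule.restrictScalars_mem, pow_two]
    exact Ideal.mul_mem_mul (by rw [RingHom.mem_ker, map_sub, AlgHom.commutes]; exact sub_self _)
      (by rw [RingHom.mem_ker, map_sub, AlgHom.commutes]; exact sub_self _)
  · rw [Algebra.smul_def, Algebra.smul_def, Algebra.smul_def, map_mul]
    ring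

/-- `b ↦ Σ b₁ ⊗ [b₂]`, on the tensor square. -/
noncomputable def Dl : B ⊗[K] B →ₗ[K] B ⊗[K] V K B := LinearMap.lTensor B (cst K B).mkQ

/-- `x ⊗ y ↦ x ε(y)`. -/
noncomputable def ρ : B ⊗[K] B →ₐ[K] B :=
  Algebra.TensorProduct.lift (AlgHom.id K B) ((Algebra.ofId K B).comp (Bialgebra.counitAlgHom K B))
    fun _ _ => Commute.all _ _

theorem ρ_comul (b : B) : ρ K B (Bialgebra.comulAlgHom K B b) = b := by
  have h : ∀ t : B ⊗[K] B, ρ K B t =
      TensorProduct.rid K B (LinearMap.lTensor B (Coalgebra.counit (R := K)) t) := fun t => by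
    induction t using TensorProduct.induction_on with
    | zero => simp
    | tmul x y => simp [ρ, Algebra.ofId_apply, Algebra.smul_def, mul_comm]
    | add x y hx hy => simp only [map_add, hx, hy]
  rw [h]
  change TensorProduct.rid K B (LinearMap.lTensor B Coalgebra.counit (Coalgebra.comul b)) = b
  rw [Coalgebra.lTensor_counit_comul]
  simp

theorem Dl_mul (s t : B ⊗[K] B) : Dl K B (s * t) = ρ K B s • Dl K B t + ρ K B t • Dl K B s := by
  induction s using TensorProduct.induction_on with
  | zero => simp
  | add a b ha hb => rw [add_mul, map_add, ha, hb, map_add, map_add, add_smul, smul_add]; abel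
  | tmul x y =>
    induction t using TensorProduct.induction_on with
    | zero => simp
    | add a b ha hb => rw [mul_add, map_add, ha, hb, map_add, map_add, add_smul, smul_add]; abel
    | tmul z w =>
      simp only [Dl, ρ, Algebra.TensorProduct.tmul_mul_tmul, LinearMap.lTensor_tmul, Submodule.mkQ_apply,
        mk_mul, tmul_add, tmul_smul, Algebra.TensorProduct.lift_tmul, AlgHom.id_apply, AlgHom.comp_apply,
        Algebra.ofId_apply, TensorProduct.smul_tmul', smul_eq_mul, Algebra.smul_def]
      congr 2 <;> ring

/-- The invariant derivation. -/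
noncomputable def D : Derivation K B (B ⊗[K] V K B) :=
  Derivation.mk' ((Dl K B).comp (Bialgebra.comulAlgHom K B).toLinearMap) fun x y => by
    simp only [LinearMap.comp_apply, AlgHom.toLinearMap_apply, map_mul, Dl_mul, ρ_comul]

variable {K B}

section Ext

variable {M : Type v} [AddCommGroup M] [Module B M] [Module K M] [IsScalarTower K B M]
  [Module Bᵐᵒᵖ M] [IsCentralScalar B M]

/-- The algebra map attached to a derivation. -/
noncomputable def homOfDer (d : Derivation K B M) : B →ₐ[K] TrivSqZeroExt B M :=
  AlgHom.ofLinearMap ((TrivSqZeroExt.inlAlgHom K B M).toLinearMap + (TrivSqZeroExt.inrHom B M).restrictScalars K ∘ₗ d.toLinearMap)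
    (by apply TrivSqZeroExt.ext <;> simp)
    fun x y => by apply TrivSqZeroExt.ext <;> simp

theorem fst_homOfDer (d : Derivation K B M) (x : B) : (homOfDer d x).fst = x := by simp [homOfDer]

theorem snd_homOfDer (d : Derivation K B M) (x : B) : (homOfDer d x).snd = d x := by simp [homOfDer]

/-- The translate to the unit of `homOfDer`. -/
noncomputable def unitHom (d : Derivation K B M) : WithConv (B →ₐ[K] TrivSqZeroExt B M) :=
  pinv (toConv (TrivSqZeroExt.inlAlgHom K B M)) * toConv (homOfDer d)

theorem fst_unitHom (d : Derivation K B M) (x : B) :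
    ((unitHom d).ofConv x).fst = algebraMap K B (Bialgebra.counitAlgHom K B x) := by
  have hfst : ∀ a : TrivSqZeroExt B M, TrivSqZeroExt.fstHom K B M a = a.fst := fun _ => rfl
  have h : toConv ((TrivSqZeroExt.fstHom K B M).comp (unitHom d).ofConv) = 1 := by
    rw [unitHom, comp_convMul]
    have h1 : (TrivSqZeroExt.fstHom K B M).comp (homOfDer d) = AlgHom.id K B :=
      AlgHom.ext fun x => (hfst _).trans (fst_homOfDer d x)
    have h2 : (TrivSqZeroExt.fstHom K B M).comp (TrivSqZeroExt.inlAlgHom K B M) = AlgHom.id K B :=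
      AlgHom.ext fun x => rfl
    rw [ofConv_toConv, h1]
    change toConv (((TrivSqZeroExt.fstHom K B M).comp ((TrivSqZeroExt.inlAlgHom K B M).comp
      (HopfAlgebra.antipodeAlgHom K B)))) * toConv (AlgHom.id K B) = 1
    rw [← AlgHom.comp_assoc, h2]
    exact comp_antipode_mul (AlgHom.id K B)
  exact DFunLike.congr_fun (congrArg ofConv h) x

/-- The cotangent value of a derivation. -/
noncomputable def δ (d : Derivation K B M) : B →ₗ[K] M :=
  ((TrivSqZeroExt.sndHom B M).restrictScalars K).comp (unitHom d).ofConv.toLinearMap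

theorem δ_mul (d : Derivation K B M) (x y : B) :
    δ d (x * y) = Bialgebra.counitAlgHom K B x • δ d y + Bialgebra.counitAlgHom K B y • δ d x := by
  simp [δ, map_mul, TrivSqZeroExt.snd_mul, fst_unitHom, algebraMap_smul]

theorem cst_le_ker (d : Derivation K B M) : cst K B ≤ LinearMap.ker (δ d) := by
  refine sup_le ?_ ?_
  · rw [Submodule.span_le, Set.singleton_subset_iff, SetLike.mem_coe, LinearMap.mem_ker]
    simp [δ]
  · intro z hz
    rw [Submodule.restrictScalars_mem, pow_two] at hz
    induction hz using Submodule.mul_induction_on' with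
    | mem_mul_mem x hx y hy =>
      rw [LinearMap.mem_ker, δ_mul, RingHom.mem_ker.mp hx, RingHom.mem_ker.mp hy, zero_smul, zero_smul,
        add_zero]
    | add a _ b _ ha hb => exact add_mem ha hb

theorem snd_mul_unitHom (e : WithConv (B →ₐ[K] TrivSqZeroExt B M)) (δ' : B →ₗ[K] M)
    (h1 : ∀ x, (e.ofConv x).snd = δ' x) (x : B) :
    ((toConv (TrivSqZeroExt.inlAlgHom K B M) * e).ofConv x).snd =
      TensorProduct.lift ((LinearMap.lsmul B M).restrictScalars₁₂ K K |>.compl₂ δ')
        (Coalgebra.comul x) := by
  have : ∀ t : B ⊗[K] B,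
      ((Algebra.TensorProduct.lift (TrivSqZeroExt.inlAlgHom K B M) e.ofConv fun _ _ => Commute.all _ _) t).snd =
        TensorProduct.lift ((LinearMap.lsmul B M).restrictScalars₁₂ K K |>.compl₂ δ') t := fun t => by
    induction t using TensorProduct.induction_on with
    | zero => simp
    | tmul a b => simp [h1]
    | add a b ha hb => simp only [map_add, TrivSqZeroExt.snd_add, ha, hb]
  refine Eq.trans ?_ (this (Coalgebra.comul x))
  rw [AlgHom.convMul_apply]

end Ext

variable (K B)

open scoped TensorProduct in
/-- `Ω_{B/K} ≅ B ⊗ V`. -/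
theorem exists_linearEquiv : Nonempty ((Ω[B⁄K]) ≃ₗ[B] B ⊗[K] V K B) := by
  let _ : Module Bᵐᵒᵖ (Ω[B⁄K]) := Module.compHom _ ((RingHom.id B).fromOpposite mul_comm)
  have : IsCentralScalar B (Ω[B⁄K]) := ⟨fun _ _ => rfl⟩
  have : IsCentralScalar B (B ⊗[K] V K B) := ⟨fun a x => by
    induction x using TensorProduct.induction_on with
    | zero => simp
    | tmul b v => simp [TensorProduct.smul_tmul', mul_comm]
    | add p q hp hq => simp only [smul_add, hp, hq]⟩
  let F : (Ω[B⁄K]) →ₗ[B] B ⊗[K] V K B := (D K B).liftKaehlerDifferential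
  let d := KaehlerDifferential.D K B
  let δ₀ : V K B →ₗ[K] (Ω[B⁄K]) := (cst K B).liftQ (δ d) (cst_le_ker d)
  let G : B ⊗[K] V K B →ₗ[B] (Ω[B⁄K]) := LinearMap.liftBaseChange B δ₀
  have hfac : ∀ {M : Type v} [AddCommGroup M] [Module B M] [Module K M] [IsScalarTower K B M]
      [Module Bᵐᵒᵖ M] [IsCentralScalar B M] (d' : Derivation K B M),
      toConv (TrivSqZeroExt.inlAlgHom K B M) * unitHom d' = toConv (homOfDer d') := fun d' => by
    rw [unitHom, ← _root_.mul_assoc, mul_pinv, _root_.one_mul]
  have hGF : G ∘ₗ F = LinearMap.id := by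
    refine Derivation.liftKaehlerDifferential_unique _ _ (Derivation.ext fun b => ?_)
    change G (F (d b)) = d b
    rw [Derivation.liftKaehlerDifferential_comp_D]
    have h1 := snd_mul_unitHom (unitHom d) (δ d) (fun _ => rfl) b
    rw [hfac d, ofConv_toConv, snd_homOfDer] at h1
    rw [h1]
    change G (Dl K B (Coalgebra.comul b)) = _
    generalize Coalgebra.comul (R := K) b = t
    induction t using TensorProduct.induction_on with
    | zero => simp
    | tmul x y => simp [G, δ₀, Dl]
    | add x y hx hy => simp only [map_add, hx, hy]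
  have hFG : F ∘ₗ G = LinearMap.id := by
    let e : WithConv (B →ₐ[K] TrivSqZeroExt B (B ⊗[K] V K B)) := toConv
      (AlgHom.ofLinearMap (((TrivSqZeroExt.inlAlgHom K B _).toLinearMap.comp
        ((Algebra.ofId K B).comp (Bialgebra.counitAlgHom K B)).toLinearMap) +
          (TrivSqZeroExt.inrHom B _).restrictScalars K ∘ₗ (TensorProduct.mk K B (V K B) 1 ∘ₗ (cst K B).mkQ))
        (by
          apply TrivSqZeroExt.ext
          · simp
          · have : Submodule.Quotient.mk (p := cst K B) 1 = 0 :=
              (Submodule.Quotient.mk_eq_zero _).mpr (Submodule.mem_sup_left (Submodule.subset_span rfl))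
            simp [this])
        fun x y => by
          apply TrivSqZeroExt.ext
          · simp [map_mul]
          · simp [mk_mul, tmul_add, tmul_smul, algebraMap_smul, TrivSqZeroExt.algebraMap_eq_inl'])
    have he : e = unitHom (D K B) := by
      suffices key : toConv (TrivSqZeroExt.inlAlgHom K B (B ⊗[K] V K B)) * e = toConv (homOfDer (D K B)) by
        rw [unitHom, ← key, ← _root_.mul_assoc, pinv_mul, _root_.one_mul]
      refine (toConv_ofConv _).symm.trans (congrArg toConv (AlgHom.ext fun x => TrivSqZeroExt.ext ?_ ?_))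
      · rw [fst_homOfDer]
        have h := ρ_comul K B x
        rw [AlgHom.convMul_apply]
        conv_rhs => rw [← h]
        change _ = ρ K B (Coalgebra.comul x)
        generalize Coalgebra.comul (R := K) x = t
        induction t using TensorProduct.induction_on with
        | zero => simp
        | tmul a b => simp [e, ρ, TrivSqZeroExt.algebraMap_eq_inl', Algebra.ofId_apply]
        | add a b ha hb => simp only [map_add, TrivSqZeroExt.fst_add, ha, hb]
      · rw [snd_homOfDer, snd_mul_unitHom e (TensorProduct.mk K B (V K B) 1 ∘ₗ (cst K B).mkQ)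
          (fun a => by simp [e, TrivSqZeroExt.algebraMap_eq_inl']) x]
        change _ = Dl K B (Coalgebra.comul x)
        generalize Coalgebra.comul (R := K) x = t
        induction t using TensorProduct.induction_on with
        | zero => simp
        | tmul a b => simp [Dl, smul_tmul']
        | add a b ha hb => simp only [map_add, ha, hb]
    have hpush : (toConv ((TrivSqZeroExt.map F).restrictScalars K |>.comp (unitHom d).ofConv)) = unitHom (D K B) := by
      rw [unitHom, comp_convMul, unitHom]
      congr 1
      · refine congrArg toConv (AlgHom.ext fun x => ?_)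
        simp [pinv]
      · refine congrArg toConv (AlgHom.ext fun x => TrivSqZeroExt.ext ?_ ?_)
        · simp [fst_homOfDer]
        · simp [snd_homOfDer, F, d]
    ext v
    change F (G ((1 : B) ⊗ₜ[K] (Submodule.Quotient.mk v))) = (1 : B) ⊗ₜ[K] Submodule.Quotient.mk v
    simp only [G, LinearMap.liftBaseChange_tmul, one_smul]
    change F (δ d v) = _
    have h2 := congrArg (fun f => TrivSqZeroExt.snd (f.ofConv v)) (hpush.trans he.symm)
    simpa [δ, e, TrivSqZeroExt.algebraMap_eq_inl'] using h2
  exact ⟨LinearEquiv.ofLinearMap F G hFG hGF⟩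

theorem free : Module.Free B (Ω[B⁄K]) :=
  Module.Free.of_equiv (exists_linearEquiv K B).some.symm

end GrothLib.Hopf.Kaehler
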