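import Groth.Agent.Lib.Hopf.OrderPrimeComm
import Groth.Agent.Lib.Dual.ConstGrp
import Groth.Prelude.Def_AlphaP
import Mathlib.FieldTheory.IsAlgClosed.Basic
import Mathlib.RingTheory.Artinian.Ring
import Mathlib.RingTheory.Jacobson.Ideal
import Mathlib.RingTheory.Nakayama
import Mathlib.RingTheory.HopfAlgebra.Convolution
import Mathlib.Data.ZMod.Basic

/-!
Group schemes of prime order over an algebraically closed field: there are only the constant one, and
in characteristic equal to the order also `μ_p` and `α_p`.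
-/

universe u v

set_option linter.style.haveILetI false

open TensorProduct WithConv

namespace GrothLib.Hopf.OrderPrime

open GrothLib.Hopf GrothLib.Hopf.HeightOne

variable {k : Type u} [Field k] [IsAlgClosed k] {A : Type v} [CommRing A] [HopfAlgebra k A]
  [Module.Finite k A] {ℓ : ℕ} [Fact ℓ.Prime]

/-- either `ℓ` points or one point, and then the augmentation ideal is nil of exponent `ℓ = char k` -/
theorem points_dichotomy (hA : Module.finrank k A = ℓ) :
    Nat.card (A →ₐ[k] k) = ℓ ∨ ((∀ a, Bialgebra.counitAlgHom k A a = 0 → a ^ ℓ = 0) ∧ CharP k ℓ) := by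
  let k' := ULift.{v} k
  let e : k' ≃ₐ[k] k := ULift.algEquiv
  haveI : IsAlgClosed k' := IsAlgClosed.of_exists_root k' fun P _ hirr => by
    have hdeg : (P.map e.toRingEquiv.toRingHom).degree ≠ 0 := by
      rw [Polynomial.degree_map_eq_of_injective e.injective]
      exact (Polynomial.degree_pos_of_irreducible hirr).ne'
    obtain ⟨r, hr⟩ := IsAlgClosed.exists_root _ hdeg
    obtain ⟨r, rfl⟩ := e.surjective r
    refine ⟨r, e.injective ?_⟩
    rw [map_zero]
    rw [Polynomial.IsRoot, Polynomial.eval_map] at hr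
    exact (Polynomial.eval₂_at_apply e.toRingEquiv.toRingHom r).symm.trans hr
  let j : A →ₐ[k] k' ⊗[k] A := Algebra.TensorProduct.includeRight
  have hd : Module.finrank k' (k' ⊗[k] A) = ℓ := Module.finrank_baseChange.trans hA
  have hdvd : Nat.card (k' ⊗[k] A →ₐ[k'] k') ∣ ℓ :=
    (card_points_dvd (K := k') (A := k' ⊗[k] A)).trans (dvd_of_eq hd)
  let E : (k' ⊗[k] A →ₐ[k'] k') ≃ (A →ₐ[k] k) :=
    { toFun := fun f => e.toAlgHom.comp ((f.restrictScalars k).comp j)
      invFun := fun g => Algebra.TensorProduct.lift (Algebra.ofId k' k') (e.symm.toAlgHom.comp g)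
        fun _ _ => Commute.all _ _
      left_inv := fun f => Algebra.TensorProduct.ext (by ext) (AlgHom.ext fun a => by simp [j])
      right_inv := fun g => AlgHom.ext fun a => by simp [j] }
  rw [Nat.card_congr E] at hdvd
  rcases (Fact.out : ℓ.Prime).eq_one_or_self_of_dvd _ hdvd with h | h
  · refine Or.inr ?_
    have hsub : Subsingleton (A →ₐ[k] k) := (Nat.card_eq_one_iff_unique.1 h).1
    haveI := E.subsingleton
    have hnil : ∀ a ∈ aug k' (k' ⊗[k] A), IsNilpotent a := fun a ha =>
      isNilpotent_of_forall_point (K := k') fun g => by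
        rw [Subsingleton.elim g (Bialgebra.counitAlgHom k' (k' ⊗[k] A))]
        exact ha
    obtain ⟨hq, hpw, -, -⟩ := exists_connected_generator hd hnil
    refine ⟨fun a ha => Algebra.TensorProduct.includeRight_injective (A := k') (algebraMap k k').injective ?_,
      charP_of_injective_ringHom (f := e.toRingEquiv.toRingHom) e.injective ℓ⟩
    rw [map_pow, map_zero]
    refine hpw _ ?_
    change Bialgebra.counitAlgHom k' (k' ⊗[k] A) ((1 : k') ⊗ₜ[k] a) = 0
    have h0 : Coalgebra.counit (R := k) a = 0 := ha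
    simp [h0]
  · exact Or.inl h

/-- with `ℓ` points the group is constant -/
theorem nonempty_constGrp (hA : Module.finrank k A = ℓ) (hc : Nat.card (A →ₐ[k] k) = ℓ) :
    Nonempty (A ≃ₐc[k] ConstGrp.F k (Multiplicative (ZMod ℓ))) := by
  have hp := (Fact.out : ℓ.Prime)
  have hcard : Nat.card (WithConv (A →ₐ[k] k)) = ℓ := by
    rw [Nat.card_congr (⟨ofConv, toConv, fun _ => rfl, fun _ => rfl⟩ :
      WithConv (A →ₐ[k] k) ≃ (A →ₐ[k] k)), hc]
  haveI : Finite (A →ₐ[k] k) := Nat.finite_of_card_ne_zero (hc ▸ hp.ne_zero)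
  haveI : Finite (WithConv (A →ₐ[k] k)) := Finite.of_injective ofConv ofConv_injective
  haveI : Nontrivial (WithConv (A →ₐ[k] k)) := Finite.one_lt_card_iff_nontrivial.1 (hcard ▸ hp.one_lt)
  obtain ⟨g, hg⟩ := exists_ne (1 : WithConv (A →ₐ[k] k))
  have hli0 : LinearIndependent k (fun f : A →ₐ[k] k => f.toLinearMap) := linearIndependent_algHom_toLinearMap k A k
  letI : Group (WithConv (A →ₐ[k] k)) :=
    { (inferInstance : Monoid (WithConv (A →ₐ[k] k))) with
      inv := fun f => toConv (f.ofConv.comp (HopfAlgebra.antipodeAlgHom k A))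
      inv_mul_cancel := fun f => by
        refine WithConv.ext (AlgHom.ext fun a => (AlgHom.convMul_apply _ f a).trans ?_)
        change _ = algebraMap k k (Coalgebra.counit (R := k) a)
        rw [Algebra.algebraMap_self, RingHom.id_apply]
        have h := congrArg f.ofConv (HopfAlgebra.mul_antipode_rTensor_comul_apply (R := k) a)
        rw [AlgHom.commutes, Algebra.algebraMap_self, RingHom.id_apply] at h
        refine Eq.trans ?_ h
        induction Coalgebra.comul (R := k) a using TensorProduct.induction_on with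
        | zero => simp
        | tmul x y => simp
        | add x y hx hy => simp only [map_add, hx, hy] }
  have hord : orderOf g = ℓ := by
    have := orderOf_dvd_natCard g
    rw [hcard] at this
    exact (hp.eq_one_or_self_of_dvd _ this).resolve_left (fun h => hg (orderOf_eq_one_iff.1 h))
  let pt : Multiplicative (ZMod ℓ) → A →ₐ[k] k := fun m => (g ^ (Multiplicative.toAdd m).val).ofConv
  have hinj : Function.Injective pt := fun i j hij =>
    Multiplicative.toAdd.injective (ZMod.val_injective ℓ (pow_injOn_Iio_orderOf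
      (by simp [hord, ZMod.val_lt]) (by simp [hord, ZMod.val_lt]) (ofConv_injective hij)))
  let Φ : A →ₐ[k] ConstGrp.F k (Multiplicative (ZMod ℓ)) :=
    { toFun := fun a => fun m => pt m a
      map_one' := funext fun m => map_one (pt m)
      map_mul' := fun a b => funext fun m => map_mul (pt m) a b
      map_zero' := funext fun m => map_zero (pt m)
      map_add' := fun a b => funext fun m => map_add (pt m) a b
      commutes' := fun r => funext fun m => (pt m).commutes r }
  have hsp := (hli0.comp pt hinj).span_eq_top_of_card_eq_finrank' (by simp [hA])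
  have hΦi : Function.Injective Φ := by
    rw [injective_iff_map_eq_zero]
    intro a ha
    refine (Module.forall_dual_apply_eq_zero_iff k a).1 fun φ => ?_
    have : φ ∈ LinearMap.ker (Module.Dual.eval k A a) := by
      refine (hsp ▸ Submodule.span_le.2 ?_ : (⊤ : Submodule k (Module.Dual k A)) ≤ _) Submodule.mem_top
      rintro _ ⟨m, rfl⟩
      exact congrFun ha m
    exact this
  have hfr : Module.finrank k A = Module.finrank k (ConstGrp.F k (Multiplicative (ZMod ℓ))) := by
    rw [Module.finrank_eq_card_basis (ConstGrp.basis k (Multiplicative (ZMod ℓ))), hA]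
    simp
  have hΦb : Function.Bijective Φ := ⟨hΦi,
    (LinearMap.injective_iff_surjective_of_finrank_eq_finrank (f := Φ.toLinearMap) hfr).1 hΦi⟩
  refine ⟨BialgEquiv.ofAlgEquiv (AlgEquiv.ofBijective Φ hΦb) (AlgHom.ext fun a => ?_) (AlgHom.ext fun a => ?_)⟩
  · change pt 1 a = _
    simp [pt]
  · change Algebra.TensorProduct.map Φ Φ (Coalgebra.comul (R := k) a) = Coalgebra.comul (R := k) (Φ a)
    rw [GrothLib.Dual.eq_sum_pair k (Multiplicative (ZMod ℓ)) (Algebra.TensorProduct.map Φ Φ _),
      GrothLib.Dual.eq_sum_pair k (Multiplicative (ZMod ℓ)) (Coalgebra.comul (R := k) (Φ a))]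
    refine Finset.sum_congr rfl fun x _ => Finset.sum_congr rfl fun y _ => congrArg (· • _) ?_
    rw [ConstGrp.pair_comul]
    change _ = pt (x * y) a
    have hmul : pt (x * y) = (toConv (pt x) * toConv (pt y)).ofConv := by
      simp only [pt, toAdd_mul, toConv_ofConv, ← pow_add]
      conv_rhs => rw [← pow_mod_orderOf g, hord]
      rw [ZMod.val_add]
    rw [hmul]
    refine Eq.trans ?_ (AlgHom.convMul_apply _ _ a).symm
    induction Coalgebra.comul (R := k) a using TensorProduct.induction_on with
    | zero => simp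
    | tmul s t => simp [Φ]
    | add s t hs ht => simp only [map_add, ConstGrp.add_apply, hs, ht]

variable [Coalgebra.IsCocomm k A]

omit [IsAlgClosed k] [Fact ℓ.Prime] in
theorem exists_primitive_ne_zero (hE : 1 < Module.finrank k A)
    (hnilD : ∀ φ : CartDual.D k A, φ 1 = 0 → IsNilpotent φ) :
    ∃ x : A, x ≠ 0 ∧ Coalgebra.comul x = x ⊗ₜ[k] (1 : A) + (1 : A) ⊗ₜ[k] x := by
  let D := CartDual.D k A
  haveI : IsNoetherianRing D := isNoetherian_of_tower k (inferInstance : IsNoetherian k D)
  let εD : D →ₐ[k] k := Bialgebra.counitAlgHom k D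
  let m := RingHom.ker εD
  let U : Submodule k D := Submodule.span k {(1 : D)} ⊔ (m * m).restrictScalars k
  have hU : U ≠ ⊤ := fun htop => by
    have hle : m ≤ m * m := fun φ hφ => by
      obtain ⟨a, ha, b, hb, hab⟩ := Submodule.mem_sup.1 (htop ▸ Submodule.mem_top : φ ∈ U)
      obtain ⟨c, rfl⟩ := Submodule.mem_span_singleton.1 ha
      have hc : c = 0 := by
        have h0 : εD φ = 0 := hφ
        have hb' : εD b = 0 := Ideal.mul_le_left (I := m) hb
        rw [← hab, map_add, map_smul, map_one, hb', add_zero, smul_eq_mul, mul_one] at h0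
        exact h0
      rw [← hab, hc, zero_smul, zero_add]
      exact hb
    have hjac : m ≤ (⊥ : Ideal D).jacobson := fun φ hφ =>
      Ideal.radical_le_jacobson (Ideal.mem_radical_iff.2 (by simpa [IsNilpotent] using hnilD φ hφ))
    have hbot : m = ⊥ := Submodule.eq_bot_of_le_smul_of_le_jacobson_bot m m (IsNoetherian.noetherian m) hle hjac
    have hinj : Function.Injective εD := (RingHom.injective_iff_ker_eq_bot _).2 hbot
    have h1 := LinearMap.finrank_le_finrank_of_injective (f := εD.toLinearMap) hinj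
    rw [Module.finrank_self, show Module.finrank k D = Module.finrank k A from
      (CartDual.toDual k A).finrank_eq.trans Subspace.dual_finrank_eq] at h1
    omega
  obtain ⟨f, hf0, hf⟩ := Submodule.exists_le_ker_of_lt_top U hU.lt_top
  obtain ⟨x, hx, -⟩ := GrothLib.Dual.existsUnique_eval f
  refine ⟨x, fun h => hf0 (LinearMap.ext fun φ => by rw [hx, h, map_zero, LinearMap.zero_apply]),
    GrothLib.Dual.comul_eq_primitive fun φ ψ => ?_⟩
  rw [← hx, ← hx, ← hx]
  have hbar : ∀ φ : D, φ - εD φ • (1 : D) ∈ m := fun φ => by simp [m, RingHom.mem_ker]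
  have hsplit : φ * ψ = (εD φ * εD ψ) • (1 : D) + εD φ • (ψ - εD ψ • (1 : D)) + εD ψ • (φ - εD φ • (1 : D)) +
      (φ - εD φ • (1 : D)) * (ψ - εD ψ • (1 : D)) := by
    simp only [mul_sub, sub_mul, smul_mul_assoc, mul_smul_comm, one_mul, mul_one, smul_sub, smul_smul]
    rw [mul_comm (εD ψ) (εD φ)]
    abel
  have hm2 : f ((φ - εD φ • (1 : D)) * (ψ - εD ψ • (1 : D))) = 0 :=
    hf (Submodule.mem_sup_right (Ideal.mul_mem_mul (hbar φ) (hbar ψ)))
  have h1 : f (1 : D) = 0 := hf (Submodule.mem_sup_left (Submodule.mem_span_singleton_self _))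
  rw [hsplit]
  simp only [map_add, map_sub, map_smul, hm2, h1, smul_eq_mul, mul_zero, sub_zero, add_zero]
  change _ = f φ * εD ψ + εD φ * f ψ
  ring

omit [IsAlgClosed k] [Coalgebra.IsCocomm k A] in
/-- a non-zero primitive element whose `p`-th power vanishes generates -/
theorem nonempty_alphaP [CharP k ℓ] (hA : Module.finrank k A = ℓ) (x : A) (hx0 : x ≠ 0)
    (hprim : Coalgebra.comul x = x ⊗ₜ[k] (1 : A) + (1 : A) ⊗ₜ[k] x) (hxp : x ^ ℓ = 0) :
    Nonempty (A ≃ₐc[k] AlphaP.A ℓ k) := by
  classical
  have hp := (Fact.out : ℓ.Prime)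
  have hεx : Coalgebra.counit (R := k) x = 0 := by
    have h := congrArg (fun z => TensorProduct.rid k A ((Coalgebra.counit (R := k)).lTensor A z)) hprim
    simp only [Coalgebra.lTensor_counit_comul, map_add, LinearMap.lTensor_tmul, TensorProduct.rid_tmul,
      Bialgebra.counit_one, one_smul] at h
    have h' := congrArg (Coalgebra.counit (R := k)) h
    rw [map_add, map_smul, Bialgebra.counit_one, smul_eq_mul, mul_one] at h'
    linear_combination -h'
  -- the smallest vanishing power
  obtain ⟨n, hn, hmin⟩ : ∃ n, x ^ n = 0 ∧ ∀ m < n, x ^ m ≠ 0 :=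
    ⟨Nat.find ⟨ℓ, hxp⟩, Nat.find_spec (⟨ℓ, hxp⟩ : ∃ n, x ^ n = 0), fun m hm => Nat.find_min _ hm⟩
  have hnl : n ≤ ℓ := not_lt.1 fun h => hmin ℓ h hxp
  have hli : LinearIndependent k (fun i : Fin n => x ^ (i : ℕ)) := by
    rw [Fintype.linearIndependent_iff]
    intro c hc
    by_contra hnz
    push Not at hnz
    let S := Finset.univ.filter fun i : Fin n => c i ≠ 0
    have hS : S.Nonempty := by obtain ⟨i, hi⟩ := hnz; exact ⟨i, by simp [S, hi]⟩
    let i₀ := S.min' hS
    have hi₀ : c i₀ ≠ 0 := (Finset.mem_filter.1 (S.min'_mem hS)).2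
    have h := congrArg (fun a => x ^ (n - 1 - (i₀ : ℕ)) * a) hc
    simp only [mul_zero, Finset.mul_sum, mul_smul_comm, ← pow_add] at h
    rw [Finset.sum_eq_single i₀] at h
    · rw [Nat.sub_add_cancel (by omega)] at h
      exact (smul_eq_zero.1 h).elim hi₀ (hmin (n - 1) (Nat.sub_lt (Nat.lt_of_le_of_lt (Nat.zero_le _) i₀.isLt) one_pos))
    · intro i _ hne
      by_cases hci : c i = 0
      · simp [hci]
      · have hlt : i₀ < i := lt_of_le_of_ne (S.min'_le i (by simp [S, hci])) (Ne.symm hne)
        have : n ≤ n - 1 - (i₀ : ℕ) + (i : ℕ) := by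
          have := Fin.lt_def.1 hlt
          omega
        rw [pow_eq_zero_of_le this hn, smul_zero]
    · simp
  have hnℓ : n = ℓ := by
    by_contra hne
    have h2 : 2 ≤ n := by
      rcases n with _ | _ | n
      · exact absurd (by rw [← one_mul x, ← pow_zero x, hn, zero_mul]) hx0
      · exact absurd (pow_one x ▸ hn) hx0
      · omega
    have h := congrArg (Coalgebra.comul (R := k)) hn
    rw [Bialgebra.comul_pow, hprim, map_zero, (Commute.all _ _).add_pow] at h
    let E := Fintype.linearCombination k (fun i : Fin n => x ^ (i : ℕ))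
    obtain ⟨c, hc⟩ := LinearMap.exists_leftInverse_of_injective E
      (LinearMap.ker_eq_bot_of_injective hli.fintypeLinearCombination_injective)
    have hcx : ∀ i j : Fin n, c (x ^ (i : ℕ)) j = if i = j then 1 else 0 := fun i j => by
      have h1 := congrFun (LinearMap.congr_fun hc (Pi.single i 1)) j
      have h2 : E (Pi.single i 1) = x ^ (i : ℕ) := by
        rw [Fintype.linearCombination_apply_single, one_smul]
      rw [LinearMap.comp_apply, h2] at h1
      rw [h1, LinearMap.id_apply, Pi.single_apply]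
      exact if_congr eq_comm rfl rfl
    let c₁ : A →ₗ[k] k := LinearMap.proj (⟨1, by omega⟩ : Fin n) ∘ₗ c
    let c₂ : A →ₗ[k] k := LinearMap.proj (⟨n - 1, by omega⟩ : Fin n) ∘ₗ c
    have h' := congrArg (fun z => LinearMap.mul' k k (TensorProduct.map c₁ c₂ z)) h
    simp only [map_sum, map_zero] at h'
    rw [Finset.sum_eq_single 1] at h'
    · rw [Algebra.TensorProduct.tmul_pow, Algebra.TensorProduct.tmul_pow, one_pow, one_pow,
        Algebra.TensorProduct.tmul_mul_tmul, one_mul, mul_one, Nat.choose_one_right,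
        ← nsmul_eq_mul', map_nsmul, map_nsmul, TensorProduct.map_tmul, LinearMap.mul'_apply] at h'
      have e₁ : c₁ (x ^ 1) = 1 := (hcx ⟨1, by omega⟩ ⟨1, by omega⟩).trans (if_pos rfl)
      have e₂ : c₂ (x ^ (n - 1)) = 1 := (hcx ⟨n - 1, by omega⟩ ⟨n - 1, by omega⟩).trans (if_pos rfl)
      rw [e₁, e₂, one_mul, nsmul_one] at h'
      exact hne ((Nat.le_antisymm hnl (Nat.le_of_dvd (by omega) ((CharP.cast_eq_zero_iff k ℓ n).1 h'))))
    · intro j hj hj1
      simp only [Finset.mem_range] at hj
      rw [Algebra.TensorProduct.tmul_pow, Algebra.TensorProduct.tmul_pow, one_pow, one_pow,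
        Algebra.TensorProduct.tmul_mul_tmul, one_mul, mul_one, ← nsmul_eq_mul', map_nsmul, map_nsmul,
        TensorProduct.map_tmul, LinearMap.mul'_apply]
      by_cases hjn : j < n
      · have e₁ : c₁ (x ^ j) = 0 := (hcx ⟨j, hjn⟩ ⟨1, by omega⟩).trans (if_neg (by simp [Fin.ext_iff, hj1]))
        rw [e₁]
        simp
      · rw [pow_eq_zero_of_le (not_lt.1 hjn) hn]
        simp
    · simp
      omega
  subst hnℓ
  let φ : AlphaP.A n k →ₐ[k] A := AlphaP.lift n k x hxp
  have hbij : Function.Bijective φ := by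
    haveI : Nonempty (Fin n) := ⟨⟨0, hp.pos⟩⟩
    have hspan := hli.span_eq_top_of_card_eq_finrank' (by simp [hA])
    have hs : Function.Surjective φ := fun a => by
      have : a ∈ φ.toLinearMap.range := by
        refine (hspan ▸ Submodule.span_le.2 ?_ : (⊤ : Submodule k A) ≤ _) Submodule.mem_top
        rintro _ ⟨i, rfl⟩
        exact ⟨AlphaP.x n k ^ (i : ℕ), by simp [φ]⟩
      exact this
    exact ⟨(LinearMap.injective_iff_surjective_of_finrank_eq_finrank (f := φ.toLinearMap)
      (by rw [AlphaP.finrank_eq, hA])).2 hs, hs⟩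
  refine ⟨(BialgEquiv.ofAlgEquiv (AlgEquiv.ofBijective φ hbij) (AlphaP.algHom_ext ?_) (AlphaP.algHom_ext ?_)).symm⟩
  · change Coalgebra.counit (R := k) (φ (AlphaP.x n k)) = Coalgebra.counit (R := k) (AlphaP.x n k)
    rw [AlphaP.lift_x, hεx, AlphaP.counit_x]
  · change Algebra.TensorProduct.map φ φ (Coalgebra.comul (R := k) (AlphaP.x n k)) =
      Coalgebra.comul (R := k) (φ (AlphaP.x n k))
    rw [AlphaP.lift_x, hprim, AlphaP.comul_x]
    simp [φ]

theorem classification (hA : Module.finrank k A = ℓ) :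
    Nonempty (A ≃ₐc[k] ConstGrp.F k (Multiplicative (ZMod ℓ))) ∨
      ∃ _ : CharP k ℓ, Nonempty (A ≃ₐc[k] MonoidAlgebra k (Multiplicative (ZMod ℓ))) ∨
        Nonempty (A ≃ₐc[k] AlphaP.A ℓ k) := by
  rcases points_dichotomy hA with h | ⟨hpow, hq⟩
  · exact Or.inl (nonempty_constGrp hA h)
  refine Or.inr ⟨hq, ?_⟩
  have hD : Module.finrank k (CartDual.D k A) = ℓ :=
    ((CartDual.toDual k A).finrank_eq.trans Subspace.dual_finrank_eq).trans hA
  rcases points_dichotomy (A := CartDual.D k A) hD with hd | ⟨hpowD, -⟩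
  · obtain ⟨e⟩ := nonempty_constGrp (A := CartDual.D k A) hD hd
    obtain ⟨f, -⟩ := GrothLib.Dual.exists_dual_constGrp k (Multiplicative (ZMod ℓ))
    let t : CartDual.D k (CartDual.D k A) →ₐc[k] CartDual.D k (ConstGrp.F k (Multiplicative (ZMod ℓ))) :=
      CartDual.transpose k (e.symm : ConstGrp.F k (Multiplicative (ZMod ℓ)) →ₐc[k] CartDual.D k A)
    have ht : Function.Bijective t := by
      refine ⟨fun y z h => WithConv.ext (LinearMap.ext fun a => ?_),
        fun y => ⟨toConv (y.ofConv ∘ₗ e.toAlgEquiv.toLinearMap), WithConv.ext (LinearMap.ext fun a => ?_)⟩⟩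
      · have := DFunLike.congr_fun (congrArg WithConv.ofConv h) (e a)
        simpa [t] using this
      · simp [t]
    exact Or.inl ⟨((BialgEquiv.ofBijective (R := k) (A := A) (B := CartDual.D k (CartDual.D k A))
      (CartDual.eval k A) GrothLib.Dual.eval_bijective).trans (BialgEquiv.ofBijective t ht)).trans f⟩
  · obtain ⟨x, hx, hprim⟩ := exists_primitive_ne_zero (k := k) (A := A) (hA ▸ (Fact.out : ℓ.Prime).one_lt)
      fun φ hφ => ⟨ℓ, hpowD φ hφ⟩
    refine Or.inr (nonempty_alphaP hA x hx hprim (hpow x ?_))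
    have h := congrArg (fun z => TensorProduct.rid k A ((Coalgebra.counit (R := k)).lTensor A z)) hprim
    simp only [Coalgebra.lTensor_counit_comul, map_add, LinearMap.lTensor_tmul, TensorProduct.rid_tmul,
      Bialgebra.counit_one, one_smul] at h
    have h' := congrArg (Coalgebra.counit (R := k)) h
    rw [map_add, map_smul, Bialgebra.counit_one, smul_eq_mul, mul_one] at h'
    change Coalgebra.counit (R := k) x = 0
    linear_combination -h'

end GrothLib.Hopf.OrderPrime
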