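import Groth.Agent.Lib.Hopf.Descent
import Mathlib.LinearAlgebra.TensorProduct.Quotient
import Mathlib.RingTheory.Filtration
import Mathlib.RingTheory.AdicCompletion.Noetherian

/-!
Rigidity of homomorphisms from groups of multiplicative type into affine groups.
-/

set_option linter.style.haveILetI false

universe u

open TensorProduct

namespace GrothLib.Hopf

variable {R : Type u} [CommRing R]

/-- The elements of a group algebra with all coefficients in `J`. -/
noncomputable def coeffIdeal {M : Type u} [CommMonoid M] (J : Ideal R) : Ideal (MonoidAlgebra R M) where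
  carrier := {x | ∀ m, coeffAt m x ∈ J}
  add_mem' := fun {a b} ha hb m => by rw [map_add]; exact J.add_mem (ha m) (hb m)
  zero_mem' := fun m => by rw [map_zero]; exact J.zero_mem
  smul_mem' := fun a x hx m => by
    classical
    rw [smul_eq_mul, coeffAt_apply, MonoidAlgebra.coeff_mul, Finsupp.sum]
    refine Submodule.sum_mem _ fun i _ => Submodule.sum_mem _ fun j _ => ?_
    dsimp only
    split
    exacts [J.mul_mem_left _ (hx j), J.zero_mem]

theorem mem_coeffIdeal {M : Type u} [CommMonoid M] {J : Ideal R} {x : MonoidAlgebra R M} :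
    x ∈ coeffIdeal J ↔ ∀ m, coeffAt m x ∈ J := Iff.rfl

theorem coeffAt_zero {M : Type u} {x : MonoidAlgebra R M} (h : ∀ m, coeffAt m x = 0) : x = 0 :=
  ext_coeffAt fun m => by rw [h m, map_zero]

variable {R' : Type u} [CommRing R'] [Algebra R R'] {M : Type u} [CommMonoid M]
  {A : Type u} [CommRing A] [Bialgebra R A] {C : Type u} [CommRing C] [Bialgebra R C]

theorem coeffIdeal_of_mem_map (e : R' ⊗[R] A ≃ₐc[R'] MonoidAlgebra R' M) {I : Ideal R} {z : A}
    (hz : z ∈ I.map (algebraMap R A)) :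
    e ((1 : R') ⊗ₜ[R] z) ∈ coeffIdeal (I.map (algebraMap R R')) := by
  let g : A →ₐ[R] MonoidAlgebra R' M :=
    ((e : R' ⊗[R] A ≃ₐ[R'] MonoidAlgebra R' M).toAlgHom.restrictScalars R).comp Algebra.TensorProduct.includeRight
  refine (Ideal.map_le_iff_le_comap (f := g.toRingHom) (K := coeffIdeal (I.map (algebraMap R R')))).mp ?_ hz
  rw [Ideal.map_map, show g.toRingHom.comp (algebraMap R A) = algebraMap R (MonoidAlgebra R' M) from
    RingHom.ext fun r => g.commutes r, Ideal.map_le_iff_le_comap]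
  intro r hr m
  classical
  rw [IsScalarTower.algebraMap_apply R R' (MonoidAlgebra R' M), MonoidAlgebra.coe_algebraMap,
    Function.comp_apply, coeffAt_single]
  split
  exacts [Ideal.mem_map_of_mem _ hr, Ideal.zero_mem _]

/-- A bialgebra map read in a trivialisation of its target. -/
noncomputable def bcHom (φ : C →ₐc[R] A) (e : R' ⊗[R] A ≃ₐc[R'] MonoidAlgebra R' M) :
    R' ⊗[R] C →ₐc[R'] MonoidAlgebra R' M :=
  (e : R' ⊗[R] A →ₐc[R'] MonoidAlgebra R' M).comp (Bialgebra.TensorProduct.map (BialgHom.id R' R') φ)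

theorem bcHom_tmul (φ : C →ₐc[R] A) (e : R' ⊗[R] A ≃ₐc[R'] MonoidAlgebra R' M) (t : R') (c : C) :
    bcHom φ e (t ⊗ₜ c) = e (t ⊗ₜ φ c) := rfl

theorem bcHom_sub (φ ψ : C →ₐc[R] A) (e : R' ⊗[R] A ≃ₐc[R'] MonoidAlgebra R' M) (c : C) :
    bcHom φ e (1 ⊗ₜ c) - bcHom ψ e (1 ⊗ₜ c) = e ((1 : R') ⊗ₜ[R] (φ c - ψ c)) := by
  rw [bcHom_tmul, bcHom_tmul, TensorProduct.tmul_sub, map_sub]

theorem bcHom_congr (φ ψ : C →ₐc[R] A) (e : R' ⊗[R] A ≃ₐc[R'] MonoidAlgebra R' M) {J : Ideal R'}
    (h : ∀ c, bcHom φ e (1 ⊗ₜ c) - bcHom ψ e (1 ⊗ₜ c) ∈ coeffIdeal J) :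
    ∀ z m, coeffAt m (bcHom φ e z - bcHom ψ e z) ∈ J := by
  intro z
  induction z using TensorProduct.induction_on with
  | zero => intro m; simp
  | tmul t c =>
    have : t ⊗ₜ[R] c = t • ((1 : R') ⊗ₜ[R] c) := by rw [TensorProduct.smul_tmul', smul_eq_mul, mul_one]
    intro m
    rw [this, map_smul, map_smul, ← smul_sub, map_smul, smul_eq_mul]
    exact J.mul_mem_left _ (h c m)
  | add x y hx hy =>
    intro m
    rw [map_add, map_add, add_sub_add_comm, map_add]
    exact J.add_mem (hx m) (hy m)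

theorem bcHom_trivialHom (e : R' ⊗[R] A ≃ₐc[R'] MonoidAlgebra R' M) :
    bcHom (trivialHom R C A) e = trivialHom R' (R' ⊗[R] C) (MonoidAlgebra R' M) := by
  refine BialgHom.coe_toAlgHom_injective (Algebra.TensorProduct.ext' fun t c => ?_)
  change bcHom (trivialHom R C A) e (t ⊗ₜ c) = trivialHom R' (R' ⊗[R] C) _ (t ⊗ₜ c)
  rw [bcHom_tmul, trivialHom_apply, trivialHom_apply, TensorProduct.counit_tmul, CommSemiring.counit_apply,
    Algebra.algebraMap_eq_smul_one, TensorProduct.tmul_smul, TensorProduct.smul_tmul',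
    Algebra.algebraMap_eq_smul_one (A := MonoidAlgebra R' M)]
  rw [show (Coalgebra.counit (R := R) c • t) ⊗ₜ[R] (1 : A) = (Coalgebra.counit (R := R) c • t) • (1 : R' ⊗[R] A) by
    rw [Algebra.TensorProduct.one_def, TensorProduct.smul_tmul', smul_eq_mul, mul_one]]
  rw [map_smul, map_one]

variable {S : Type u} [CommRing S]

/-- Rigidity of a pair of maps in every trivialisation. -/
def IsRigid (φ ψ : C →ₐc[R] A) : Prop :=
  ∀ (R' : Type u) [CommRing R'] [Algebra R R'] (M : Type u) [CommGroup M]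
    (e : R' ⊗[R] A ≃ₐc[R'] MonoidAlgebra R' M), IsRigidPair (bcHom φ e) (bcHom ψ e)

theorem isRigid_of_cocomm [Coalgebra.IsCocomm R C] (φ ψ : C →ₐc[R] A) : IsRigid φ ψ :=
  fun _ _ _ _ _ e => isRigidPair_of_cocomm (bcHom φ e) (bcHom ψ e)

theorem isRigid_trivial (φ : C →ₐc[R] A) : IsRigid φ (trivialHom R C A) := fun R' _ _ M _ e => by
  rw [bcHom_trivialHom]
  exact isRigidPair_trivial _

theorem mem_map_of_one_tmul_eq {A : Type u} [CommRing A] [Algebra R A] {I : Ideal R} {x y : A}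
    (h : (1 : R ⧸ I) ⊗ₜ[R] x = (1 : R ⧸ I) ⊗ₜ[R] y) : x - y ∈ I.map (algebraMap R A) := by
  have := congrArg (quotTensorEquivQuotSMul A I) h
  rw [← map_one (Ideal.Quotient.mk I), quotTensorEquivQuotSMul_mk_tmul,
    quotTensorEquivQuotSMul_mk_tmul, one_smul, one_smul, Submodule.Quotient.eq, Ideal.smul_top_eq_map] at this
  exact this

section MultType

variable {A : Type u} [CommRing A] [HopfAlgebra R A]

theorem eq_of_nilpotent (h : SGA3b.IsMultType R A) (φ ψ : C →ₐc[R] A) (hr : IsRigid φ ψ)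
    {I : Ideal R} (hI : IsNilpotent I) (hc : ∀ c, φ c - ψ c ∈ I.map (algebraMap R A)) : φ = ψ := by
  refine BialgHom.ext fun c => eq_of_charts h fun R' _ _ M _ e => ?_
  obtain ⟨n, hn⟩ := hI
  have hnil : IsNilpotent (I.map (algebraMap R R')) := ⟨n, by rw [← Ideal.map_pow, hn]; simp⟩
  have := (hr R' M e).eq_of_isNilpotent hnil
    (bcHom_congr φ ψ e fun c => bcHom_sub φ ψ e c ▸ coeffIdeal_of_mem_map e (hc c)) (1 ⊗ₜ c)
  rw [bcHom_tmul, bcHom_tmul] at this
  exact e.toAlgEquiv.injective this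

theorem eq_of_local_finiteType [IsLocalRing R] [Algebra.FiniteType R C] (h : SGA3b.IsMultType R A)
    (φ ψ : C →ₐc[R] A) (hr : IsRigid φ ψ)
    (hc : ∀ c, φ c - ψ c ∈ (IsLocalRing.maximalIdeal R).map (algebraMap R A)) : φ = ψ := by
  obtain ⟨R', _, _, _, M, _, hff, hmax, ⟨e⟩⟩ := exists_local_chart h
  refine BialgHom.ext fun c => Module.FaithfullyFlat.tensorProduct_mk_injective (A := R) (B := R') A ?_
  have := (hr R' M e).eq_of_finiteType
    (bcHom_congr φ ψ e fun c m => hmax ((bcHom_sub φ ψ e c ▸ coeffIdeal_of_mem_map e (hc c)) m)) (1 ⊗ₜ c)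
  rw [bcHom_tmul, bcHom_tmul] at this
  exact e.toAlgEquiv.injective this

theorem eq_of_local_noetherian [IsLocalRing R] [IsNoetherianRing R] [Algebra.FiniteType R A]
    (h : SGA3b.IsMultType R A) (φ ψ : C →ₐc[R] A) (hr : IsRigid φ ψ)
    (hc : ∀ c, φ c - ψ c ∈ (IsLocalRing.maximalIdeal R).map (algebraMap R A)) : φ = ψ := by
  classical
  obtain ⟨R', _, _, _, M, _, hff, hmax, ⟨e⟩⟩ := exists_local_chart h
  haveI : IsNoetherianRing A := Algebra.FiniteType.isNoetherianRing R A
  set 𝔪 := IsLocalRing.maximalIdeal R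
  refine BialgHom.ext fun c => Module.FaithfullyFlat.tensorProduct_mk_injective (A := R) (B := R') A ?_
  set z := φ c - ψ c with hz
  -- `z` lies in all powers of `𝔪A`
  have hall : ∀ n : ℕ, z ∈ (𝔪 ^ n).map (algebraMap R A) := by
    intro n
    have hcn := (hr R' M e).mem_all_pow
      (bcHom_congr φ ψ e fun c => bcHom_sub φ ψ e c ▸ coeffIdeal_of_mem_map e (hc c)) n (1 ⊗ₜ c)
    rw [bcHom_sub, ← Ideal.map_pow] at hcn
    set I := 𝔪 ^ n
    let L : R' ⊗[R] A →ₗ[R'] R' ⊗[R] (A ⧸ (I • ⊤ : Submodule R A)) :=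
      AlgebraTensorModule.lTensor R' R' (Submodule.mkQ _)
    have hkill : ∀ r ∈ I.map (algebraMap R R'), ∀ w : R' ⊗[R] (A ⧸ (I • ⊤ : Submodule R A)), r • w = 0 := by
      intro r hr'
      induction hr' using Submodule.span_induction with
      | mem y hy =>
        obtain ⟨i, hi, rfl⟩ := hy
        intro w
        induction w using TensorProduct.induction_on with
        | zero => rw [smul_zero]
        | tmul t a =>
          obtain ⟨a, rfl⟩ := Submodule.Quotient.mk_surjective _ a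
          rw [algebraMap_smul, ← TensorProduct.tmul_smul, ← Submodule.Quotient.mk_smul,
            (Submodule.Quotient.mk_eq_zero _).mpr (Submodule.smul_mem_smul hi Submodule.mem_top), tmul_zero]
        | add a b ha hb => rw [smul_add, ha, hb, add_zero]
      | zero => intro w; rw [zero_smul]
      | add a b _ _ ha hb => intro w; rw [add_smul, ha, hb, add_zero]
      | smul a b _ hb => intro w; rw [smul_eq_mul, mul_comm, mul_smul, hb]
    have hL : L ((1 : R') ⊗ₜ[R] z) = 0 := by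
      set x := e ((1 : R') ⊗ₜ[R] z) with hx
      have hsymm : (1 : R') ⊗ₜ[R] z = e.symm x := (e.toAlgEquiv.symm_apply_apply _).symm
      rw [hsymm, ← MonoidAlgebra.sum_coeff_single x, Finsupp.sum, map_sum, map_sum]
      refine Finset.sum_eq_zero fun m _ => ?_
      rw [← mul_one (x.coeff m), ← smul_eq_mul, ← MonoidAlgebra.smul_single, map_smul, map_smul]
      exact hkill _ (hcn m) _
    have h0 : Submodule.mkQ (I • ⊤ : Submodule R A) z = 0 :=
      Module.FaithfullyFlat.tensorProduct_mk_injective (A := R) (B := R') _ (hL.trans (tmul_zero _ _).symm)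
    rw [Submodule.mkQ_apply, Submodule.Quotient.mk_eq_zero, Ideal.smul_top_eq_map] at h0
    exact h0
  obtain ⟨⟨r, hr'⟩, hrz⟩ := ((𝔪.map (algebraMap R A)).mem_iInf_smul_pow_eq_bot_iff z).mp (by
    rw [Submodule.mem_iInf]
    intro n
    rw [smul_eq_mul, Ideal.mul_top, ← Ideal.map_pow]
    exact hall n)
  set X := e ((1 : R') ⊗ₜ[R] z) with hX
  set ρ := e ((1 : R') ⊗ₜ[R] r)
  have hρ : ρ * X = X := by
    rw [hX, ← map_mul, Algebra.TensorProduct.tmul_mul_tmul, one_mul]
    exact congrArg (fun a => e ((1 : R') ⊗ₜ[R] a)) hrz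
  set J : Ideal R' := Ideal.span (X.coeff.support.image fun m => coeffAt m X)
  have hXJ : X ∈ coeffIdeal J := fun m => by
    by_cases hm : X.coeff m = 0
    · rw [coeffAt_apply, hm]; exact J.zero_mem
    · exact Ideal.subset_span (Finset.mem_image_of_mem _ (Finsupp.mem_support_iff.mpr hm))
  have hρm : ρ ∈ coeffIdeal (IsLocalRing.maximalIdeal R') := fun m => hmax (coeffIdeal_of_mem_map e hr' m)
  have hle : J ≤ IsLocalRing.maximalIdeal R' * J := by
    refine Ideal.span_le.mpr fun s hs => ?_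
    obtain ⟨m, -, rfl⟩ := Finset.mem_image.mp (Finset.mem_coe.mp hs)
    rw [SetLike.mem_coe, ← hρ, coeffAt_apply, MonoidAlgebra.coeff_mul, Finsupp.sum]
    refine Submodule.sum_mem _ fun i _ => Submodule.sum_mem _ fun j _ => ?_
    dsimp only
    split
    exacts [Ideal.mul_mem_mul (hρm i) (hXJ j), Ideal.zero_mem _]
  have hbot : J = ⊥ := Submodule.eq_bot_of_le_smul_of_le_jacobson_bot _ J ⟨_, rfl⟩ hle
    (IsLocalRing.maximalIdeal_le_jacobson ⊥)
  have hX0 : X = 0 := coeffAt_zero fun m => by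
    have := hXJ m
    rwa [hbot, Ideal.mem_bot] at this
  refine sub_eq_zero.mp ?_
  rw [← map_sub]
  exact e.toAlgEquiv.injective (hX0.trans (map_zero _).symm)

theorem eq_of_isotrivial_adic [IsNoetherianRing R] {I : Ideal R} [IsAdicComplete I R]
    (h : SGA3b.IsIsotrivial R A) (φ ψ : C →ₐc[R] A)
    (hc : ∀ n c, φ c - ψ c ∈ (I ^ (n + 1)).map (algebraMap R A)) : φ = ψ := by
  obtain ⟨R', _, _, -, _, hff, M, _, ⟨e⟩⟩ := h
  refine BialgHom.ext fun c => Module.FaithfullyFlat.tensorProduct_mk_injective (A := R) (B := R') A ?_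
  refine e.toAlgEquiv.injective (sub_eq_zero.mp (coeffAt_zero fun m => ?_))
  have hmem : ∀ n, coeffAt m (e ((1 : R') ⊗ₜ[R] φ c) - e ((1 : R') ⊗ₜ[R] ψ c)) ∈
      (I ^ n • ⊤ : Submodule R R') := by
    intro n
    have := coeffIdeal_of_mem_map e (hc n c) m
    rw [← map_sub, ← TensorProduct.tmul_sub]
    rw [Ideal.smul_top_eq_map]
    exact Ideal.map_mono (Ideal.pow_le_pow_right n.le_succ) this
  have hbot := I.iInf_pow_smul_eq_bot_of_le_jacobson (M := R') (IsAdicComplete.le_jacobson_bot I)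
  exact (Submodule.eq_bot_iff _).mp hbot _ ((Submodule.mem_iInf _).mpr hmem)

end MultType

end GrothLib.Hopf
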